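import Cfsg.Agent.Lib.SmallSimple.NineAmalgam.Data
import Cfsg.Agent.S3779

/-!
# The facts about `M = K : S3` of the amalgam data

The four group `V` is central in `K`, `N(V) = M`, `C(V) = K`, only `⟨z⟩` in `V` is centralized by `S`,
`M ∩ L = S`, `K` has class at most two, and the centralizer in `K` of an involution of `M - K` has order
at most the square root of `|K|`.
-/

set_option autoImplicit false
set_option linter.unusedSectionVars false

namespace CfsgLib.NineAmalgam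

open Subgroup
open scoped commutatorElement

namespace Data

variable {G : Type*} [Group G] [Finite G] (D : Data G)

theorem z_ne_one : D.z ≠ 1 := fun h => by
  have := D.hz2
  rw [h, orderOf_one] at this
  omega

theorem z_sq : D.z * D.z = 1 := by
  rw [← pow_two, ← D.hz2, pow_orderOf_eq_one]

theorem x_cube : D.x ^ 3 = 1 := by rw [← D.hx3, pow_orderOf_eq_one]

theorem x_ne_one : D.x ≠ 1 := fun h => by
  have := D.hx3
  rw [h, orderOf_one] at this
  omega

theorem K_le_M : D.K ≤ D.M := D.hKS.trans D.hSM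

theorem K_pGroup : IsPGroup 2 D.K := D.hS.to_le D.hKS

theorem O_pGroup : IsPGroup 2 D.O := D.hS.to_le D.hOS

theorem card_S : ∃ a, Nat.card D.S = 2 ^ a := IsPGroup.iff_card.1 D.hS

include D in
/-- A `2`-element commuting with an element of order three is trivial. -/
theorem fpf {u y : G} (hy : orderOf y = 3) {P : Subgroup G} (hP : IsPGroup 2 P) (hu : u ∈ P)
    (hc : Commute u y) : u = 1 := by
  obtain ⟨n, hn⟩ := hP ⟨u, hu⟩
  have hu2 : u ^ 2 ^ n = 1 := by
    have := congrArg Subtype.val hn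
    simpa using this
  have hcy : u ∈ centralizer ({y} : Set G) := mem_centralizer_iff.2 fun w hw => by
    rw [Set.mem_singleton_iff.1 hw]; exact hc.symm.eq
  obtain ⟨m, hm⟩ := D.hcen3 y hy ⟨u, hcy⟩
  have hu3 : u ^ 3 ^ m = 1 := by
    have := congrArg Subtype.val hm
    simpa using this
  refine orderOf_eq_one_iff.1 (Nat.eq_one_of_dvd_coprimes ?_ (orderOf_dvd_of_pow_eq_one hu2)
    (orderOf_dvd_of_pow_eq_one hu3))
  exact Nat.Coprime.pow n m (by norm_num)

theorem fpf_S {u : G} (hu : u ∈ D.S) (hc : Commute u D.x) : u = 1 := D.fpf D.hx3 D.hS hu hc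

theorem x_not_mem_S : D.x ∉ D.S := fun h => D.x_ne_one (D.fpf_S h (Commute.refl _))

theorem conj_mem_K {g k : G} (hg : g ∈ D.M) (hk : k ∈ D.K) : g * k * g⁻¹ ∈ D.K :=
  (mem_normalizer_iff.1 (D.hKM hg) k).1 hk

theorem conj_mem_K' {g k : G} (hg : g ∈ D.M) (hk : k ∈ D.K) : g⁻¹ * k * g ∈ D.K := by
  simpa using D.conj_mem_K (inv_mem hg) hk

theorem s_not_mem_K : D.s ∉ D.K := by
  intro h
  have h1 : D.s * (D.x * D.s⁻¹ * D.x⁻¹) ∈ D.K := mul_mem h (D.conj_mem_K D.hx (inv_mem h))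
  have h2 : D.s * (D.x * D.s⁻¹ * D.x⁻¹) = D.x⁻¹ ^ 2 := by
    rw [pow_two, ← mul_assoc, ← mul_assoc, D.hsx]
  rw [h2] at h1
  have h3 : D.x⁻¹ ^ 2 = D.x := by
    rw [inv_pow, inv_eq_iff_mul_eq_one, ← pow_succ, D.x_cube]
  rw [h3] at h1
  exact D.x_not_mem_S (D.hKS h1)

theorem K_relIndex : (D.K.subgroupOf D.S).index = 2 := by
  have h := (D.K.subgroupOf D.S).card_mul_index
  rw [Nat.card_congr (subgroupOfEquivOfLe D.hKS).toEquiv, ← D.hKcard, mul_comm 2] at h
  exact Nat.eq_of_mul_eq_mul_left (Nat.card_pos (α := D.K)) h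

/-- The two cosets of `K` in `S`. -/
theorem mem_S_iff {t : G} (ht : t ∈ D.S) : t ∈ D.K ↔ t * D.s ∉ D.K := by
  have h := (mul_mem_iff_of_index_two D.K_relIndex (a := ⟨t, ht⟩) (b := ⟨D.s, D.hs⟩))
  simp only [mem_subgroupOf, coe_mul] at h
  have := D.s_not_mem_K
  tauto

theorem s_mul_mem_K {t : G} (ht : t ∈ D.S) (htK : t ∉ D.K) : t * D.s ∈ D.K :=
  Classical.not_not.1 fun h => htK ((D.mem_S_iff ht).2 h)

/-- A subgroup of `M` with `S` and an element of order three is everything. -/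
theorem eq_M_of_le {N : Subgroup G} (hN : N ≤ D.M) (hS : D.S ≤ N) {y : G} (hy : y ∈ N) (hy3 : orderOf y = 3) :
    N = D.M := by
  refine eq_of_le_of_card_ge hN ?_
  obtain ⟨a, ha⟩ := D.card_S
  have h1 : Nat.card D.S ∣ Nat.card N := card_dvd_of_le hS
  have h2 : 3 ∣ Nat.card N := hy3 ▸ orderOf_dvd_natCard N hy
  have h3 : Nat.Coprime 3 (Nat.card D.S) := ha ▸ Nat.Coprime.pow_right a (by norm_num)
  rw [D.hMcard]
  exact Nat.le_of_dvd Nat.card_pos (h3.mul_dvd_of_dvd_of_dvd h2 h1)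

/-- `2`-subgroups of `M` normalized by `S` lie in `S`. -/
theorem le_S_of_pGroup {P : Subgroup G} (hP : IsPGroup 2 P) (hPM : P ≤ D.M)
    (hn : D.S ≤ normalizer (P : Set G)) : P ≤ D.S := by
  have h2 : IsPGroup 2 (D.S ⊔ P : Subgroup G) := D.hS.to_sup_of_normal_right' hP hn
  obtain ⟨n, hn2⟩ := IsPGroup.iff_card.1 h2
  have hd : Nat.card (D.S ⊔ P : Subgroup G) ∣ 3 * Nat.card D.S := D.hMcard ▸ card_dvd_of_le (sup_le D.hSM hPM)
  have hd' : Nat.card (D.S ⊔ P : Subgroup G) ∣ Nat.card D.S := by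
    rw [hn2] at hd ⊢
    exact (Nat.Coprime.pow_left n (by norm_num : Nat.Coprime 2 3)).dvd_of_dvd_mul_left hd
  have he : D.S = D.S ⊔ P := eq_of_le_of_card_ge le_sup_left (Nat.le_of_dvd Nat.card_pos hd')
  exact le_sup_right.trans he.ge

theorem z_mem_K : D.z ∈ D.K := by
  apply D.hKcons
  refine ⟨D.hSM D.hz, mem_centralizer_iff.2 fun k hk => ?_⟩
  exact (D.hzS k (D.hKS hk)).eq

theorem z_mem_O : D.z ∈ D.O := by
  apply D.hOcons
  refine ⟨D.hSL D.hz, mem_centralizer_iff.2 fun k hk => ?_⟩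
  exact (D.hzS k (D.hOS hk)).eq

theorem z_commute_K {k : G} (hk : k ∈ D.K) : Commute k D.z := D.hzS k (D.hKS hk)

/-- The second generator of `V`. -/
def b : G := D.x * D.z * D.x⁻¹

/-- The third involution of `V`. -/
def c : G := D.x * D.b * D.x⁻¹

theorem b_mem_K : D.b ∈ D.K := D.conj_mem_K D.hx D.z_mem_K

theorem c_mem_K : D.c ∈ D.K := D.conj_mem_K D.hx D.b_mem_K

theorem b_commute_K {k : G} (hk : k ∈ D.K) : Commute k D.b := by
  have h := Commute.conj_iff (a := D.x⁻¹ * k * D.x) (b := D.z) D.x |>.2 (D.z_commute_K (D.conj_mem_K' D.hx hk))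
  simpa [b, mul_assoc] using h

theorem c_commute_K {k : G} (hk : k ∈ D.K) : Commute k D.c := by
  have h := Commute.conj_iff (a := D.x⁻¹ * k * D.x) (b := D.b) D.x |>.2 (D.b_commute_K (D.conj_mem_K' D.hx hk))
  simpa [c, mul_assoc] using h

theorem b_sq : D.b * D.b = 1 := by
  simp [b, mul_assoc]
  rw [← mul_assoc D.z, D.z_sq, one_mul, mul_inv_cancel]

theorem x_conj_c : D.x * D.c * D.x⁻¹ = D.z := by
  have h : D.x * D.x * D.x = 1 := by rw [← D.x_cube, pow_succ, pow_two]
  calc D.x * D.c * D.x⁻¹ = (D.x * D.x * D.x) * D.z * (D.x * D.x * D.x)⁻¹ := by simp [c, b, mul_assoc]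
    _ = D.z := by simp [h]

theorem zbc : D.z * D.b * D.c = 1 := by
  refine D.fpf_S (D.hKS (mul_mem (mul_mem D.z_mem_K D.b_mem_K) D.c_mem_K)) ?_
  have h : D.x * (D.z * D.b * D.c) * D.x⁻¹ = D.z * D.b * D.c := by
    calc D.x * (D.z * D.b * D.c) * D.x⁻¹
        = (D.x * D.z * D.x⁻¹) * (D.x * D.b * D.x⁻¹) * (D.x * D.c * D.x⁻¹) := by group
      _ = D.b * D.c * D.z := by rw [D.x_conj_c]; rfl
      _ = D.z * (D.b * D.c) := ((D.z_commute_K (mul_mem D.b_mem_K D.c_mem_K))).eq
      _ = D.z * D.b * D.c := (mul_assoc _ _ _).symm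
  show D.z * D.b * D.c * D.x = D.x * (D.z * D.b * D.c)
  conv_lhs => rw [← h]
  group

theorem c_eq : D.c = D.z * D.b := by
  have h := D.zbc
  rw [mul_eq_one_iff_inv_eq] at h
  rw [← h, mul_inv_rev, inv_eq_of_mul_eq_one_right D.b_sq, inv_eq_of_mul_eq_one_right D.z_sq]
  exact (D.z_commute_K D.b_mem_K).eq

theorem b_ne_one : D.b ≠ 1 := fun h => D.z_ne_one (conj_eq_one_iff.1 h)

theorem b_ne_z : D.b ≠ D.z := fun h =>
  D.z_ne_one (D.fpf_S D.hz (mul_inv_eq_iff_eq_mul.1 h).symm)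

theorem c_ne_one : D.c ≠ 1 := fun h => D.b_ne_one (conj_eq_one_iff.1 h)

theorem z_mem_V : D.z ∈ D.V := subset_closure (Set.mem_insert _ _)

theorem b_mem_V : D.b ∈ D.V := subset_closure (Set.mem_insert_of_mem _ rfl)

theorem c_mem_V : D.c ∈ D.V := D.c_eq ▸ mul_mem D.z_mem_V D.b_mem_V

theorem mem_V_iff {v : G} : v ∈ D.V ↔ v = 1 ∨ v = D.z ∨ v = D.b ∨ v = D.c := by
  constructor
  · intro h
    refine closure_induction (p := fun v _ => v = 1 ∨ v = D.z ∨ v = D.b ∨ v = D.c) ?_ (Or.inl rfl) ?_ ?_ h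
    · rintro y (rfl | hy)
      · exact Or.inr (Or.inl rfl)
      · exact Or.inr (Or.inr (Or.inl hy))
    · have hzb : D.b * D.z = D.z * D.b := (D.z_commute_K D.b_mem_K).eq
      have hzc : D.c * D.z = D.b := by rw [D.c_eq, mul_assoc, hzb, ← mul_assoc, D.z_sq, one_mul]
      have hcz : D.z * D.c = D.b := by rw [D.c_eq, ← mul_assoc, D.z_sq, one_mul]
      have hcb : D.c * D.b = D.z := by rw [D.c_eq, mul_assoc, D.b_sq, mul_one]
      have hbc : D.b * D.c = D.z := by rw [D.c_eq, ← mul_assoc, hzb, mul_assoc, D.b_sq, mul_one]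
      have hcc : D.c * D.c = 1 := by nth_rw 2 [D.c_eq]; rw [← mul_assoc, hzc, D.b_sq]
      have hc : D.z * D.b = D.c := D.c_eq.symm
      have hc' : D.b * D.z = D.c := hzb.trans hc
      rintro u w - - (rfl | rfl | rfl | rfl) (rfl | rfl | rfl | rfl) <;>
        simp [D.z_sq, D.b_sq, hzc, hcz, hcb, hbc, hcc, hc, hc']
    · rintro u - (rfl | rfl | rfl | rfl)
      · simp
      · exact Or.inr (Or.inl (inv_eq_of_mul_eq_one_right D.z_sq))
      · exact Or.inr (Or.inr (Or.inl (inv_eq_of_mul_eq_one_right D.b_sq)))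
      · refine Or.inr (Or.inr (Or.inr ?_))
        rw [D.c_eq, mul_inv_rev, inv_eq_of_mul_eq_one_right D.b_sq, inv_eq_of_mul_eq_one_right D.z_sq]
        exact (D.z_commute_K D.b_mem_K).eq
  · rintro (rfl | rfl | rfl | rfl)
    exacts [one_mem _, D.z_mem_V, D.b_mem_V, D.c_mem_V]

theorem V_sq {v : G} (hv : v ∈ D.V) : v * v = 1 := by
  rcases D.mem_V_iff.1 hv with rfl | rfl | rfl | rfl
  · exact one_mul 1
  · exact D.z_sq
  · exact D.b_sq
  · calc D.x * D.b * D.x⁻¹ * (D.x * D.b * D.x⁻¹) = D.x * (D.b * D.b) * D.x⁻¹ := by group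
      _ = 1 := by rw [D.b_sq, mul_one, mul_inv_cancel]

theorem V_le_K : D.V ≤ D.K := by
  intro v hv
  rcases D.mem_V_iff.1 hv with rfl | rfl | rfl | rfl
  exacts [one_mem _, D.z_mem_K, D.b_mem_K, D.c_mem_K]

theorem V_le_S : D.V ≤ D.S := D.V_le_K.trans D.hKS

theorem V_pGroup : IsPGroup 2 D.V := D.hS.to_le D.V_le_S

theorem V_ne_bot : D.V ≠ ⊥ := fun h => D.z_ne_one (mem_bot.1 (h ▸ D.z_mem_V))

theorem commute_K_V {k v : G} (hk : k ∈ D.K) (hv : v ∈ D.V) : Commute k v := by
  rcases D.mem_V_iff.1 hv with rfl | rfl | rfl | rfl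
  exacts [Commute.one_right k, D.z_commute_K hk, D.b_commute_K hk, D.c_commute_K hk]

theorem s_inv : D.s⁻¹ = D.s := inv_eq_of_mul_eq_one_right (by rw [← pow_two, D.hs2])

theorem s_conj_b : D.s * D.b * D.s⁻¹ = D.c := by
  have hxx : D.x⁻¹ = D.x * D.x := inv_eq_of_mul_eq_one_right (by rw [← D.x_cube, pow_succ, pow_two, mul_assoc])
  have hz : D.s * D.z * D.s⁻¹ = D.z := by rw [(D.hzS D.s D.hs).eq, mul_inv_cancel_right]
  calc D.s * D.b * D.s⁻¹
      = (D.s * D.x * D.s⁻¹) * (D.s * D.z * D.s⁻¹) * (D.s * D.x * D.s⁻¹)⁻¹ := by simp [b, mul_assoc]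
    _ = D.x⁻¹ * D.z * (D.x⁻¹)⁻¹ := by rw [hz, D.hsx]
    _ = D.c := by rw [hxx]; simp [c, b, mul_assoc]

theorem s_conj_mem_V {v : G} (hv : v ∈ D.V) : D.s * v * D.s⁻¹ ∈ D.V := by
  rcases D.mem_V_iff.1 hv with rfl | rfl | rfl | rfl
  · simp
  · rw [(D.hzS D.s D.hs).eq, mul_inv_cancel_right]; exact D.z_mem_V
  · rw [D.s_conj_b]; exact D.c_mem_V
  · have h : D.s * D.c * D.s⁻¹ = D.b := by
      rw [← D.s_conj_b]
      simp only [D.s_inv]
      have h2 : D.s * D.s = 1 := by rw [← pow_two, D.hs2]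
      calc D.s * (D.s * D.b * D.s) * D.s = (D.s * D.s) * D.b * (D.s * D.s) := by group
        _ = D.b := by rw [h2, one_mul, mul_one]
    rw [h]; exact D.b_mem_V

/-- Membership in the normalizer of a subgroup of a finite group. -/
theorem mem_normalizer_of_conj {H : Subgroup G} {g : G} (h : ∀ v ∈ H, g * v * g⁻¹ ∈ H) :
    g ∈ normalizer (H : Set G) := by
  have hle : H.map (MulAut.conj g).toMonoidHom ≤ H := by
    rintro _ ⟨v, hv, rfl⟩
    simpa using h v hv
  have heq : H.map (MulAut.conj g).toMonoidHom = H := eq_of_le_of_card_ge hle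
    (card_map_of_injective (MulAut.conj g).injective).ge
  refine mem_normalizer_iff.2 fun v => ⟨h v, fun hv => ?_⟩
  have : g * v * g⁻¹ ∈ H.map (MulAut.conj g).toMonoidHom := heq.symm ▸ hv
  obtain ⟨w, hw, e⟩ := this
  have e' : g * w * g⁻¹ = g * v * g⁻¹ := by simpa using e
  exact (mul_left_cancel (mul_right_cancel e')) ▸ hw

theorem M_le_normalizer_V : D.M ≤ normalizer (D.V : Set G) := by
  have hS : D.S ≤ normalizer (D.V : Set G) := by
    intro t ht
    refine mem_normalizer_of_conj fun v hv => ?_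
    by_cases htK : t ∈ D.K
    · rw [(D.commute_K_V htK hv).eq, mul_inv_cancel_right]; exact hv
    · have hk := D.s_mul_mem_K ht htK
      have hv' := D.s_conj_mem_V hv
      have : t * v * t⁻¹ = (t * D.s) * (D.s * v * D.s⁻¹) * (t * D.s)⁻¹ := by
        have h2 : D.s * D.s = 1 := by rw [← pow_two, D.hs2]
        rw [D.s_inv, mul_inv_rev, D.s_inv]
        calc t * v * t⁻¹ = t * (D.s * D.s) * v * (D.s * D.s) * t⁻¹ := by rw [h2]; group
          _ = _ := by group
      rw [this, (D.commute_K_V hk hv').eq, mul_inv_cancel_right]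
      exact hv'
  have hx : D.x ∈ normalizer (D.V : Set G) := by
    refine mem_normalizer_of_conj fun v hv => ?_
    rcases D.mem_V_iff.1 hv with rfl | rfl | rfl | rfl
    · simp
    · exact D.b_mem_V
    · exact D.c_mem_V
    · rw [D.x_conj_c]; exact D.z_mem_V
  have h := D.eq_M_of_le (N := D.M ⊓ normalizer (D.V : Set G)) inf_le_left (le_inf D.hSM hS) ⟨D.hx, hx⟩ D.hx3
  exact inf_eq_left.1 h

theorem normalizer_V : normalizer (D.V : Set G) = D.M :=
  D.hMmax D.V D.V_pGroup D.V_ne_bot D.M_le_normalizer_V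

theorem card_V : Nat.card D.V = 4 := by
  have h : (D.V : Set G) = ({1, D.z, D.b, D.c} : Set G) := Set.ext fun v => by
    simp [D.mem_V_iff]
  have h4 : ({1, D.z, D.b, D.c} : Set G).ncard = 4 := by
    have n1 : (1 : G) ≠ D.z := D.z_ne_one.symm
    have n2 : (1 : G) ≠ D.b := D.b_ne_one.symm
    have n3 : (1 : G) ≠ D.c := D.c_ne_one.symm
    have n4 : D.z ≠ D.b := D.b_ne_z.symm
    have n5 : D.z ≠ D.c := fun h => D.b_ne_one (by simpa using (h.trans D.c_eq).symm)
    have n6 : D.b ≠ D.c := fun h => D.z_ne_one (by simpa using (h.trans D.c_eq).symm)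
    rw [Set.ncard_insert_of_notMem (by simp [n1, n2, n3]), Set.ncard_insert_of_notMem (by simp [n4, n5]),
      Set.ncard_pair n6]
  rw [← SetLike.coe_sort_coe, Nat.card_coe_set_eq, h, h4]

/-- Only `⟨z⟩` in `V` commutes with `s`. -/
theorem mem_V_commute_s {v : G} (hv : v ∈ D.V) (hc : Commute D.s v) : v = 1 ∨ v = D.z := by
  rcases D.mem_V_iff.1 hv with rfl | rfl | rfl | rfl
  · exact Or.inl rfl
  · exact Or.inr rfl
  · exfalso
    have h := D.s_conj_b
    rw [hc.eq, mul_inv_cancel_right, D.c_eq] at h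
    exact D.z_ne_one (by simpa using h.symm)
  · exfalso
    have h2 : D.s * D.s = 1 := by rw [← pow_two, D.hs2]
    have h : D.s * D.c * D.s⁻¹ = D.b := by
      rw [← D.s_conj_b, D.s_inv]
      calc D.s * (D.s * D.b * D.s) * D.s = (D.s * D.s) * D.b * (D.s * D.s) := by group
        _ = D.b := by rw [h2, one_mul, mul_one]
    rw [hc.eq, mul_inv_cancel_right, D.c_eq] at h
    exact D.z_ne_one (by simpa using h)

theorem centralizer_V : centralizer (D.V : Set G) = D.K := by
  refine le_antisymm (fun t ht => ?_) fun k hk => mem_centralizer_iff.2 fun v hv => (D.commute_K_V hk hv).eq.symm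
  have hnorm : normalizer (D.V : Set G) ≤ normalizer ((centralizer (D.V : Set G) : Subgroup G) : Set G) := by
    intro g hg
    refine mem_normalizer_of_conj fun u hu => mem_centralizer_iff.2 fun v hv => ?_
    have hv' : g⁻¹ * v * g ∈ D.V := by
      have := (mem_normalizer_iff.1 (inv_mem hg) v).1 hv
      simpa using this
    have := mem_centralizer_iff.1 hu _ hv'
    calc v * (g * u * g⁻¹) = g * ((g⁻¹ * v * g) * u) * g⁻¹ := by group
      _ = g * (u * (g⁻¹ * v * g)) * g⁻¹ := by rw [this]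
      _ = g * u * g⁻¹ * v := by group
  have hCM : centralizer (D.V : Set G) ≤ D.M := by
    rw [← D.normalizer_V]
    intro u hu
    refine mem_normalizer_of_conj fun v hv => ?_
    rw [← (mem_centralizer_iff.1 hu v hv), mul_inv_cancel_right]; exact hv
  have hC2 : IsPGroup 2 (centralizer (D.V : Set G)) := by
    obtain ⟨a, ha⟩ := D.card_S
    have hd : Nat.card (centralizer (D.V : Set G)) ∣ 3 * 2 ^ a := by
      rw [← ha, ← D.hMcard]; exact card_dvd_of_le hCM
    have h3 : ¬ 3 ∣ Nat.card (centralizer (D.V : Set G)) := fun h3 => by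
      have : Fact (Nat.Prime 3) := ⟨Nat.prime_three⟩
      obtain ⟨y, hy⟩ := exists_prime_orderOf_dvd_card' 3 h3
      have hy' : orderOf (y : G) = 3 := by rwa [orderOf_coe]
      exact D.z_ne_one (D.fpf hy' D.hS D.hz (mem_centralizer_iff.1 y.2 _ D.z_mem_V))
    have hd2 : Nat.card (centralizer (D.V : Set G)) ∣ 2 ^ a :=
      ((Nat.prime_three.coprime_iff_not_dvd.2 h3).symm).dvd_of_dvd_mul_left hd
    obtain ⟨i, -, hi⟩ := (Nat.dvd_prime_pow Nat.prime_two).1 hd2
    exact IsPGroup.of_card hi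
  have hS := D.le_S_of_pGroup hC2 hCM ((D.hSM.trans D.normalizer_V.ge).trans hnorm)
  by_contra htK
  have hk := D.s_mul_mem_K (hS ht) htK
  have hs : D.s ∈ centralizer (D.V : Set G) := by
    have : t * D.s ∈ centralizer (D.V : Set G) := mem_centralizer_iff.2 fun v hv => (D.commute_K_V hk hv).eq.symm
    have h := mul_mem (inv_mem ht) this
    rwa [inv_mul_cancel_left] at h
  rcases D.mem_V_commute_s D.b_mem_V (mem_centralizer_iff.1 hs _ D.b_mem_V).symm with h | h
  exacts [D.b_ne_one h, D.b_ne_z h]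

theorem not_mem_K_of_moves {t v : G} (hv : v ∈ D.V) (h : ¬ Commute t v) : t ∉ D.K :=
  fun ht => h (D.commute_K_V ht hv)

theorem inf_L : D.M ⊓ D.L = D.S := by
  refine (eq_of_le_of_card_ge (le_inf D.hSM D.hSL) ?_).symm
  obtain ⟨j, -, hj⟩ := D.hLcard
  have h1 : Nat.card (D.M ⊓ D.L : Subgroup G) ∣ Nat.card D.S * 3 := by
    rw [mul_comm, ← D.hMcard]; exact card_dvd_of_le inf_le_left
  have h2 : Nat.card (D.M ⊓ D.L : Subgroup G) ∣ Nat.card D.S * D.q ^ j := hj ▸ card_dvd_of_le inf_le_right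
  have hco : Nat.Coprime 3 (D.q ^ j) := Nat.Coprime.pow_right j
    ((Nat.coprime_primes Nat.prime_three D.hq).2 (by have := D.hq5; omega))
  have h := Nat.dvd_gcd h1 h2
  rw [Nat.gcd_mul_left, hco.gcd_eq_one, mul_one] at h
  exact Nat.le_of_dvd Nat.card_pos h

/-- `K` has class at most two. -/
theorem K_class_two {u v w : G} (hu : u ∈ D.K) (hv : v ∈ D.K) (hw : w ∈ D.K) :
    Commute ⁅u, v⁆ w := by
  let φ : MulAut D.K :=
    { toFun := fun k => ⟨D.x * k * D.x⁻¹, D.conj_mem_K D.hx k.2⟩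
      invFun := fun k => ⟨D.x⁻¹ * k * D.x, D.conj_mem_K' D.hx k.2⟩
      left_inv := fun k => Subtype.ext (by simp [mul_assoc])
      right_inv := fun k => Subtype.ext (by simp [mul_assoc])
      map_mul' := fun k l => Subtype.ext (by simp [mul_assoc]) }
  have hfpf : ∀ k : D.K, φ k = k → k = 1 := by
    intro k hk
    have h : D.x * (k : G) * D.x⁻¹ = k := congrArg Subtype.val hk
    exact Subtype.ext (D.fpf_S (D.hKS k.2) (mul_inv_eq_iff_eq_mul.1 h).symm)
  have ho : orderOf φ = 3 := by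
    refine orderOf_eq_prime (p := 3) (MulEquiv.ext fun k => Subtype.ext ?_) fun e => ?_
    · show D.x * (D.x * (D.x * (k : G) * D.x⁻¹) * D.x⁻¹) * D.x⁻¹ = k
      have h : D.x * D.x * D.x = 1 := by rw [← D.x_cube, pow_succ, pow_two]
      calc D.x * (D.x * (D.x * (k : G) * D.x⁻¹) * D.x⁻¹) * D.x⁻¹
          = (D.x * D.x * D.x) * k * (D.x * D.x * D.x)⁻¹ := by group
        _ = k := by simp [h]
    · exact D.z_ne_one (congrArg Subtype.val (hfpf ⟨D.z, D.z_mem_K⟩ (by rw [e]; rfl)))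
  have hb := (Cfsg.Agent.S3779.result Nat.prime_three φ ho hfpf).2.1 rfl
  let u' : D.K := ⟨u, hu⟩
  let v' : D.K := ⟨v, hv⟩
  let w' : D.K := ⟨w, hw⟩
  have h : ⁅⁅u', v'⁆, w'⁆ = 1 := by
    rw [← mem_bot, ← hb]
    exact commutator_mem_commutator (commutator_mem_commutator (mem_top _) (mem_top _)) (mem_top _)
  exact commutatorElement_eq_one_iff_mul_comm.1 (congrArg Subtype.val h)

/-- The centralizer in `K` of an element of `M - K` is small. -/
theorem card_centralizer_sq_le {t : G} (ht : t ∈ D.M) (htK : t ∉ D.K) :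
    Nat.card (D.K ⊓ centralizer ({t} : Set G) : Subgroup G) ^ 2 ≤ Nat.card D.K := by
  let t' := D.x * t * D.x⁻¹
  have ht' : t' ∈ D.M := mul_mem (mul_mem D.hx ht) (inv_mem D.hx)
  let C := D.K ⊓ centralizer ({t} : Set G)
  let C' := D.K ⊓ centralizer ({t'} : Set G)
  let H := closure ({t, t'} : Set G)
  have hHM : H ≤ D.M := (closure_le _).2 (by rintro y (rfl | rfl) <;> assumption)
  have h3 : 3 ∣ Nat.card H := by
    by_contra h3
    obtain ⟨a, ha⟩ := D.card_S
    have hH : IsPGroup 2 H := by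
      have hd : Nat.card H ∣ 3 * 2 ^ a := by rw [← ha, ← D.hMcard]; exact card_dvd_of_le hHM
      have hd2 : Nat.card H ∣ 2 ^ a := ((Nat.prime_three.coprime_iff_not_dvd.2 h3).symm).dvd_of_dvd_mul_left hd
      obtain ⟨i, -, hi⟩ := (Nat.dvd_prime_pow Nat.prime_two).1 hd2
      exact IsPGroup.of_card hi
    let P : Subgroup G := H ⊔ D.K
    have hP : IsPGroup 2 P := hH.to_sup_of_normal_right' D.K_pGroup (hHM.trans D.hKM)
    have hPM : P ≤ D.M := sup_le hHM D.K_le_M
    have hKP : D.K < P := SetLike.lt_iff_le_and_exists.2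
      ⟨le_sup_right, t, le_sup_left (a := H) (subset_closure (Set.mem_insert _ _)), htK⟩
    have hcard : Nat.card P = Nat.card D.S := by
      obtain ⟨i, hi⟩ := IsPGroup.iff_card.1 hP
      have hd : Nat.card P ∣ Nat.card D.S := by
        have hd := card_dvd_of_le hPM
        rw [D.hMcard, hi] at hd
        rw [hi]
        exact (Nat.Coprime.pow_left i (by norm_num : Nat.Coprime 2 3)).dvd_of_dvd_mul_left hd
      obtain ⟨e, he⟩ := card_dvd_of_le hKP.le
      have hlt : Nat.card D.K < Nat.card P := by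
        refine lt_of_le_of_ne (Nat.le_of_dvd Nat.card_pos ⟨e, he⟩) fun h => ?_
        exact hKP.ne (eq_of_le_of_card_ge hKP.le h.ge)
      have hle := Nat.le_of_dvd Nat.card_pos hd
      rw [← D.hKcard] at hle ⊢
      have he2 : e = 2 := by
        have h1 : 1 < e := by
          by_contra h
          interval_cases e <;> omega
        have h2 : e ≤ 2 := by
          have : Nat.card D.K * e ≤ Nat.card D.K * 2 := by rw [← he, mul_comm _ 2]; exact hle
          exact Nat.le_of_mul_le_mul_left this Nat.card_pos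
        omega
      rw [he, he2, mul_comm]
    have hx : D.x ∈ normalizer (P : Set G) := by
      refine mem_normalizer_of_conj fun u hu => ?_
      have hm : P.map (MulAut.conj D.x).toMonoidHom = P := by
        refine (eq_of_le_of_card_ge (H := P) ?_ (card_map_of_injective (MulAut.conj D.x).injective).le).symm
        have hKm : D.K ≤ P.map (MulAut.conj D.x).toMonoidHom := fun k hk =>
          ⟨D.x⁻¹ * k * D.x, le_sup_right (a := H) (D.conj_mem_K' D.hx hk), by simp [mul_assoc]⟩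
        have htm : t' ∈ P.map (MulAut.conj D.x).toMonoidHom :=
          ⟨t, le_sup_left (b := D.K) (subset_closure (Set.mem_insert _ _)), rfl⟩
        have hQM : P.map (MulAut.conj D.x).toMonoidHom ≤ D.M := by
          rintro _ ⟨p, hp, rfl⟩
          exact mul_mem (mul_mem D.hx (hPM hp)) (inv_mem D.hx)
        -- both are generated by `K` and `t'`
        have ht'K : t' ∉ D.K := fun h => htK (by simpa [t', mul_assoc] using D.conj_mem_K' D.hx h)
        have hgen : D.K ⊔ zpowers t' = P := by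
          refine eq_of_le_of_card_ge (sup_le le_sup_right ((zpowers_le).2
            (le_sup_left (b := D.K) (subset_closure (Set.mem_insert_of_mem _ rfl))))) ?_
          rw [hcard, ← D.hKcard]
          obtain ⟨e, he⟩ := card_dvd_of_le (le_sup_left : D.K ≤ D.K ⊔ zpowers t')
          rcases e with _ | _ | e
          · exact absurd (he.trans (mul_zero _)) Nat.card_pos.ne'
          · exact absurd ((eq_of_le_of_card_ge (le_sup_left : D.K ≤ D.K ⊔ zpowers t') (by simp [he])).ge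
              (mem_sup_right (mem_zpowers t'))) ht'K
          · rw [he, mul_comm]; exact Nat.mul_le_mul_left _ (by omega)
        exact hgen.ge.trans (sup_le hKm (zpowers_le.2 htm))
      have : D.x * u * D.x⁻¹ ∈ P.map (MulAut.conj D.x).toMonoidHom := ⟨u, hu, by simp⟩
      rwa [hm] at this
    have hN : D.M ≤ normalizer (P : Set G) := by
      have h1 : P ⊔ zpowers D.x ≤ D.M ⊓ normalizer (P : Set G) :=
        sup_le (le_inf hPM le_normalizer) (zpowers_le.2 ⟨D.hx, hx⟩)
      have h2 : Nat.card D.M ≤ Nat.card (D.M ⊓ normalizer (P : Set G) : Subgroup G) := by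
        refine Nat.le_of_dvd Nat.card_pos ?_
        rw [D.hMcard]
        have h3 : Nat.Coprime 3 (Nat.card D.S) := ha ▸ Nat.Coprime.pow_right a (by norm_num)
        refine h3.mul_dvd_of_dvd_of_dvd (D.hx3 ▸ orderOf_dvd_natCard _ (h1 (mem_sup_right (mem_zpowers D.x))))
          (hcard ▸ card_dvd_of_le (le_sup_left.trans h1))
      exact inf_eq_left.1 (eq_of_le_of_card_ge inf_le_left h2)
    have hPS : P = D.S := eq_of_le_of_card_ge (D.le_S_of_pGroup hP hPM (D.hSM.trans hN)) hcard.ge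
    have h5 : D.x * D.s⁻¹ * D.x⁻¹ ∈ D.S := by
      rw [← hPS] ; exact (mem_normalizer_iff.1 hx _).1 (hPS.symm ▸ inv_mem D.hs)
    have h6 := mul_mem D.hs h5
    rw [← mul_assoc, ← mul_assoc, D.hsx] at h6
    have : D.x⁻¹ * D.x⁻¹ = D.x := by
      rw [← mul_inv_rev, inv_eq_iff_mul_eq_one, ← pow_two, ← pow_succ, D.x_cube]
    exact D.x_not_mem_S (this ▸ h6)
  have : Fact (Nat.Prime 3) := ⟨Nat.prime_three⟩
  obtain ⟨y, hy⟩ := exists_prime_orderOf_dvd_card' (G := H) 3 h3
  have hy' : orderOf (y : G) = 3 := by rwa [orderOf_coe]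
  have hI : ∀ u ∈ C, u ∈ C' → u = 1 := by
    intro u hu hu'
    refine D.fpf hy' D.K_pGroup hu.1 ?_
    refine closure_induction (p := fun g _ => Commute u g) ?_ (Commute.one_right u)
      (fun _ _ _ _ h1 h2 => h1.mul_right h2) (fun _ _ h => h.inv_right) y.2
    rintro g (rfl | rfl)
    · exact (mem_centralizer_iff.1 hu.2 _ rfl).symm
    · exact (mem_centralizer_iff.1 hu'.2 _ rfl).symm
  have hC' : Nat.card C ≤ Nat.card C' := by
    have hm : C.map (MulAut.conj D.x).toMonoidHom ≤ C' := by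
      rintro _ ⟨u, hu, rfl⟩
      refine ⟨by simpa using D.conj_mem_K D.hx hu.1, mem_centralizer_iff.2 fun w hw => ?_⟩
      have h := mem_centralizer_iff.1 hu.2 t rfl
      rw [Set.mem_singleton_iff.1 hw]
      show D.x * t * D.x⁻¹ * (D.x * u * D.x⁻¹) = D.x * u * D.x⁻¹ * (D.x * t * D.x⁻¹)
      simp only [mul_assoc, inv_mul_cancel_left]
      rw [← mul_assoc t, h, mul_assoc]
    calc Nat.card C = Nat.card (C.map (MulAut.conj D.x).toMonoidHom) :=
          (card_map_of_injective (MulAut.conj D.x).injective).symm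
      _ ≤ Nat.card C' := Nat.card_mono (Set.toFinite _) hm
  have hinj : Nat.card (C × C') ≤ Nat.card D.K := by
    refine Nat.card_le_card_of_injective
      (fun p : C × C' => (⟨(p.1 : G) * p.2, mul_mem p.1.2.1 p.2.2.1⟩ : D.K)) ?_
    rintro ⟨u, v⟩ ⟨u', v'⟩ h
    have h' : (u : G) * v = u' * v' := congrArg Subtype.val h
    have e : (u' : G)⁻¹ * u = v' * (v : G)⁻¹ := by
      rw [eq_mul_inv_iff_mul_eq, mul_assoc, h', inv_mul_cancel_left]
    have h1 := hI _ (mul_mem (inv_mem u'.2) u.2) (e ▸ mul_mem v'.2 (inv_mem v.2))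
    have hu : u' = u := Subtype.ext (inv_mul_eq_one.1 h1)
    subst hu
    exact Prod.ext rfl (Subtype.ext (mul_left_cancel h'))
  rw [Nat.card_prod] at hinj
  calc Nat.card C ^ 2 = Nat.card C * Nat.card C := pow_two _
    _ ≤ Nat.card C * Nat.card C' := Nat.mul_le_mul_left _ hC'
    _ ≤ Nat.card D.K := hinj

end Data

end CfsgLib.NineAmalgam
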