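import Cfsg.Agent.Lib.SmallSimple.NineAmalgam.LocalsFive
import Cfsg.Agent.Lib.Invol.PConstrained
import Cfsg.Agent.Lib.Fusion.Thompson
import Cfsg.Agent.Lib.JComp.Prelim
import Cfsg.Agent.Lib.PGroup.MaxPNilpotent
import Cfsg.Agent.S0618

/-!
# A `{2,q}`-local over a Sylow 2-subgroup (section P4)

Among the 2-locals containing an element of order `q` commuting with an involution take one with
largest 2-part.  It is a soluble `{2,q}`-group of characteristic two, hence (S0618) Thompson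
factorizable, so the pair survives in the normalizer of `Ω₁ Z(T)` or of `J(T)`; so `T` is a Sylow
2-subgroup of `G`.
-/

set_option autoImplicit false
set_option linter.unusedSectionVars false
set_option linter.style.haveILetI false

namespace CfsgLib.NineAmalgam

open Subgroup

universe u

variable {G : Type u} [Group G] [Finite G]

theorem HasPair.conj {q : ℕ} {H H' : Subgroup G} (h : HasPair q H) (g : G)
    (hle : H.map (MulAut.conj g).toMonoidHom ≤ H') : HasPair q H' := by
  obtain ⟨a, t, ha, ht, h1, h2, h3⟩ := h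
  refine ⟨MulAut.conj g a, MulAut.conj g t, hle (mem_map_of_mem _ ha), hle (mem_map_of_mem _ ht),
    ?_, ?_, h3.map _⟩
  · rw [← h1]; exact orderOf_injective (MulAut.conj g).toMonoidHom (MulAut.conj g).injective a
  · rw [← h2]; exact orderOf_injective (MulAut.conj g).toMonoidHom (MulAut.conj g).injective t

/-- A group of order dividing `9·2^a·q^b` and prime to three has order dividing `2^a·q^b`. -/
theorem Setting.card_dvd (D : Setting G) {H : Subgroup G} (h3 : ¬ 3 ∣ Nat.card H) :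
    Nat.card H ∣ 2 ^ D.a * D.q ^ D.b := by
  have hcop : Nat.Coprime (Nat.card H) 9 := by
    simpa using ((Nat.prime_three.coprime_iff_not_dvd.mpr h3).symm).pow_right 2
  exact hcop.dvd_of_dvd_mul_left (by
    rw [← mul_assoc, ← D.hcard]; exact H.card_subgroup_dvd_card)

/-- A local containing a pair is a `{2,q}`-group. -/
theorem Setting.card_pair_local [IsSimpleGroup G] (D : Setting G) (hc2 : Cfsg.IsCharacteristicTwoType G)
    {P : Subgroup G} (hP : IsPGroup 2 P) (hP1 : P ≠ ⊥) (hp : HasPair D.q (normalizer (P : Set G))) :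
    ∃ i j : ℕ, Nat.card (normalizer (P : Set G)) = 2 ^ i * D.q ^ j := by
  obtain ⟨c1, c2, h1, h2, e⟩ := Nat.dvd_mul.mp (D.card_dvd (D.not_three_of_pair hc2 P hP hP1 hp))
  obtain ⟨i, -, rfl⟩ := (Nat.dvd_prime_pow Nat.prime_two).mp h1
  obtain ⟨j, -, rfl⟩ := (Nat.dvd_prime_pow D.hq).mp h2
  exact ⟨i, j, e.symm⟩

/-- A subgroup whose elements of prime order are all involutions is a 2-group. -/
theorem isPGroup_two_of_no_q {q i j : ℕ} (hq : q.Prime) {H X : Subgroup G} (hle : H ≤ X)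
    (hX : Nat.card X = 2 ^ i * q ^ j) (hno : ¬ q ∣ Nat.card H) : IsPGroup 2 H := by
  have hd : Nat.card H ∣ 2 ^ i * q ^ j := hX ▸ card_dvd_of_le hle
  have hd' : Nat.card H ∣ 2 ^ i :=
    ((hq.coprime_iff_not_dvd.2 hno).symm.pow_right j).dvd_of_dvd_mul_right hd
  obtain ⟨k, -, hk⟩ := (Nat.dvd_prime_pow Nat.prime_two).1 hd'
  exact IsPGroup.of_card hk

/-- Thompson factorisation: the pair of a `{2,q}`-local survives in the normalizer of a
characteristic subgroup of one of its Sylow 2-subgroups. -/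
theorem Setting.step [IsSimpleGroup G] (D : Setting G) (hc2 : Cfsg.IsCharacteristicTwoType G)
    {P X : Subgroup G} (hXP : normalizer (P : Set G) = X) (hP : IsPGroup 2 P) (hP1 : P ≠ ⊥)
    (hp : HasPair D.q X) (T : Sylow 2 X) :
    ∃ C : Subgroup G, C ≤ (T : Subgroup X).map X.subtype ∧
      C ≠ ⊥ ∧ IsPGroup 2 C ∧
      normalizer (((T : Subgroup X).map X.subtype : Subgroup G) : Set G) ≤ normalizer (C : Set G) ∧
      HasPair D.q (normalizer (C : Set G)) := by
  haveI : Fact (Nat.Prime 2) := ⟨Nat.prime_two⟩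
  have h3 : ¬ 3 ∣ Nat.card X := hXP ▸ D.not_three_of_pair hc2 P hP hP1 (hXP ▸ hp)
  obtain ⟨i, j, hcard⟩ := hXP ▸ D.card_pair_local hc2 hP hP1 (hXP ▸ hp)
  set Tg : Subgroup G := (T : Subgroup X).map X.subtype with hTg
  haveI hsol : Group.IsSolvable X := solvable_of_not_three D h3
  have hsep : Cfsg.IsPSolvable 2 X :=
    CfsgLib.PGroup.MaxPNilpotent.isPSolvable_of_solvable Nat.prime_two _ X rfl hsol
  have hcons : centralizer (Cfsg.pCore 2 X : Set X) ≤ Cfsg.pCore 2 X := (by subst hXP; exact hc2.2 P hP hP1)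
  have hO : Cfsg.pPrimeCore 2 X = ⊥ := by
    refine CfsgLib.Invol.PClean.pPrimeCore_eq_bot fun y hy hyc => ?_
    obtain ⟨k, hk⟩ := (IsPGroup.iff_orderOf.1 (CfsgLib.PGroup.isPGroup_pCore 2 X)) ⟨y, hcons hyc⟩
    rw [Subgroup.orderOf_mk] at hk
    have h1 : orderOf y = 1 := Nat.eq_one_of_dvd_coprimes (hy.pow_right k) dvd_rfl (hk ▸ dvd_rfl)
    exact orderOf_eq_one_iff.1 h1
  have hfac : Cfsg.IsThompsonFactorizable 2 X := by
    by_contra hnf
    obtain ⟨-, E, -, -, -, hn, ⟨e⟩⟩ := Cfsg.Agent.S0618.result hsep hO hnf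
    have hc := Nat.card_congr e.toEquiv
    rw [← Subgroup.index_eq_card] at hc
    have hd : 3 ∣ Nat.card (Matrix.SpecialLinearGroup (Fin 2) (ZMod 2)) := by
      rw [Nat.card_eq_fintype_card]
      decide +kernel
    rw [← hc] at hd
    exact h3 ((hd.trans (index_dvd_card _)).trans (card_subgroup_dvd_card E))
  -- the two candidates
  have hTg2 : IsPGroup 2 Tg := T.2.map _
  have hTgne : Tg ≠ ⊥ := by
    intro hb
    have hTb : (T : Subgroup X) = ⊥ :=
      Subgroup.map_injective X.subtype_injective (hb.trans (Subgroup.map_bot _).symm)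
    obtain ⟨g, t, -, ht, -, ot, -⟩ := hp
    have h2 : 2 ∣ Nat.card X := by
      have := orderOf_dvd_natCard (⟨t, ht⟩ : X)
      rwa [Subgroup.orderOf_mk, ot] at this
    exact T.ne_bot_of_dvd_card h2 hTb
  set Z : Subgroup G := Cfsg.omegaCenterOf Tg with hZ
  set J : Subgroup G := Cfsg.thompsonSubgroupOf 2 Tg with hJ
  have hZle : Z ≤ Tg ⊓ centralizer (Tg : Set G) := (closure_le _).2 fun x hx => hx.1
  have hJne : J ≠ ⊥ := CfsgLib.Fusion.thompsonSubgroupOf_ne_bot hTg2 hTgne
  obtain ⟨z, hzZ, oz⟩ : ∃ z ∈ Z, orderOf z = 2 := by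
    haveI : Nontrivial Tg := (nontrivial_iff_ne_bot Tg).2 hTgne
    haveI := hTg2.center_nontrivial
    obtain ⟨k, hk, hk'⟩ := (hTg2.to_subgroup (center Tg)).nontrivial_iff_card.1 inferInstance
    obtain ⟨y, hy⟩ := exists_prime_orderOf_dvd_card' 2 (G := center Tg) (hk' ▸ dvd_pow_self 2 hk.ne')
    have oy : orderOf (((y : Tg) : G)) = 2 := by rw [Subgroup.orderOf_coe, Subgroup.orderOf_coe, hy]
    refine ⟨((y : Tg) : G), subset_closure ⟨⟨(y : Tg).2, mem_centralizer_iff.2 fun t ht => ?_⟩, ?_⟩, oy⟩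
    · exact congrArg Subtype.val (mem_center_iff.1 y.2 ⟨t, ht⟩)
    · rw [← oy]; exact pow_orderOf_eq_one _
  have hZne : Z ≠ ⊥ := fun hb => by
    rw [hb, mem_bot] at hzZ
    rw [hzZ, orderOf_one] at oz
    omega
  by_cases hq : D.q ∣ Nat.card (X ⊓ centralizer (Z : Set G) : Subgroup G)
  · refine ⟨Z, hZle.trans inf_le_left, hZne, hTg2.to_le (hZle.trans inf_le_left),
      CfsgLib.JComp.normalizer_le_normalizer_omegaCenterOf _, ?_⟩
    haveI : Fact D.q.Prime := ⟨D.hq⟩
    obtain ⟨g, og⟩ := exists_prime_orderOf_dvd_card' D.q hq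
    have hcomm : Commute z (g : G) := mem_centralizer_iff.1 g.2.2 z hzZ
    exact ⟨g, z, centralizer_le_normalizer _ g.2.2, le_normalizer hzZ,
      (Subgroup.orderOf_coe g).trans og, oz, hcomm.symm⟩
  · refine ⟨J, map_subtype_le _, hJne, hTg2.to_le (map_subtype_le _),
      CfsgLib.Fusion.normalizer_le_normalizer_thompsonSubgroupOf _, hp.mono ?_⟩
    have hC2 : IsPGroup 2 (X ⊓ centralizer (Z : Set G) : Subgroup G) :=
      isPGroup_two_of_no_q D.hq inf_le_left hcard hq
    have hTC : Tg ≤ X ⊓ centralizer (Z : Set G) := le_inf (map_subtype_le _) fun t ht =>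
      mem_centralizer_iff.2 fun y hy => ((mem_centralizer_iff.1 (hZle hy).2) t ht).symm
    have hCeq : X ⊓ centralizer (Z : Set G) ≤ Tg := by
      have h2 : IsPGroup 2 ((X ⊓ centralizer (Z : Set G) : Subgroup G).subgroupOf X) :=
        hC2.of_equiv (subgroupOfEquivOfLe inf_le_left).symm
      have heq := T.3 h2 (fun t ht => hTC (mem_map_of_mem _ ht))
      calc X ⊓ centralizer (Z : Set G)
          = ((X ⊓ centralizer (Z : Set G) : Subgroup G).subgroupOf X).map X.subtype :=
            (map_subgroupOf_eq_of_le inf_le_left).symm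
        _ = Tg := by rw [heq]
        _ ≤ Tg := le_rfl
    -- transport to the subgroup
    have hinj : ∀ x ∈ (T : Subgroup X), X.subtype x = 1 → x = 1 := fun x _ h => Subtype.ext h
    have hJmap : (Cfsg.thompsonSubgroupOf 2 (T : Subgroup X)).map X.subtype = J :=
      CfsgLib.Fusion.map_thompsonSubgroupOf X.subtype hinj
    intro x hx
    obtain ⟨y, hy, c, hc, n, hn, e⟩ := hfac T ⟨x, hx⟩
    rw [hO, mem_bot] at hy
    subst hy
    rw [one_mul] at e
    have hcz : (c : G) ∈ centralizer (Z : Set G) := by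
      rw [hZ, Cfsg.omegaCenterOf, Cfsg.omegaOne, centralizer_closure]
      refine mem_centralizer_iff.2 fun w hw => ?_
      obtain ⟨⟨hwT, hwc⟩, hw2⟩ := hw
      obtain ⟨w', hw', rfl⟩ := hwT
      have hmem : w' ∈ Cfsg.omegaOne 2 ((T : Subgroup X) ⊓ centralizer ((T : Subgroup X) : Set X)) :=
        subset_closure ⟨⟨hw', mem_centralizer_iff.2 fun t ht =>
          Subtype.ext (mem_centralizer_iff.1 hwc _ (mem_map_of_mem _ ht))⟩, Subtype.ext hw2⟩
      exact congrArg Subtype.val (mem_centralizer_iff.1 hc w' hmem)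
    have hcJ : (c : G) ∈ normalizer (J : Set G) :=
      CfsgLib.Fusion.normalizer_le_normalizer_thompsonSubgroupOf Tg
        (le_normalizer (hCeq ⟨c.2, hcz⟩))
    have hnJ : (n : G) ∈ normalizer (J : Set G) := by
      rw [← hJmap]
      exact le_normalizer_map X.subtype (mem_map_of_mem _ hn)
    have : x = (c : G) * (n : G) := congrArg Subtype.val e
    rw [this]
    exact mul_mem hcJ hnJ

/-- A pair survives in the normalizer of a characteristic subgroup of a Sylow 2-subgroup of `G`. -/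
theorem Setting.exists_char_pair [IsSimpleGroup G] (D : Setting G)
    (hc2 : Cfsg.IsCharacteristicTwoType G)
    (ht : ∃ t : G, orderOf t = 2 ∧ D.q ∣ Nat.card (centralizer ({t} : Set G))) (S : Sylow 2 G) :
    ∃ C : Subgroup G, C ≤ S ∧ C ≠ ⊥ ∧ IsPGroup 2 C ∧
      normalizer ((S : Subgroup G) : Set G) ≤ normalizer (C : Set G) ∧
      HasPair D.q (normalizer (C : Set G)) := by
  haveI : Fact (Nat.Prime 2) := ⟨Nat.prime_two⟩
  haveI : Fact D.q.Prime := ⟨D.hq⟩
  let fam : Set (Subgroup G) := {P | IsPGroup 2 P ∧ P ≠ ⊥ ∧ HasPair D.q (normalizer (P : Set G))}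
  have hne : fam.Nonempty := by
    obtain ⟨t, ot, hq⟩ := ht
    obtain ⟨g, og⟩ := exists_prime_orderOf_dvd_card' D.q hq
    refine ⟨zpowers t, IsPGroup.of_card (n := 1) (by rw [Nat.card_zpowers, ot, pow_one]), ?_,
      g, t, ?_, le_normalizer (mem_zpowers t), (Subgroup.orderOf_coe g).trans og, ot,
      mem_centralizer_singleton_iff.1 g.2⟩
    · rw [Ne, zpowers_eq_bot]
      rintro rfl
      rw [orderOf_one] at ot
      omega
    · refine centralizer_le_normalizer _ ?_
      rw [zpowers_eq_closure, centralizer_closure]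
      exact g.2
  obtain ⟨P, hPf, hmax⟩ := Set.exists_max_image fam
    (fun P => (Nat.card (normalizer (P : Set G))).factorization 2) (Set.toFinite _) hne
  obtain ⟨hP, hP1, hp⟩ := hPf
  obtain ⟨T⟩ : Nonempty (Sylow 2 (normalizer (P : Set G))) := inferInstance
  obtain ⟨C, hCT, hC1, hC2, hNC, hCp⟩ := D.step hc2 rfl hP hP1 hp T
  set Tg : Subgroup G := (T : Subgroup (normalizer (P : Set G))).map (normalizer (P : Set G)).subtype
    with hTg
  have hTg2 : IsPGroup 2 Tg := T.2.map _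
  have hcT : Nat.card Tg = 2 ^ (Nat.card (normalizer (P : Set G))).factorization 2 := by
    rw [hTg, card_map_of_injective (Subgroup.subtype_injective _), T.card_eq_multiplicity]
  have hsyl : ∀ R : Subgroup G, IsPGroup 2 R → Tg ≤ R → R = Tg := by
    intro R hR hle
    by_contra hne'
    have hlt : Tg < R := lt_of_le_of_ne hle (Ne.symm hne')
    haveI : Group.IsNilpotent R := hR.isNilpotent
    have hlt' : Tg.subgroupOf R < normalizer ((Tg.subgroupOf R : Subgroup R) : Set R) :=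
      Group.normalizerCondition_of_isNilpotent _ (lt_top_iff_ne_top.2 fun h =>
        hne' (le_antisymm (subgroupOf_eq_top.1 h) hle))
    have hlt'' : Tg < R ⊓ normalizer (Tg : Set G) := by
      refine lt_of_le_of_ne (le_inf hle le_normalizer) fun he => hlt'.ne (le_antisymm le_normalizer ?_)
      intro r hr
      rw [← subgroupOf_normalizer_eq hle] at hr
      exact mem_subgroupOf.2 (he ▸ ⟨r.2, hr⟩)
    obtain ⟨k, hk⟩ := IsPGroup.iff_card.1 (hR.to_le (inf_le_left (b := normalizer (Tg : Set G))))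
    have hdv : 2 ^ k ∣ Nat.card (normalizer (C : Set G)) :=
      hk ▸ card_dvd_of_le (inf_le_right.trans hNC)
    have hle' : k ≤ (Nat.card (normalizer (C : Set G))).factorization 2 :=
      (Nat.prime_two.pow_dvd_iff_le_factorization Nat.card_pos.ne').1 hdv
    have hb := hmax C ⟨hC2, hC1, hCp⟩
    have hcard_lt : Nat.card Tg < 2 ^ k := by
      rw [← hk, ← SetLike.coe_sort_coe, ← SetLike.coe_sort_coe]
      exact Set.Finite.card_lt_card (Set.toFinite _) hlt''
    rw [hcT] at hcard_lt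
    have := (Nat.pow_lt_pow_iff_right (by norm_num : 1 < 2)).1 hcard_lt
    omega
  let S0 : Sylow 2 G := ⟨Tg, hTg2, fun {R} hR hle => hsyl R hR hle⟩
  obtain ⟨g, hg⟩ := MulAction.exists_smul_eq G S0 S
  have hS : (S : Subgroup G) = Tg.map (MulAut.conj g).toMonoidHom := by
    rw [← hg, Sylow.coe_subgroup_smul]
    rfl
  refine ⟨C.map (MulAut.conj g).toMonoidHom, hS ▸ map_mono hCT, ?_, hC2.map _, ?_, ?_⟩
  · rwa [Ne, map_eq_bot_iff_of_injective _ (MulAut.conj g).injective]
  · rw [hS, ← map_equiv_normalizer_eq, ← map_equiv_normalizer_eq]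
    exact map_mono hNC
  · exact hCp.conj g (le_normalizer_map _)

/-- A `{2,q}`-local over the Sylow 2-subgroup `S`, with its 2-core. -/
theorem Setting.exists_L [IsSimpleGroup G] (D : Setting G) (hc2 : Cfsg.IsCharacteristicTwoType G)
    (ht : ∃ t : G, orderOf t = 2 ∧ D.q ∣ Nat.card (centralizer ({t} : Set G))) (S : Sylow 2 G) :
    ∃ L O : Subgroup G, (S : Subgroup G) ≤ L ∧
      (∃ j, 0 < j ∧ Nat.card L = Nat.card (S : Subgroup G) * D.q ^ j) ∧ O ≤ S ∧
      L ≤ normalizer (O : Set G) ∧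
      (∀ P : Subgroup G, P ≤ L → IsPGroup 2 P → L ≤ normalizer (P : Set G) → P ≤ O) ∧
      L ⊓ centralizer (O : Set G) ≤ O := by
  haveI : Fact (Nat.Prime 2) := ⟨Nat.prime_two⟩
  obtain ⟨C, -, hC1, hC2, hNC, hp⟩ := D.exists_char_pair hc2 ht S
  obtain ⟨i, j, hcard⟩ := D.card_pair_local hc2 hC2 hC1 hp
  set L : Subgroup G := normalizer (C : Set G) with hL
  have hSL : (S : Subgroup G) ≤ L := le_normalizer.trans hNC
  have hq2 : D.q ≠ 2 := fun e => by have := D.hq5; omega
  have hS : Nat.card (S : Subgroup G) = 2 ^ i := by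
    obtain ⟨k, hk⟩ := IsPGroup.iff_card.1 S.2
    have h1 : 2 ^ k ∣ 2 ^ i * D.q ^ j := hk ▸ hcard ▸ card_dvd_of_le hSL
    have h2 : k ≤ i := (Nat.pow_dvd_pow_iff_le_right (by norm_num : 1 < 2)).1
      ((((Nat.coprime_primes Nat.prime_two D.hq).2 hq2.symm).pow _ _).dvd_of_dvd_mul_right h1)
    have h4 : 2 ^ i ∣ 2 ^ k := by
      rw [← hk, S.card_eq_multiplicity]
      exact pow_dvd_pow 2 ((Nat.prime_two.pow_dvd_iff_le_factorization Nat.card_pos.ne').1
        ((Dvd.intro _ hcard.symm).trans (card_subgroup_dvd_card L)))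
    rw [hk, le_antisymm h2 ((Nat.pow_dvd_pow_iff_le_right (by norm_num : 1 < 2)).1 h4)]
  have hj : 0 < j := by
    rcases Nat.eq_zero_or_pos j with rfl | h
    · obtain ⟨g, t, hg, -, og, -, -⟩ := hp
      have h1 : D.q ∣ Nat.card L := by
        have := orderOf_dvd_natCard (⟨g, hg⟩ : L)
        rwa [Subgroup.orderOf_mk, og] at this
      rw [hcard, pow_zero, mul_one] at h1
      exact absurd ((Nat.prime_dvd_prime_iff_eq D.hq Nat.prime_two).1 (D.hq.dvd_of_dvd_pow h1)) hq2
    · exact h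
  set O : Subgroup G := (Cfsg.pCore 2 L).map L.subtype with hO
  haveI := CfsgLib.Coprime.pCore_normal' (G := L) 2
  have hOS : O ≤ S := by
    have h : Cfsg.pCore 2 L ≤ (S.subtype hSL : Sylow 2 L) := by
      exact (CfsgLib.PGroup.isPGroup_pCore 2 L).le_sylow_of_normal _
    intro x hx
    obtain ⟨y, hy, rfl⟩ := hx
    exact h hy
  refine ⟨L, O, hSL, ⟨j, hj, by rw [hS, hcard]⟩, hOS, ?_, ?_, ?_⟩
  · intro l hl
    exact CfsgLib.JComp.le_normalizer_pCoreOf 2 L hl
  · intro Q hQL hQ hLQ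
    haveI : (Q.subgroupOf L).Normal := normal_subgroupOf_of_le_normalizer hLQ
    intro x hx
    have hmem : Q.subgroupOf L ≤ Cfsg.pCore 2 L :=
      le_sSup (a := Q.subgroupOf L) ⟨inferInstance, hQ.of_equiv (subgroupOfEquivOfLe hQL).symm⟩
    exact ⟨⟨x, hQL hx⟩, hmem (mem_subgroupOf.2 hx), rfl⟩
  · rintro x ⟨hxL, hxc⟩
    refine ⟨⟨x, hxL⟩, hc2.2 C hC2 hC1 (mem_centralizer_iff.2 fun y hy => Subtype.ext ?_), rfl⟩
    exact mem_centralizer_iff.1 hxc _ (mem_map_of_mem _ hy)

end CfsgLib.NineAmalgam
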