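import Mathlib

/-!
Data of the (S3, soluble {2,q}) amalgam used for the case of a regular normalizer of order 8 of a
strongly self-centralizing Sylow 3-subgroup (S2220). See docs/S2220-amalgam-lead.md.
-/

namespace CfsgLib.NineAmalgam

/-- `M = K : S3` and a `{2,q}`-local `L`, both over the Sylow 2-subgroup `S`. -/
structure Data (G : Type*) [Group G] where
  q : ℕ
  hq : q.Prime
  hq5 : 5 ≤ q
  S : Subgroup G
  M : Subgroup G
  L : Subgroup G
  K : Subgroup G
  O : Subgroup G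
  z : G
  x : G
  s : G
  hS : IsPGroup 2 S
  hSM : S ≤ M
  hSL : S ≤ L
  hMcard : Nat.card M = 3 * Nat.card S
  hLcard : ∃ j, 0 < j ∧ Nat.card L = Nat.card S * q ^ j
  hx : x ∈ M
  hx3 : orderOf x = 3
  hs : s ∈ S
  hs2 : s ^ 2 = 1
  hsx : s * x * s⁻¹ = x⁻¹
  hcen3 : ∀ y : G, orderOf y = 3 → IsPGroup 3 (Subgroup.centralizer ({y} : Set G))
  hKS : K ≤ S
  hKM : M ≤ Subgroup.normalizer (K : Set G)
  hKcard : 2 * Nat.card K = Nat.card S
  hKbig : 16 ≤ Nat.card K
  hKcons : M ⊓ Subgroup.centralizer (K : Set G) ≤ K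
  hOS : O ≤ S
  hOL : L ≤ Subgroup.normalizer (O : Set G)
  hOmax : ∀ P : Subgroup G, P ≤ L → IsPGroup 2 P → L ≤ Subgroup.normalizer (P : Set G) → P ≤ O
  hOcons : L ⊓ Subgroup.centralizer (O : Set G) ≤ O
  hz : z ∈ S
  hz2 : orderOf z = 2
  hzS : ∀ t ∈ S, Commute t z
  hMmax : ∀ P : Subgroup G, IsPGroup 2 P → P ≠ ⊥ → M ≤ Subgroup.normalizer (P : Set G) →
    Subgroup.normalizer (P : Set G) = M

namespace Data

variable {G : Type*} [Group G] (D : Data G)

/-- The four-group generated by the conjugates of `z` under `x`. -/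
def V : Subgroup G := Subgroup.closure {D.z, D.x * D.z * D.x⁻¹}

theorem not_both_le_normalizer (P : Subgroup G) (hP : IsPGroup 2 P) (hP1 : P ≠ ⊥)
    (hM : D.M ≤ Subgroup.normalizer (P : Set G)) (hL : D.L ≤ Subgroup.normalizer (P : Set G)) :
    False := by
  haveI := Fact.mk Nat.prime_two
  rw [D.hMmax P hP hP1 hM] at hL
  obtain ⟨j, hj, hc⟩ := D.hLcard
  have hd : D.q ∣ 3 * Nat.card D.S := by
    rw [← D.hMcard]
    exact (hc ▸ (dvd_pow_self D.q hj.ne').mul_left _).trans (Subgroup.card_dvd_of_le hL)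
  rcases D.hq.dvd_mul.1 hd with h | h
  · have := D.hq5; have := Nat.le_of_dvd (by norm_num) h; omega
  · obtain ⟨i, hi⟩ : ∃ i, Nat.card D.S = 2 ^ i := by
      by_cases h0 : Nat.card D.S = 0
      · have := D.hMcard; have hKb := D.hKbig; have := D.hKcard; omega
      · haveI := Nat.finite_of_card_ne_zero h0
        exact IsPGroup.iff_card.1 D.hS
    rw [hi] at h
    have := D.hq5; have := Nat.le_of_dvd (by norm_num) (D.hq.dvd_of_dvd_pow h); omega

end Data

end CfsgLib.NineAmalgam
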