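import Cfsg.Agent.Lib.SmallSimple.NineAmalgam.Basic
import Cfsg.Agent.Lib.Coprime.Action
import Cfsg.Agent.Lib.Char.Burnside

/-!
Definitions for the direct proof that the amalgam data are contradictory
(docs/S2220-direct-helper7.md): `Zk = Z(K)`, its normal closure `Zl` in `L`, and `Phi = Φ(O)`.
-/

set_option autoImplicit false
set_option linter.unusedSectionVars false

namespace CfsgLib.NineAmalgam

open Subgroup
open scoped commutatorElement

namespace Data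

variable {G : Type*} [Group G]

/-- The centre of `K`, as a subgroup of `G`. -/
def Zk (D : Data G) : Subgroup G := D.K ⊓ centralizer (D.K : Set G)

/-- The subgroup generated by the `L`-conjugates of `Z(K)`. -/
def Zl (D : Data G) : Subgroup G := closure {y | ∃ l ∈ D.L, ∃ a ∈ D.Zk, l * a * l⁻¹ = y}

/-- The Frattini subgroup of `O`, as a subgroup of `G`. -/
def Phi (D : Data G) : Subgroup G := (frattini D.O).map D.O.subtype

variable [Finite G] (D : Data G)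

theorem Zk_le_K : D.Zk ≤ D.K := inf_le_left

theorem Zk_le_S : D.Zk ≤ D.S := D.Zk_le_K.trans D.hKS

theorem commute_Zk {a k : G} (ha : a ∈ D.Zk) (hk : k ∈ D.K) : Commute k a :=
  mem_centralizer_iff.1 ha.2 k hk

theorem mem_Zk_iff {a : G} : a ∈ D.Zk ↔ a ∈ D.K ∧ ∀ k ∈ D.K, Commute k a :=
  ⟨fun h => ⟨h.1, fun _ hk => D.commute_Zk h hk⟩,
    fun h => ⟨h.1, mem_centralizer_iff.2 fun k hk => (h.2 k hk).eq⟩⟩

theorem conj_mem_Zk {m a : G} (hm : m ∈ D.M) (ha : a ∈ D.Zk) : m * a * m⁻¹ ∈ D.Zk := by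
  refine D.mem_Zk_iff.2 ⟨D.conj_mem_K hm ha.1, fun k hk => ?_⟩
  have h := (D.commute_Zk ha (D.conj_mem_K' hm hk)).map (MulAut.conj m).toMonoidHom
  simpa [mul_assoc] using h

theorem M_le_normalizer_Zk : D.M ≤ normalizer (D.Zk : Set G) :=
  fun _ hm => mem_normalizer_of_conj fun _ ha => D.conj_mem_Zk hm ha

theorem V_le_Zk : D.V ≤ D.Zk := fun _ hv =>
  D.mem_Zk_iff.2 ⟨D.V_le_K hv, fun _ hk => D.commute_K_V hk hv⟩

theorem centralizer_Zk : centralizer (D.Zk : Set G) = D.K := by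
  refine le_antisymm ?_ fun k hk => mem_centralizer_iff.2 fun a ha => (D.commute_Zk ha hk).eq.symm
  rw [← D.centralizer_V]
  exact centralizer_le (D.V_le_Zk)

theorem commutator_mem_Zk {a b : G} (ha : a ∈ D.K) (hb : b ∈ D.K) : ⁅a, b⁆ ∈ D.Zk := by
  refine D.mem_Zk_iff.2 ⟨?_, fun k hk => (D.K_class_two ha hb hk).symm⟩
  rw [commutatorElement_def]
  exact mul_mem (mul_mem (mul_mem ha hb) (inv_mem ha)) (inv_mem hb)

theorem O_le_L : D.O ≤ D.L := D.hOS.trans D.hSL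

theorem K_le_L : D.K ≤ D.L := D.hKS.trans D.hSL

theorem card_L : ∃ a b, Nat.card D.L = 2 ^ a * D.q ^ b := by
  obtain ⟨a, ha⟩ := D.card_S
  obtain ⟨j, -, hj⟩ := D.hLcard
  exact ⟨a, j, ha ▸ hj⟩

theorem q_coprime_two : Nat.Coprime 2 D.q :=
  (Nat.coprime_primes Nat.prime_two D.hq).2 (by have := D.hq5; omega)

theorem q_not_dvd_M : ¬ D.q ∣ Nat.card D.M := by
  rw [D.hMcard]
  obtain ⟨a, ha⟩ := D.card_S
  rw [ha, D.hq.dvd_mul]
  have := D.hq5
  rintro (h | h)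
  · have := Nat.le_of_dvd (by norm_num) h; omega
  · have := Nat.le_of_dvd (by norm_num) (D.hq.dvd_of_dvd_pow h); omega

theorem not_mem_M_of_order {g : G} (hg : orderOf g = D.q) : g ∉ D.M :=
  fun h => D.q_not_dvd_M (hg ▸ orderOf_dvd_natCard _ h)

theorem exists_order_q : ∃ g ∈ D.L, orderOf g = D.q := by
  obtain ⟨j, hj, hc⟩ := D.hLcard
  haveI := Fact.mk D.hq
  obtain ⟨g, hg⟩ := exists_prime_orderOf_dvd_card' (G := D.L) D.q
    (hc ▸ (dvd_pow_self D.q hj.ne').mul_left _)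
  exact ⟨g, g.2, by rwa [orderOf_coe]⟩

/-- A subgroup normalized by `L` without elements of order `q` lies in `O`. -/
theorem le_O_of_no_q {R : Subgroup G} (hRL : R ≤ D.L) (hR : D.L ≤ normalizer (R : Set G))
    (hq : ∀ g ∈ R, orderOf g ≠ D.q) : R ≤ D.O := by
  refine D.hOmax R hRL ?_ hR
  obtain ⟨a, b, hab⟩ := D.card_L
  have hd : Nat.card R ∣ 2 ^ a * D.q ^ b := hab ▸ card_dvd_of_le hRL
  haveI := Fact.mk D.hq
  have hn : ¬ D.q ∣ Nat.card R := fun h => by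
    obtain ⟨g, hg⟩ := exists_prime_orderOf_dvd_card' (G := R) D.q h
    exact hq g g.2 (by rwa [orderOf_coe])
  have hd2 : Nat.card R ∣ 2 ^ a :=
    ((D.hq.coprime_iff_not_dvd.2 hn).symm.pow_right b).dvd_of_dvd_mul_right hd
  obtain ⟨i, -, hi⟩ := (Nat.dvd_prime_pow Nat.prime_two).1 hd2
  exact IsPGroup.of_card hi

theorem O_ne_K : D.O ≠ D.K := fun h => by
  refine D.not_both_le_normalizer D.K D.K_pGroup ?_ D.hKM (h ▸ D.hOL)
  exact fun e => D.z_ne_one (mem_bot.1 (e ▸ D.z_mem_K))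

theorem conj_mem_Zl {l a : G} (hl : l ∈ D.L) (ha : a ∈ D.Zk) : l * a * l⁻¹ ∈ D.Zl :=
  subset_closure ⟨l, hl, a, ha, rfl⟩

theorem Zk_le_Zl : D.Zk ≤ D.Zl := fun a ha => by simpa using D.conj_mem_Zl (one_mem D.L) ha

theorem L_le_normalizer_Zl : D.L ≤ normalizer (D.Zl : Set G) := by
  intro g hg
  refine mem_normalizer_of_conj fun v hv => ?_
  have hle : D.Zl.map (MulAut.conj g).toMonoidHom ≤ D.Zl := by
    rw [Zl, MonoidHom.map_closure]
    refine (closure_le _).2 ?_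
    rintro _ ⟨_, ⟨l, hl, a, ha, rfl⟩, rfl⟩
    refine subset_closure ⟨g * l, mul_mem hg hl, a, ha, ?_⟩
    simp [mul_assoc]
  exact hle ⟨v, hv, rfl⟩

theorem Zl_le_O (hZO : D.Zk ≤ D.O) : D.Zl ≤ D.O := by
  refine (closure_le _).2 ?_
  rintro _ ⟨l, hl, a, ha, rfl⟩
  exact (mem_normalizer_iff.1 (D.hOL hl) a).1 (hZO ha)

theorem Phi_le_O : D.Phi ≤ D.O := map_subtype_le _

theorem O_le_normalizer_Phi : D.O ≤ normalizer (D.Phi : Set G) := by
  intro g hg
  refine mem_normalizer_of_conj fun v hv => ?_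
  obtain ⟨w, hw, rfl⟩ := hv
  exact ⟨⟨g, hg⟩ * w * ⟨g, hg⟩⁻¹, Subgroup.Normal.conj_mem inferInstance w hw _, rfl⟩

end Data

end CfsgLib.NineAmalgam
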