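import Cfsg.Agent.Lib.SmallSimple.NineAmalgam.DirectMod

/-!
The last steps of the direct proof that the amalgam data are contradictory: the `M`-conjugates of
`Zl` generate a subgroup `P` of `O` normalized by an element of order `q` (if `K` is not in `O`), or
equal to `K` (if `O = S`).
-/

set_option autoImplicit false
set_option linter.unusedSectionVars false

namespace CfsgLib.NineAmalgam

open Subgroup
open scoped commutatorElement

namespace Data

variable {G : Type*} [Group G]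

/-- `Zl` together with its two conjugates under `x`. -/
def ZP (D : Data G) : Subgroup G :=
  closure ((D.Zl : Set G) ∪ {y | ∃ a ∈ D.Zl, D.x * a * D.x⁻¹ = y} ∪
    {y | ∃ a ∈ D.Zl, D.x⁻¹ * a * D.x = y})

variable [Finite G] (D : Data G)

theorem Zl_le_ZP : D.Zl ≤ D.ZP := fun _ ha => subset_closure (Or.inl (Or.inl ha))

theorem x_conj_mem_ZP {a : G} (ha : a ∈ D.Zl) : D.x * a * D.x⁻¹ ∈ D.ZP :=
  subset_closure (Or.inl (Or.inr ⟨a, ha, rfl⟩))

theorem x_inv_conj_mem_ZP {a : G} (ha : a ∈ D.Zl) : D.x⁻¹ * a * D.x ∈ D.ZP :=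
  subset_closure (Or.inr ⟨a, ha, rfl⟩)

theorem ZP_le {H : Subgroup G} (h : ∀ a ∈ D.Zl, a ∈ H ∧ D.x * a * D.x⁻¹ ∈ H ∧ D.x⁻¹ * a * D.x ∈ H) :
    D.ZP ≤ H := by
  refine (closure_le _).2 ?_
  rintro y ((hy | ⟨a, ha, rfl⟩) | ⟨a, ha, rfl⟩)
  exacts [(h y hy).1, (h a ha).2.1, (h a ha).2.2]

theorem mem_normalizer_ZP {g : G} (h : ∀ a ∈ D.Zl, g * a * g⁻¹ ∈ D.ZP ∧
    g * (D.x * a * D.x⁻¹) * g⁻¹ ∈ D.ZP ∧ g * (D.x⁻¹ * a * D.x) * g⁻¹ ∈ D.ZP) :
    g ∈ normalizer (D.ZP : Set G) := by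
  refine mem_normalizer_of_conj fun v hv => ?_
  have hle : D.ZP ≤ D.ZP.comap (MulAut.conj g).toMonoidHom :=
    D.ZP_le fun a ha => ⟨(h a ha).1, (h a ha).2.1, (h a ha).2.2⟩
  exact hle hv

theorem x_inv_eq : D.x⁻¹ = D.x * D.x :=
  inv_eq_of_mul_eq_one_right (by rw [← D.x_cube, pow_succ, pow_two, mul_assoc])

theorem M_le_normalizer_ZP : D.M ≤ normalizer (D.ZP : Set G) := by
  have hn : ∀ {t a : G}, t ∈ D.S → a ∈ D.Zl → t * a * t⁻¹ ∈ D.Zl := fun ht ha =>
    (mem_normalizer_iff.1 (D.L_le_normalizer_Zl (D.hSL ht)) _).1 ha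
  have hx : D.x ∈ normalizer (D.ZP : Set G) := by
    refine D.mem_normalizer_ZP fun a ha => ⟨D.x_conj_mem_ZP ha, ?_, ?_⟩
    · have e : D.x * (D.x * a * D.x⁻¹) * D.x⁻¹ = D.x⁻¹ * a * D.x := by
        rw [show D.x * (D.x * a * D.x⁻¹) * D.x⁻¹ = (D.x * D.x) * a * (D.x * D.x)⁻¹ by group,
          ← D.x_inv_eq, inv_inv]
      rw [e]
      exact D.x_inv_conj_mem_ZP ha
    · rw [show D.x * (D.x⁻¹ * a * D.x) * D.x⁻¹ = a by group]
      exact D.Zl_le_ZP ha
  have hK : D.K ≤ normalizer (D.ZP : Set G) := by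
    intro k hk
    refine D.mem_normalizer_ZP fun a ha => ⟨D.Zl_le_ZP (hn (D.hKS hk) ha), ?_, ?_⟩
    · rw [show k * (D.x * a * D.x⁻¹) * k⁻¹ =
        D.x * ((D.x⁻¹ * k * D.x) * a * (D.x⁻¹ * k * D.x)⁻¹) * D.x⁻¹ by group]
      exact D.x_conj_mem_ZP (hn (D.hKS (D.conj_mem_K' D.hx hk)) ha)
    · rw [show k * (D.x⁻¹ * a * D.x) * k⁻¹ =
        D.x⁻¹ * ((D.x * k * D.x⁻¹) * a * (D.x * k * D.x⁻¹)⁻¹) * D.x by group]
      exact D.x_inv_conj_mem_ZP (hn (D.hKS (D.conj_mem_K D.hx hk)) ha)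
  have hs : D.s ∈ normalizer (D.ZP : Set G) := by
    refine D.mem_normalizer_ZP fun a ha => ⟨D.Zl_le_ZP (hn D.hs ha), ?_, ?_⟩
    · have e : D.s * (D.x * a * D.x⁻¹) * D.s⁻¹ =
          (D.s * D.x * D.s⁻¹) * (D.s * a * D.s⁻¹) * (D.s * D.x * D.s⁻¹)⁻¹ := by group
      rw [e, D.hsx, inv_inv]
      exact D.x_inv_conj_mem_ZP (hn D.hs ha)
    · have e : D.s * (D.x⁻¹ * a * D.x) * D.s⁻¹ =
          (D.s * D.x * D.s⁻¹)⁻¹ * (D.s * a * D.s⁻¹) * (D.s * D.x * D.s⁻¹) := by group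
      rw [e, D.hsx, inv_inv]
      exact D.x_conj_mem_ZP (hn D.hs ha)
  have hS : D.S ≤ normalizer (D.ZP : Set G) := by
    intro t ht
    by_cases htK : t ∈ D.K
    · exact hK htK
    · have h := mul_mem (hK (D.s_mul_mem_K ht htK)) (inv_mem hs)
      rwa [mul_inv_cancel_right] at h
  have h := D.eq_M_of_le (N := D.M ⊓ normalizer (D.ZP : Set G)) inf_le_left (le_inf D.hSM hS)
    ⟨D.hx, hx⟩ D.hx3
  exact inf_eq_left.1 h

theorem ZP_ne_bot : D.ZP ≠ ⊥ := fun e =>
  D.z_ne_one (mem_bot.1 (e ▸ D.Zl_le_ZP (D.Zk_le_Zl (D.V_le_Zk D.z_mem_V))))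

/-- `Zl` is abelian when it lies in `K`. -/
theorem Zl_comm (hZK : D.Zl ≤ D.K) {u v : G} (hu : u ∈ D.Zl) (hv : v ∈ D.Zl) : Commute u v := by
  have h1 : ∀ l ∈ D.L, ∀ a ∈ D.Zk, ∀ w ∈ D.Zl, Commute (l * a * l⁻¹) w := by
    intro l hl a ha w hw
    have hw' : l⁻¹ * w * l ∈ D.Zl := by
      have := (mem_normalizer_iff.1 (inv_mem (D.L_le_normalizer_Zl hl)) w).1 hw
      rwa [inv_inv] at this
    have h := (D.commute_Zk ha (hZK hw')).symm.map (MulAut.conj l).toMonoidHom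
    simpa [mul_assoc] using h
  have h2 : D.Zl ≤ centralizer (D.Zl : Set G) := by
    refine (closure_le _).2 ?_
    rintro _ ⟨l, hl, a, ha, rfl⟩
    exact mem_centralizer_iff.2 fun w hw => (h1 l hl a ha w hw).eq.symm
  exact (mem_centralizer_iff.1 (h2 hv) u hu)

/-- The final argument when `K` is not contained in `O`. -/
theorem false_of_not_le (hZO : D.Zk ≤ D.O) (hZK : D.Zl ≤ D.K)
    (hpair : ∀ u ∈ D.Zl, ∀ v ∈ D.Zl,
      Commute u (D.x * v * D.x⁻¹) ∧ Commute u (D.x⁻¹ * v * D.x))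
    (hex : ∀ R : Subgroup G, R ≤ D.L → D.L ≤ normalizer (R : Set G) →
      ∀ k ∈ D.K, k ∈ R → k ∉ D.O → ∃ g ∈ R, orderOf g = D.q ∧ ∀ o ∈ D.O, ⁅g, o⁆ ∈ D.Zl)
    (hK : ¬ D.K ≤ D.O) : False := by
  have hlO : D.Zl ≤ D.O := D.Zl_le_O hZO
  -- the centralizer of `Zl` in `K` lies in `O`
  have hC : ∀ k ∈ D.K, (∀ a ∈ D.Zl, Commute k a) → k ∈ D.O := by
    intro k hk hka
    by_contra hkO
    have hR : D.L ≤ normalizer ((D.L ⊓ centralizer (D.Zl : Set G) : Subgroup G) : Set G) :=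
      fun g hg => mem_normalizer_of_conj fun l hl => Subgroup.mem_inf.2
        ⟨D.L.mul_mem (D.L.mul_mem hg hl.1) (D.L.inv_mem hg), mem_centralizer_iff.2 fun a ha => by
          have ha' : g⁻¹ * a * g ∈ D.Zl := by
            have := (mem_normalizer_iff.1 (inv_mem (D.L_le_normalizer_Zl hg)) a).1 ha
            rwa [inv_inv] at this
          have h := (Commute.map (mem_centralizer_iff.1 hl.2 _ ha' : Commute (g⁻¹ * a * g) l)
            (MulAut.conj g).toMonoidHom)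
          simpa [mul_assoc] using h.eq⟩
    obtain ⟨g, hgR, hg, hgo⟩ := hex _ inf_le_left hR k hk
      ⟨D.K_le_L hk, mem_centralizer_iff.2 fun a ha => (hka a ha).eq.symm⟩ hkO
    refine D.no_q_chain hgR.1 hg hlO (fun a ha => ?_) hgo
    rw [← mem_centralizer_iff.1 hgR.2 a ha, mul_inv_cancel_right]
  have hPO : D.ZP ≤ D.O := by
    refine D.ZP_le fun a ha => ⟨hlO ha, ?_, ?_⟩
    · exact hC _ (D.conj_mem_K D.hx (hZK ha)) fun b hb => (hpair b hb a ha).1.symm
    · exact hC _ (D.conj_mem_K' D.hx (hZK ha)) fun b hb => (hpair b hb a ha).2.symm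
  obtain ⟨k, hk, hkO⟩ := SetLike.not_le_iff_exists.1 hK
  obtain ⟨g, hgL, hg, hgo⟩ := hex D.L le_rfl le_normalizer k hk (D.K_le_L hk) hkO
  have hgP : g ∈ normalizer (D.ZP : Set G) := by
    refine mem_normalizer_of_conj fun p hp => ?_
    have h := mul_mem (D.Zl_le_ZP (hgo p (hPO hp))) hp
    rwa [commutatorElement_def, inv_mul_cancel_right] at h
  rw [D.hMmax D.ZP (D.O_pGroup.to_le hPO) D.ZP_ne_bot D.M_le_normalizer_ZP] at hgP
  exact D.not_mem_M_of_order hg hgP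

/-- A subgroup of `S` containing `K` and an element outside is `S`. -/
theorem eq_S_of_not_mem {H : Subgroup G} (hHS : H ≤ D.S) (hKH : D.K ≤ H) {t : G} (ht : t ∈ H)
    (htK : t ∉ D.K) : H = D.S := by
  refine le_antisymm hHS fun v hv => ?_
  by_cases hvK : v ∈ D.K
  · exact hKH hvK
  · have hs : D.s ∈ H := by
      have h := mul_mem (inv_mem ht) (hKH (D.s_mul_mem_K (hHS ht) htK))
      rwa [inv_mul_cancel_left] at h
    have h := mul_mem (hKH (D.s_mul_mem_K hv hvK)) (inv_mem hs)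
    rwa [mul_inv_cancel_right] at h

/-- A permutation of at most four points, of order dividing a prime at least five, is trivial. -/
theorem perm_eq_one {Q : Type*} [Finite Q] (hQ : Nat.card Q ≤ 4) {q : ℕ} (hq : q.Prime) (hq5 : 5 ≤ q)
    {σ : Equiv.Perm Q} (h : σ ^ q = 1) : σ = 1 := by
  have h1 : orderOf σ ∣ q := orderOf_dvd_of_pow_eq_one h
  have h2 : orderOf σ ∣ Nat.factorial 4 :=
    (orderOf_dvd_natCard σ).trans (by rw [Nat.card_perm]; exact Nat.factorial_dvd_factorial hQ)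
  refine orderOf_eq_one_iff.1 (Nat.eq_one_of_dvd_coprimes ?_ h1 h2)
  refine hq.coprime_iff_not_dvd.2 fun hd => ?_
  have := (hq.dvd_factorial).1 hd
  omega

/-- The final argument when `O = S`. -/
theorem false_of_le (hZK : D.Zl ≤ D.K)
    (hpair : ∀ u ∈ D.Zl, ∀ v ∈ D.Zl,
      Commute u (D.x * v * D.x⁻¹) ∧ Commute u (D.x⁻¹ * v * D.x))
    (hK : D.K ≤ D.O) : False := by
  have hOS : D.O = D.S := by
    obtain ⟨t, ht, htK⟩ := SetLike.exists_of_lt (lt_of_le_of_ne hK D.O_ne_K.symm)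
    exact D.eq_S_of_not_mem D.hOS hK ht htK
  have hSn : D.L ≤ normalizer (D.S : Set G) := hOS ▸ D.hOL
  have hSZ : D.S ≤ normalizer (D.Zl : Set G) := D.hSL.trans D.L_le_normalizer_Zl
  by_cases hab : ∀ t ∈ D.S, ∀ u ∈ D.S, ⁅t, u⁆ ∈ D.Zl
  · -- then the conjugates of `Zl` generate `K`, which is therefore abelian
    set T := trivMod D.M (D.K : Set G) D.ZP
    have hsT : D.s ∈ T := ⟨⟨D.hSM D.hs, D.M_le_normalizer_ZP (D.hSM D.hs)⟩,
      fun k hk => D.Zl_le_ZP (hab _ D.hs _ (D.hKS hk))⟩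
    have hsT' : D.x * D.s * D.x⁻¹ ∈ T := by
      have hm : D.x * D.s * D.x⁻¹ ∈ D.M := mul_mem (mul_mem D.hx (D.hSM D.hs)) (inv_mem D.hx)
      refine ⟨⟨hm, D.M_le_normalizer_ZP hm⟩, fun k hk => ?_⟩
      have h := (mem_normalizer_iff.1 (D.M_le_normalizer_ZP D.hx) _).1
        (hsT.2 _ (D.conj_mem_K' D.hx hk))
      rw [← conj_commutator] at h
      rwa [show D.x * (D.x⁻¹ * k * D.x) * D.x⁻¹ = k by group] at h
    have hxT : D.x ∈ T := by
      have h := mul_mem hsT (inv_mem hsT')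
      have e : D.s * (D.x * D.s * D.x⁻¹)⁻¹ = D.x := by
        calc D.s * (D.x * D.s * D.x⁻¹)⁻¹ = (D.s * D.x * D.s⁻¹) * D.x⁻¹ := by group
          _ = D.x := by
            rw [D.hsx, ← mul_inv_rev, inv_eq_iff_mul_eq_one, ← pow_two, ← pow_succ, D.x_cube]
      rwa [e] at h
    let f : D.K → D.K := fun k => ⟨⁅D.x, (k : G)⁆, by
      rw [commutatorElement_def]
      exact mul_mem (D.conj_mem_K D.hx k.2) (inv_mem k.2)⟩
    have hf : Function.Injective f := fun k k' e => by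
      have e' : D.x * k * D.x⁻¹ * (k : G)⁻¹ = D.x * k' * D.x⁻¹ * (k' : G)⁻¹ := by
        have := congrArg Subtype.val e
        simpa [f, commutatorElement_def] using this
      have h1 : (k' : G)⁻¹ * k = 1 := by
        refine D.fpf_S (mul_mem (inv_mem (D.hKS k'.2)) (D.hKS k.2)) ?_
        show (k' : G)⁻¹ * k * D.x = D.x * ((k' : G)⁻¹ * k)
        have e2 : D.x * k * D.x⁻¹ = D.x * k' * D.x⁻¹ * (k' : G)⁻¹ * k := by
          rw [← e', inv_mul_cancel_right]
        calc (k' : G)⁻¹ * k * D.x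
            = (D.x * k' * D.x⁻¹)⁻¹ * (D.x * k' * D.x⁻¹ * (k' : G)⁻¹ * k) * D.x := by group
          _ = (D.x * k' * D.x⁻¹)⁻¹ * (D.x * k * D.x⁻¹) * D.x := by rw [← e2]
          _ = D.x * ((k' : G)⁻¹ * k) := by group
      exact Subtype.ext (inv_mul_eq_one.1 h1).symm
    have hKP : D.K ≤ D.ZP := fun k hk => by
      obtain ⟨k', hk'⟩ := (Finite.injective_iff_surjective.1 hf) ⟨k, hk⟩
      rw [← show ⁅D.x, (k' : G)⁆ = k from congrArg Subtype.val hk']
      exact hxT.2 _ k'.2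
    have hcomm : ∀ {u v : G}, u ∈ D.ZP → v ∈ D.Zl → Commute v u := by
      intro u v hu hv
      have h : D.ZP ≤ centralizer ({v} : Set G) := D.ZP_le fun a ha => by
        simp only [mem_centralizer_singleton_iff]
        exact ⟨(D.Zl_comm hZK ha hv).eq, (hpair v hv a ha).1.eq.symm,
          (hpair v hv a ha).2.eq.symm⟩
      exact ((mem_centralizer_singleton_iff.1 (h hu))).symm
    have hKZ : D.K ≤ D.Zk := by
      intro k hk
      refine D.mem_Zk_iff.2 ⟨hk, fun u hu => ?_⟩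
      have h1 : D.K ≤ centralizer (D.K : Set G) := by
        refine hKP.trans (D.ZP_le fun a ha => ?_)
        have ha1 : a ∈ centralizer (D.K : Set G) :=
          mem_centralizer_iff.2 fun w hw => (hcomm (hKP hw) ha).eq.symm
        refine ⟨ha1, mem_centralizer_iff.2 fun w hw => ?_, mem_centralizer_iff.2 fun w hw => ?_⟩
        · have h := (Commute.map (mem_centralizer_iff.1 ha1 _ (D.conj_mem_K' D.hx hw) :
            Commute (D.x⁻¹ * w * D.x) a) (MulAut.conj D.x).toMonoidHom)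
          simpa [mul_assoc] using h.eq
        · have h := (Commute.map (mem_centralizer_iff.1 ha1 _ (D.conj_mem_K D.hx hw) :
            Commute (D.x * w * D.x⁻¹) a) (MulAut.conj D.x⁻¹).toMonoidHom)
          simpa [mul_assoc] using h.eq
      exact mem_centralizer_iff.1 (h1 hk) u hu
    have hZl : D.Zl = D.K := le_antisymm hZK (hKZ.trans D.Zk_le_Zl)
    exact D.not_both_le_normalizer D.K D.K_pGroup
      (fun e => D.z_ne_one (mem_bot.1 (e ▸ D.z_mem_K))) D.hKM (hZl ▸ D.L_le_normalizer_Zl)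
  · -- otherwise an element of order `q` fixes `K`
    obtain ⟨g, hgL, hg⟩ := D.exists_order_q
    have hgS : ∀ t ∈ D.S, g * t * g⁻¹ ∈ D.S := fun t ht => (mem_normalizer_iff.1 (hSn hgL) t).1 ht
    have hgZ : ∀ a ∈ D.Zl, g * a * g⁻¹ ∈ D.Zl := fun a ha =>
      (mem_normalizer_iff.1 (D.L_le_normalizer_Zl hgL) a).1 ha
    set Zc := trivMod D.S (D.S : Set G) D.Zl
    have hmemZc : ∀ {u : G}, u ∈ D.S → (∀ t ∈ D.S, ⁅u, t⁆ ∈ D.Zl) → u ∈ Zc :=
      fun hu h => ⟨⟨hu, hSZ hu⟩, h⟩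
    have hswap : ∀ {u t : G}, ⁅u, t⁆ ∈ D.Zl → ⁅t, u⁆ ∈ D.Zl := fun h => by
      rw [← commutatorElement_inv]; exact inv_mem h
    have hcom : ∀ {u t : G}, u ∈ D.K → t ∈ D.K → ⁅u, t⁆ ∈ D.Zl := fun hu ht =>
      D.Zk_le_Zl (D.commutator_mem_Zk hu ht)
    -- `Zc ≤ K`
    have hZcK : Zc ≤ D.K := by
      intro u hu
      by_contra huK
      refine hab fun t ht w hw => ?_
      have hKc : D.K ≤ Zc := fun k hk => hmemZc (D.hKS hk) fun v hv => by
        have hH : trivMod D.S ({k} : Set G) D.Zl = D.S := by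
          refine D.eq_S_of_not_mem (trivMod_le _ _ _) (fun k' hk' => ⟨⟨D.hKS hk', hSZ (D.hKS hk')⟩,
            fun y hy => by rw [Set.mem_singleton_iff.1 hy]; exact hcom hk' hk⟩) (t := u) ?_ huK
          exact ⟨hu.1, fun y hy => by rw [Set.mem_singleton_iff.1 hy]; exact hu.2 k (D.hKS hk)⟩
        exact hswap ((hH.ge hv).2 k rfl)
      exact ((D.eq_S_of_not_mem (trivMod_le _ _ _) hKc hu huK).ge ht).2 w hw
    have hgK : g ∈ normalizer (D.K : Set G) := by
      by_contra hgn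
      -- `g K g⁻¹ ≠ K`
      obtain ⟨k₀, hk₀, hk₀K⟩ : ∃ k ∈ D.K, g * k * g⁻¹ ∉ D.K := by
        by_contra hall
        push Not at hall
        exact hgn (mem_normalizer_of_conj hall)
      let K' : Subgroup G := D.K.map (MulAut.conj g).toMonoidHom
      have hK'S : K' ≤ D.S := by
        rintro _ ⟨k, hk, rfl⟩
        exact hgS k (D.hKS hk)
      have hI : D.K ⊓ K' ≤ Zc := by
        rintro u ⟨huK, ⟨k₁, hk₁, e₁⟩⟩
        have e₁' : g * k₁ * g⁻¹ = u := e₁
        refine hmemZc (D.hKS huK) fun t ht => ?_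
        have hH : trivMod D.S ({u} : Set G) D.Zl = D.S := by
          refine D.eq_S_of_not_mem (trivMod_le _ _ _) (fun k' hk' => ⟨⟨D.hKS hk', hSZ (D.hKS hk')⟩,
            fun y hy => by rw [Set.mem_singleton_iff.1 hy]; exact hcom hk' huK⟩)
            (t := g * k₀ * g⁻¹) ⟨⟨hgS _ (D.hKS hk₀), hSZ (hgS _ (D.hKS hk₀))⟩, fun y hy => ?_⟩ hk₀K
          rw [Set.mem_singleton_iff.1 hy, ← e₁', conj_commutator]
          exact hgZ _ (hcom hk₀ hk₁)
        exact hswap ((hH.ge ht).2 u rfl)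
      have hidx : Zc.relIndex D.S ≤ 4 := by
        have h2 : D.K.relIndex D.S = 2 := D.K_relIndex
        have h2' : K'.relIndex D.S = 2 := by
          have hS' : D.S.map (MulAut.conj g).toMonoidHom = D.S := by
            refine eq_of_le_of_card_ge ?_ (card_map_of_injective (MulAut.conj g).injective).ge
            rintro _ ⟨t, ht, rfl⟩
            exact hgS t ht
          conv_lhs => rw [← hS']
          rw [relIndex_map_map_of_injective _ _ (MulAut.conj g).injective, h2]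
        have h4 : (D.K ⊓ K').relIndex D.S ≤ 4 :=
          relIndex_inf_le.trans (by rw [h2, h2'])
        refine le_trans (Nat.le_of_dvd (Nat.pos_of_ne_zero ?_) (relIndex_dvd_of_le_left D.S hI)) h4
        exact index_ne_zero_of_finite
      -- so `g` fixes every coset of `Zc` in `S`
      have hgc : ∀ u ∈ Zc, g * u * g⁻¹ ∈ Zc := fun u hu => hmemZc (hgS u hu.1.1) fun t ht => by
        have ht' : g⁻¹ * t * g ∈ D.S := by
          have := (mem_normalizer_iff.1 (inv_mem (hSn hgL)) t).1 ht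
          rwa [inv_inv] at this
        have h := hgZ _ (hu.2 _ ht')
        rw [← conj_commutator] at h
        rwa [show g * (g⁻¹ * t * g) * g⁻¹ = t by group] at h
      let e : MulAut D.S := normalizerMonoidHom D.S ⟨g, hSn hgL⟩
      have he : ∀ t : D.S, (e t : G) = g * t * g⁻¹ := fun t => rfl
      have hZn : g ∈ normalizer (Zc : Set G) := mem_normalizer_of_conj hgc
      let σ : Equiv.Perm (D.S ⧸ Zc.subgroupOf D.S) :=
        Quotient.congr e.toEquiv fun t u => by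
          simp only [QuotientGroup.leftRel_apply, mem_subgroupOf, coe_mul, InvMemClass.coe_inv,
            MulEquiv.toEquiv_eq_coe, EquivLike.coe_coe, he]
          rw [show (g * (t : G) * g⁻¹)⁻¹ * (g * u * g⁻¹) = g * ((t : G)⁻¹ * u) * g⁻¹ by group]
          exact mem_normalizer_iff.1 hZn _
      have hσ : ∀ (n : ℕ) (t : D.S), (σ ^ n) (QuotientGroup.mk t) = QuotientGroup.mk ((e ^ n) t) := by
        intro n
        induction n with
        | zero => intro t; rfl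
        | succ n ih =>
          intro t
          rw [pow_succ', Equiv.Perm.mul_apply, ih, pow_succ', MulAut.mul_apply]
          rfl
      have heq : e ^ D.q = 1 := by
        have hp : (⟨g, hSn hgL⟩ : normalizer (D.S : Set G)) ^ D.q = 1 := Subtype.ext (by
          simp only [SubmonoidClass.coe_pow, OneMemClass.coe_one]
          rw [← hg, pow_orderOf_eq_one])
        rw [← map_pow, hp, map_one]
      have hσ1 : σ = 1 := by
        refine perm_eq_one (by simpa [relIndex, index] using hidx) D.hq D.hq5 (Equiv.ext fun c => ?_)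
        obtain ⟨t, rfl⟩ := QuotientGroup.mk_surjective c
        rw [hσ, heq]; rfl
      have hfix := congrArg (fun p : Equiv.Perm _ => p (QuotientGroup.mk (⟨k₀, D.hKS hk₀⟩ : D.S))) hσ1
      have h' : (QuotientGroup.mk (e ⟨k₀, D.hKS hk₀⟩) : D.S ⧸ Zc.subgroupOf D.S) =
          QuotientGroup.mk ⟨k₀, D.hKS hk₀⟩ := hfix
      rw [QuotientGroup.eq, mem_subgroupOf] at h'
      simp only [coe_mul, InvMemClass.coe_inv, he] at h'
      have h'' := mul_mem (D.K.mul_mem hk₀ (inv_mem (hZcK h'))) (one_mem D.K)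
      refine hk₀K ?_
      simpa [mul_assoc] using h''
    refine D.not_mem_M_of_order hg ?_
    rw [← D.hMmax D.K D.K_pGroup (fun e => D.z_ne_one (mem_bot.1 (e ▸ D.z_mem_K))) D.hKM]
    exact hgK

end Data

end CfsgLib.NineAmalgam
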