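import Cfsg.Agent.Lib.SmallSimple.NineAmalgam.DirectSect
import Cfsg.Agent.Lib.CFun.OffenderCore

/-!
Step 2 of the direct proof on the amalgam data: `Zl ≤ K`.  A conjugate `ζ` of an element of `Z(K)`
outside `K` centralizes a quarter of `O`, so `|O ∩ K|² ≤ 4|K|`; against the bound for the action of
`K` on `O/Φ(O)` this leaves no case with `16 ≤ |K|`.
-/

set_option autoImplicit false
set_option linter.unusedSectionVars false

namespace CfsgLib.NineAmalgam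

open Subgroup
open scoped commutatorElement

namespace Data

variable {G : Type*} [Group G] [Finite G] (D : Data G)

theorem comm_mem_O {k u : G} (hk : k ∈ D.L) (hu : u ∈ D.O) : ⁅k, u⁆ ∈ D.O := by
  rw [commutatorElement_def]
  exact mul_mem ((mem_normalizer_iff.1 (D.hOL hk) u).1 hu) (inv_mem hu)

theorem comm_mem_Phi_of_mem {k f : G} (hk : k ∈ D.L) (hf : f ∈ D.Phi) : ⁅k, f⁆ ∈ D.Phi := by
  rw [commutatorElement_def]
  exact mul_mem ((mem_normalizer_iff.1 (D.L_le_normalizer_Phi hk) f).1 hf) (inv_mem hf)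

theorem conj_Phi {o f : G} (ho : o ∈ D.O) (hf : f ∈ D.Phi) : o * f * o⁻¹ ∈ D.Phi :=
  (mem_normalizer_iff.1 (D.O_le_normalizer_Phi ho) f).1 hf

/-- Squares of `K` lie in `O`. -/
theorem sq_mem_O {k : G} (hk : k ∈ D.K) : k * k ∈ D.O := by
  refine D.mem_O_of_trivial_mod_Phi (D.K_le_L (mul_mem hk hk)) ?_
  refine (D.sect D.Phi_le_O le_rfl D.L_le_normalizer_Phi).trivial_of_index_two D.faithful_Phi
    (D.K_le_L (mul_mem hk hk)) (D.exists_two_pow (D.hKS (mul_mem hk hk))) (H := D.O ⊓ D.K)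
    inf_le_left (D.relIndex_K_le D.hOS) fun u hu => ?_
  have hc : ⁅k, u⁆ ∈ D.Zk := D.commutator_mem_Zk hk hu.2
  have e : ⁅k * k, u⁆ = k * ⁅k, u⁆ * k⁻¹ * ⁅k, u⁆ := by
    simp only [commutatorElement_def]; group
  rw [e, (D.commute_Zk hc hk).eq, mul_inv_cancel_right]
  exact D.sq_mem_Phi (D.Zk_le_O hc)

/-- `K` acts on `O/Φ(O)` quadratically up to rank one. -/
theorem quad_Phi (hOK : ¬ D.O ≤ D.K) {a b : G} (ha : a ∈ D.K) (hb : b ∈ D.K) :
    ∃ z : G, ∀ u ∈ D.O, ⁅a, ⁅b, u⁆⁆ ∈ D.Phi ∨ z⁻¹ * ⁅a, ⁅b, u⁆⁆ ∈ D.Phi := by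
  obtain ⟨u0, hu0, hu0K⟩ := SetLike.not_le_iff_exists.1 hOK
  refine ⟨⁅a, ⁅b, u0⁆⁆, fun u hu => ?_⟩
  by_cases huK : u ∈ D.K
  · left
    rw [Commute.commutator_eq_one' (D.commute_Zk (D.commutator_mem_Zk hb huK) ha)]
    exact one_mem _
  · right
    set h := u * u0⁻¹ with hhdef
    have hhO : h ∈ D.O := mul_mem hu (inv_mem hu0)
    have hhK : h ∈ D.K := by
      have h1 := D.s_mul_mem_K (D.hOS hu) huK
      have h2 := D.s_mul_mem_K (D.hOS hu0) hu0K
      have := mul_mem h1 (inv_mem h2)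
      rwa [show u * D.s * (u0 * D.s)⁻¹ = u * u0⁻¹ by group] at this
    set w := ⁅b, u0⁆ with hw
    have hwO : w ∈ D.O := D.comm_mem_O (D.K_le_L hb) hu0
    set c := ⁅b, h⁆ with hc
    have hcZ : c ∈ D.Zk := D.commutator_mem_Zk hb hhK
    have hcO : c ∈ D.O := D.Zk_le_O hcZ
    set e := ⁅w⁻¹, h⁆ with he
    have hePhi : e ∈ D.Phi := D.commutator_mem_Phi (inv_mem hwO) hhO
    have e1 : ⁅b, u⁆ = c * (w * e) := by
      rw [hc, he, hw, show u = h * u0 by rw [hhdef, inv_mul_cancel_right]]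
      simp only [commutatorElement_def]; group
    have hac : ⁅a, c⁆ = 1 := Commute.commutator_eq_one' (D.commute_Zk hcZ ha)
    set f := w * ⁅a, e⁆ * w⁻¹ with hf
    have hfPhi : f ∈ D.Phi := D.conj_Phi hwO (D.comm_mem_Phi_of_mem (D.K_le_L ha) hePhi)
    have e2 : ⁅a, c * (w * e)⁆ = ⁅a, c⁆ * (c * (⁅a, w⁆ * f) * c⁻¹) := by
      rw [hf]; simp only [commutatorElement_def]; group
    have e3 : ⁅a, w⁆⁻¹ * (c * (⁅a, w⁆ * f) * c⁻¹) = ⁅⁅a, w⁆⁻¹, c⁆ * (c * f * c⁻¹) := by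
      simp only [commutatorElement_def]; group
    rw [e1, e2, hac, one_mul, e3]
    exact mul_mem (D.commutator_mem_Phi (inv_mem (D.comm_mem_O (D.K_le_L ha) hwO)) hcO)
      (D.conj_Phi hcO hfPhi)

/-- The case `|K : O ∩ K| = 2`: the fixed points of `K` on `O/Φ(O)` of order two leave order at
most four. -/
theorem relIndex_fix_le {a0 : G} (ha0 : a0 ∈ D.K) (ha0O : a0 ∉ D.O) (h2 : D.O.relIndex D.K = 2)
    {C : Subgroup G} (hCO : C ≤ D.O)
    (hC : ∀ u, u ∈ C ↔ u ∈ D.O ∧ ∀ a ∈ D.K, ⁅a, u⁆ ∈ D.Phi)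
    (hC2 : D.Phi.relIndex C = 2) : C.relIndex D.O ≤ 2 := by
  classical
  have ha0L := D.K_le_L ha0
  have hmem : ∀ u ∈ D.O, ⁅a0, u⁆ ∈ D.Phi → u ∈ C := by
    refine fun u hu h => (hC u).2 ⟨hu, fun a ha => ?_⟩
    by_cases haO : a ∈ D.O
    · exact D.commutator_mem_Phi haO hu
    · have hi : (D.O.subgroupOf D.K).index = 2 := h2
      have h1 := mul_mem_iff_of_index_two hi (a := ⟨a, ha⟩) (b := ⟨a0⁻¹, inv_mem ha0⟩)
      simp only [mem_subgroupOf, coe_mul] at h1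
      set o := a * a0⁻¹ with ho
      have hoO : o ∈ D.O := h1.2 (iff_of_false haO fun h => ha0O (inv_mem_iff.1 h))
      have e : ⁅a, u⁆ = o * ⁅a0, u⁆ * o⁻¹ * ⁅o, u⁆ := by
        rw [ho]; simp only [commutatorElement_def]; group
      rw [e]
      exact mul_mem (D.conj_Phi hoO h) (D.commutator_mem_Phi hoO hu)
  have himg : ∀ u ∈ D.O, ⁅a0, u⁆ ∈ C := fun u hu => by
    have hv := D.comm_mem_O ha0L hu
    refine hmem _ hv ?_
    have e : ⁅a0, ⁅a0, u⁆⁆ = ⁅a0 * a0, u⁆ * (⁅a0, u⁆ * ⁅a0, u⁆)⁻¹ := by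
      simp only [commutatorElement_def]; group
    rw [e]
    exact mul_mem (D.commutator_mem_Phi (D.sq_mem_O ha0) hu) (inv_mem (D.sq_mem_Phi hv))
  by_cases hall : D.O ≤ C
  · rw [relIndex_eq_one.2 hall]; norm_num
  obtain ⟨u1, hu1, hu1C⟩ := SetLike.not_le_iff_exists.1 hall
  have hstep : ∀ u ∈ D.O, u ∉ C → u * u1 ∈ C := by
    intro u hu huC
    have h1 := mul_mem_iff_of_index_two (show (D.Phi.subgroupOf C).index = 2 from hC2)
      (a := ⟨_, himg u hu⟩) (b := ⟨_, himg u1 hu1⟩)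
    simp only [mem_subgroupOf, coe_mul] at h1
    have hp := h1.2 (iff_of_false (fun h => huC (hmem u hu h)) fun h => hu1C (hmem u1 hu1 h))
    refine hmem _ (mul_mem hu hu1) ?_
    have e : ⁅a0, u * u1⁆ = (⁅a0, u⁆ * ⁅a0, u1⁆) * ⁅⁅a0, u1⁆⁻¹, u⁆ := by
      simp only [commutatorElement_def]; group
    rw [e]
    exact mul_mem hp (D.commutator_mem_Phi (inv_mem (D.comm_mem_O ha0L hu1)) hu)
  refine (show C.relIndex D.O = 2 from ?_).le
  refine index_eq_two_iff.2 ⟨⟨u1, hu1⟩, fun b => ?_⟩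
  show Xor' ((b : G) * u1 ∈ C) ((b : G) ∈ C)
  by_cases hb : (b : G) ∈ C
  · refine Or.inr ⟨hb, fun h => hu1C ?_⟩
    have := mul_mem (inv_mem hb) h
    rwa [inv_mul_cancel_left] at this
  · exact Or.inl ⟨hstep b b.2 hb, hb⟩

/-- Step 2: `Zl ≤ K`. -/
theorem Zl_le_K : D.Zl ≤ D.K := by
  classical
  have hZO := D.Zk_le_O
  by_cases hOK : D.O ≤ D.K
  · exact (D.Zl_le_O hZO).trans hOK
  refine (closure_le _).2 ?_
  rintro _ ⟨l, hl, a, ha, rfl⟩
  by_contra hζ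
  set ζ := l * a * l⁻¹ with hζdef
  have hζO : ζ ∈ D.O := (mem_normalizer_iff.1 (D.hOL hl) a).1 (hZO ha)
  set E := D.O ⊓ D.K with hE
  set E' := E.map (MulAut.conj l).toMonoidHom with hE'
  have hE'card : Nat.card E' = Nat.card E := card_map_of_injective (MulAut.conj l).injective
  have hE'O : E' ≤ D.O := by
    rintro _ ⟨e, he, rfl⟩
    exact (mem_normalizer_iff.1 (D.hOL hl) e).1 he.1
  set C := D.K ⊓ centralizer ({ζ} : Set G) with hCdef
  have hEC : E' ⊓ D.K ≤ C := by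
    rintro _ ⟨⟨e, he, rfl⟩, hk⟩
    refine ⟨hk, mem_centralizer_iff.2 fun t ht => ?_⟩
    rw [Set.mem_singleton_iff.1 ht, hζdef]
    exact ((D.commute_Zk ha he.2).map (MulAut.conj l).toMonoidHom).symm.eq
  have hE'2 : (E' ⊓ D.K).relIndex E' ≤ 2 := D.relIndex_K_le (hE'O.trans D.hOS)
  have h1 : Nat.card E ≤ 2 * Nat.card C := by
    rw [← hE'card, ← CfsgLib.CFun.card_mul_relIndex' (inf_le_left : E' ⊓ D.K ≤ E'), mul_comm 2]
    exact Nat.mul_le_mul (card_le_of_le hEC) hE'2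
  have h2 := D.card_centralizer_sq_le (D.hSM (D.hOS hζO)) hζ
  rw [← hCdef] at h2
  set r := D.O.relIndex D.K with hr
  have hKr : Nat.card E * r = Nat.card D.K := by
    rw [hr, ← inf_relIndex_right, CfsgLib.CFun.card_mul_relIndex' inf_le_right]
  have hd : Nat.card E ≤ 4 * r := by
    have h3 : Nat.card E * Nat.card E ≤ 4 * (Nat.card E * r) := by
      rw [hKr]
      calc Nat.card E * Nat.card E ≤ (2 * Nat.card C) * (2 * Nat.card C) := Nat.mul_le_mul h1 h1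
        _ = 4 * Nat.card C ^ 2 := by ring
        _ ≤ 4 * Nat.card D.K := Nat.mul_le_mul_left _ h2
    rw [show 4 * (Nat.card E * r) = Nat.card E * (4 * r) by ring] at h3
    exact Nat.le_of_mul_le_mul_left h3 Nat.card_pos
  have hbig := D.hKbig
  have hr1 : r ≠ 1 := fun e => by
    rw [e, mul_one] at hKr hd
    omega
  have hr0 : r ≠ 0 := fun e => by
    rw [e, mul_zero] at hKr
    omega
  have hO2 : Nat.card D.O ≤ 2 * Nat.card E := by
    rw [← CfsgLib.CFun.card_mul_relIndex' (inf_le_left : E ≤ D.O), mul_comm 2]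
    exact Nat.mul_le_mul_left _ (D.relIndex_K_le D.hOS)
  obtain ⟨Cf, hPC, hCO, hCmem, hb, hb2⟩ :=
    (D.sect D.Phi_le_O le_rfl D.L_le_normalizer_Phi).card_bound (A := D.K) D.K_le_L D.K_pGroup
      (fun k hk => D.sq_mem_O hk) D.faithful_Phi fun a ha b hb => D.quad_Phi hOK ha hb
  rw [← hr] at hb
  have hW1 : D.Phi.relIndex D.O ≠ 1 := fun e => by
    rw [e] at hb
    have : r ^ 2 = 1 := Nat.eq_one_of_mul_eq_one_right (le_antisymm hb (Nat.pos_of_ne_zero fun e0 => by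
      rcases mul_eq_zero.1 e0 with h | h
      · exact hr0 (pow_eq_zero_iff (two_ne_zero) |>.1 h)
      · exact index_ne_zero_of_finite h))
    exact hr1 (by simpa using this)
  have hc2 := hb2 hW1
  have hPhi : 2 ≤ Nat.card D.Phi := by
    have hne : D.Phi ≠ ⊥ := fun e => hOK fun o ho => by
      rw [← D.centralizer_Zk]
      refine mem_centralizer_iff.2 fun v hv => ?_
      have h := D.commutator_mem_Phi (hZO hv) ho
      rw [e, mem_bot] at h
      exact (commute_of_commutator_eq_one h).eq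
    have : Nontrivial D.Phi := (nontrivial_iff_ne_bot _).2 hne
    exact Finite.one_lt_card
  have hWO : Nat.card D.Phi * D.Phi.relIndex D.O = Nat.card D.O :=
    CfsgLib.CFun.card_mul_relIndex' D.Phi_le_O
  have hrr : r = 2 := by
    have h4 : r * r * 4 ≤ r * 8 := by
      calc r * r * 4 = 2 * (r ^ 2 * 2) := by ring
        _ ≤ 2 * (r ^ 2 * D.Phi.relIndex Cf) := by gcongr
        _ ≤ Nat.card D.Phi * D.Phi.relIndex D.O := Nat.mul_le_mul hPhi hb
        _ ≤ 2 * Nat.card E := hWO ▸ hO2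
        _ ≤ r * 8 := by omega
    rw [mul_assoc] at h4
    have := Nat.le_of_mul_le_mul_left h4 (Nat.pos_of_ne_zero hr0)
    omega
  rw [hrr] at hb hd hKr
  have hW : D.Phi.relIndex D.O = 8 ∧ D.Phi.relIndex Cf = 2 := by
    have h5 : 2 * D.Phi.relIndex D.O ≤ Nat.card D.Phi * D.Phi.relIndex D.O :=
      Nat.mul_le_mul_right _ hPhi
    norm_num at hb
    omega
  obtain ⟨a0, ha0, ha0O⟩ := SetLike.not_le_iff_exists.1
    (show ¬ D.K ≤ D.O from fun h => hr1 (relIndex_eq_one.2 h))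
  have h6 := D.relIndex_fix_le ha0 ha0O hrr hCO hCmem hW.2
  have h7 := relIndex_mul_relIndex D.Phi Cf D.O hPC hCO
  rw [hW.1, hW.2] at h7
  omega

end Data

end CfsgLib.NineAmalgam
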