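import Cfsg.Agent.Lib.SmallSimple.NineAmalgam.DirectMod

/-!
Steps 1 and 3 of the direct proof on the amalgam data, from the two linear lemmas on elements of `L`
centralizing a hyperplane of an elementary section.
-/

set_option autoImplicit false
set_option linter.unusedSectionVars false

namespace CfsgLib.NineAmalgam

open Subgroup
open scoped commutatorElement

namespace Data

variable {G : Type*} [Group G] [Finite G] (D : Data G)

theorem exists_two_pow {v : G} (hv : v ∈ D.S) : ∃ k, v ^ 2 ^ k = 1 := by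
  obtain ⟨k, hk⟩ := D.hS ⟨v, hv⟩
  exact ⟨k, by simpa using congrArg Subtype.val hk⟩

/-- `Z(K) ≤ O`: a central element of `K` centralizes a subgroup of index two of `O`. -/
theorem Zk_le_O_of
    (hT : ∀ v ∈ D.L, (∃ k, v ^ 2 ^ k = 1) → ∀ H : Subgroup G, H ≤ D.O → H.relIndex D.O ≤ 2 →
      (∀ u ∈ H, ⁅v, u⁆ ∈ D.Phi) → ∀ u ∈ D.O, ⁅v, u⁆ ∈ D.Phi) :
    D.Zk ≤ D.O := fun v hv =>
  D.mem_O_of_trivial_mod_Phi (D.hSL (D.Zk_le_S hv))
    (hT v (D.hSL (D.Zk_le_S hv)) (D.exists_two_pow (D.Zk_le_S hv)) (D.O ⊓ D.K) inf_le_left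
      (D.relIndex_K_le D.hOS) fun u hu => by
        rw [Commute.commutator_eq_one' (D.commute_Zk hv hu.2).symm]
        exact one_mem _)

/-- An element of order `q` trivial on `O/Zl`, inside any `L`-invariant subgroup meeting `K - O`. -/
theorem exists_g_of (hZO : D.Zk ≤ D.O)
    (hT' : ∀ N : Subgroup G, N ≤ D.O → D.Phi ≤ N → D.L ≤ normalizer (N : Set G) →
      ∀ v ∈ D.L, v ∉ D.O → v * v ∈ D.O → ∀ H : Subgroup G, H ≤ D.O → H.relIndex D.O ≤ 2 →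
      (∀ u ∈ H, ⁅v, u⁆ ∈ N) →
      ∃ g ∈ D.L, orderOf g = D.q ∧ (∀ u ∈ D.O, ⁅g, u⁆ ∈ N) ∧
        ∀ P : Subgroup G, v ∈ P → D.L ≤ normalizer (P : Set G) → g ∈ P)
    (R : Subgroup G) (hR : D.L ≤ normalizer (R : Set G))
    (k : G) (hk : k ∈ D.K) (hkR : k ∈ R) (hkO : k ∉ D.O) :
    ∃ g ∈ R, orderOf g = D.q ∧ ∀ o ∈ D.O, ⁅g, o⁆ ∈ D.Zl := by
  classical
  have hlO : D.Zl ≤ D.O := D.Zl_le_O hZO
  -- replace `k` by a power whose square lies in `O`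
  have hex : ∃ i, k ^ 2 ^ i ∈ D.O := by
    obtain ⟨i, hi⟩ := D.exists_two_pow (D.hKS hk)
    exact ⟨i, hi ▸ one_mem _⟩
  obtain ⟨i, hi⟩ : ∃ i, Nat.find hex = i + 1 := by
    refine ⟨Nat.find hex - 1, ?_⟩
    have h0 : Nat.find hex ≠ 0 := fun h0 => hkO (by simpa [h0] using Nat.find_spec hex)
    omega
  have hv1 : k ^ 2 ^ i ∉ D.O := Nat.find_min hex (by omega)
  have hv2 : k ^ 2 ^ i * k ^ 2 ^ i ∈ D.O := by
    rw [← pow_add, ← two_mul, ← pow_succ', ← hi]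
    exact Nat.find_spec hex
  have hN : D.L ≤ normalizer ((D.Zl ⊔ D.Phi : Subgroup G) : Set G) := by
    intro g hg
    refine mem_normalizer_of_conj fun w hw => ?_
    have hle : D.Zl ⊔ D.Phi ≤ (D.Zl ⊔ D.Phi).comap (MulAut.conj g).toMonoidHom :=
      sup_le (fun a ha => mem_sup_left ((mem_normalizer_iff.1 (D.L_le_normalizer_Zl hg) a).1 ha))
        (fun a ha => mem_sup_right ((mem_normalizer_iff.1 (D.L_le_normalizer_Phi hg) a).1 ha))
    exact hle hw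
  obtain ⟨g, hgL, hg, hgN, hgP⟩ := hT' (D.Zl ⊔ D.Phi) (sup_le hlO D.Phi_le_O) le_sup_right hN
    (k ^ 2 ^ i) (D.K_le_L (pow_mem hk _)) hv1 hv2 (D.O ⊓ D.K) inf_le_left (D.relIndex_K_le D.hOS)
    fun u hu => mem_sup_left (D.Zk_le_Zl (D.commutator_mem_Zk (pow_mem hk _) hu.2))
  refine ⟨g, hgP R (pow_mem hkR _) hR, hg, ?_⟩
  -- coprime action: the centralizer of `g` covers `O/Zl`
  set C : Subgroup G := D.O ⊓ centralizer ((zpowers g : Subgroup G) : Set G)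
  have hCN : C ≤ normalizer (D.Zl : Set G) := fun c hc => D.L_le_normalizer_Zl (D.O_le_L hc.1)
  have hA : zpowers g ≤ trivMod D.L (D.O : Set G) (D.Zl ⊔ D.Phi) :=
    zpowers_le.2 ⟨⟨hgL, hN hgL⟩, hgN⟩
  have hNO : D.Zl ⊔ D.Phi ≤ D.O := sup_le hlO D.Phi_le_O
  have htop : (C ⊔ D.Zl).subgroupOf D.O ⊔ frattini D.O = ⊤ := by
    rw [eq_top_iff]
    intro o _
    obtain ⟨n, hn, hon⟩ := CfsgLib.Coprime.exists_fixed_in_coset (A := zpowers g) (N := D.Zl ⊔ D.Phi)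
      (zpowers_le.2 (hN hgL)) (D.coprime_zpowers hg (D.O_pGroup.to_le hNO))
      (Or.inl (CfsgLib.Coprime.isSolvable_of_isMulCommutative inferInstance)) (hN (D.O_le_L o.2))
      fun a ha => by rw [← commutatorElement_def]; exact (hA ha).2 o o.2
    obtain ⟨a, ha, b, hb, hab⟩ := CfsgLib.Coprime.mem_sup_exists
      (D.Phi_le_O.trans (D.O_le_L.trans D.L_le_normalizer_Zl)) hn
    obtain ⟨w, hw, rfl⟩ := Subgroup.mem_map.1 hb
    have h1 : ((o * ⟨a, hlO ha⟩ * w : D.O) : G) ∈ C := ⟨(o * ⟨a, hlO ha⟩ * w : D.O).2, by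
      show (o : G) * a * D.O.subtype w ∈ centralizer ((zpowers g : Subgroup G) : Set G)
      rwa [mul_assoc, hab]⟩
    have hC1 : o * ⟨a, hlO ha⟩ * w ∈ (C ⊔ D.Zl).subgroupOf D.O := mem_subgroupOf.2 (mem_sup_left h1)
    have hC2 : (⟨a, hlO ha⟩ : D.O) ∈ (C ⊔ D.Zl).subgroupOf D.O := mem_subgroupOf.2 (mem_sup_right ha)
    have h2 := mul_mem (mul_mem (mem_sup_left hC1) (inv_mem (mem_sup_right hw)))
      (inv_mem (mem_sup_left hC2) :
        (⟨a, hlO ha⟩ : D.O)⁻¹ ∈ (C ⊔ D.Zl).subgroupOf D.O ⊔ frattini D.O)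
    rwa [mul_inv_cancel_right, mul_inv_cancel_right] at h2
  intro o ho
  have ho' : o ∈ C ⊔ D.Zl := (subgroupOf_eq_top.1 (frattini_nongenerating htop)) ho
  rw [sup_comm] at ho'
  obtain ⟨n, hn, c, hc, rfl⟩ := CfsgLib.Coprime.mem_sup_exists hCN ho'
  have hgc : g * c * g⁻¹ = c := CfsgLib.Coprime.mem_centralizer_iff_conj_eq.1 hc.2 g (mem_zpowers g)
  have e : ⁅g, n * c⁆ = g * n * g⁻¹ * n⁻¹ := by
    rw [commutatorElement_def]
    calc g * (n * c) * g⁻¹ * (n * c)⁻¹ = g * n * g⁻¹ * (g * c * g⁻¹) * c⁻¹ * n⁻¹ := by group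
      _ = g * n * g⁻¹ * n⁻¹ := by rw [hgc, mul_inv_cancel_right]
  rw [e]
  exact mul_mem ((mem_normalizer_iff.1 (D.L_le_normalizer_Zl hgL) n).1 hn) (inv_mem hn)

end Data

end CfsgLib.NineAmalgam
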