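import Cfsg.Agent.Lib.SmallSimple.NineAmalgam.DirectDefs
import Cfsg.Agent.Lib.Coprime.PGroupFrattini

/-!
Elements acting trivially modulo a subgroup, and `Φ(O)`, for the direct proof on the amalgam data.
-/

set_option autoImplicit false
set_option linter.unusedSectionVars false

namespace CfsgLib.NineAmalgam

open Subgroup
open scoped commutatorElement

variable {G : Type*} [Group G]

/-- The elements of `R` normalizing `N` which centralize the set `U` modulo `N`. -/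
def trivMod (R : Subgroup G) (U : Set G) (N : Subgroup G) : Subgroup G where
  carrier := {l | (l ∈ R ∧ l ∈ normalizer (N : Set G)) ∧ ∀ u ∈ U, ⁅l, u⁆ ∈ N}
  one_mem' := ⟨⟨one_mem _, one_mem _⟩, fun u _ => by simp⟩
  mul_mem' := by
    rintro a b ⟨⟨ha, hna⟩, haU⟩ ⟨⟨hb, hnb⟩, hbU⟩
    refine ⟨⟨mul_mem ha hb, mul_mem hna hnb⟩, fun u hu => ?_⟩
    have e : ⁅a * b, u⁆ = a * ⁅b, u⁆ * a⁻¹ * ⁅a, u⁆ := by
      simp only [commutatorElement_def]; group
    rw [e]
    exact mul_mem ((mem_normalizer_iff.1 hna _).1 (hbU u hu)) (haU u hu)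
  inv_mem' := by
    rintro a ⟨⟨ha, hna⟩, haU⟩
    refine ⟨⟨inv_mem ha, inv_mem hna⟩, fun u hu => ?_⟩
    have e : ⁅a⁻¹, u⁆ = a⁻¹ * ⁅a, u⁆⁻¹ * a := by
      simp only [commutatorElement_def]; group
    rw [e]
    have h := (mem_normalizer_iff.1 (inv_mem hna) _).1 (inv_mem (haU u hu))
    rwa [inv_inv] at h

theorem mem_trivMod {R : Subgroup G} {U : Set G} {N : Subgroup G} {l : G} :
    l ∈ trivMod R U N ↔ (l ∈ R ∧ l ∈ normalizer (N : Set G)) ∧ ∀ u ∈ U, ⁅l, u⁆ ∈ N := Iff.rfl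

theorem trivMod_le (R : Subgroup G) (U : Set G) (N : Subgroup G) : trivMod R U N ≤ R :=
  fun _ h => h.1.1

theorem conj_commutator (g a b : G) : ⁅g * a * g⁻¹, g * b * g⁻¹⁆ = g * ⁅a, b⁆ * g⁻¹ := by
  simp only [commutatorElement_def]; group

theorem commute_of_commutator_eq_one {a b : G} (h : ⁅a, b⁆ = 1) : Commute a b :=
  commutatorElement_eq_one_iff_mul_comm.1 h

theorem Commute.commutator_eq_one' {a b : G} (h : Commute a b) : ⁅a, b⁆ = 1 :=
  commutatorElement_eq_one_iff_mul_comm.2 h.eq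

namespace Data

variable [Finite G] (D : Data G)

theorem trivMod_normalized {U N : Subgroup G} (hU : D.L ≤ normalizer (U : Set G))
    (hN : D.L ≤ normalizer (N : Set G)) :
    D.L ≤ normalizer (trivMod D.L (U : Set G) N : Set G) := by
  intro g hg
  refine mem_normalizer_of_conj fun l hl => ?_
  refine ⟨⟨mul_mem (mul_mem hg hl.1.1) (inv_mem hg), hN (mul_mem (mul_mem hg hl.1.1) (inv_mem hg))⟩,
    fun u hu => ?_⟩
  have hu' : g⁻¹ * u * g ∈ U := by
    have := (mem_normalizer_iff.1 (inv_mem (hU hg)) u).1 hu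
    rwa [inv_inv] at this
  have h := (mem_normalizer_iff.1 (hN hg) _).1 (hl.2 _ hu')
  rw [← conj_commutator] at h
  rwa [show g * (g⁻¹ * u * g) * g⁻¹ = u by group] at h

theorem L_le_normalizer_Phi : D.L ≤ normalizer (D.Phi : Set G) := by
  intro g hg
  refine mem_normalizer_of_conj fun v hv => ?_
  obtain ⟨w, hw, rfl⟩ := hv
  let e : MulAut D.O := normalizerMonoidHom D.O ⟨g, D.hOL hg⟩
  have hc : (frattini D.O).map e.toMonoidHom = frattini D.O :=
    characteristic_iff_map_eq.1 inferInstance e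
  refine ⟨e w, ?_, rfl⟩
  rw [SetLike.mem_coe, ← hc]
  exact ⟨w, hw, rfl⟩

theorem sq_mem_Phi {o : G} (ho : o ∈ D.O) : o * o ∈ D.Phi := by
  haveI := Fact.mk Nat.prime_two
  have h := CfsgLib.Coprime.pow_mem_frattini (D.O_pGroup) (⟨o, ho⟩ : D.O)
  refine ⟨_, h, ?_⟩
  simp [pow_two]

theorem commutator_mem_Phi {o u : G} (ho : o ∈ D.O) (hu : u ∈ D.O) : ⁅o, u⁆ ∈ D.Phi := by
  haveI := Fact.mk Nat.prime_two
  have h : ⁅(⟨o, ho⟩ : D.O), ⟨u, hu⟩⁆ ∈ commutator D.O :=
    commutator_mem_commutator (mem_top _) (mem_top _)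
  exact ⟨_, CfsgLib.Coprime.commutator_le_frattini D.O_pGroup h, rfl⟩

theorem orderOf_q_not_mem_O {g : G} (hg : orderOf g = D.q) : g ∉ D.O := fun h => by
  obtain ⟨a, ha⟩ := IsPGroup.iff_card.1 D.O_pGroup
  have hd := orderOf_dvd_natCard _ h
  rw [hg, ha] at hd
  have := D.hq5
  have := Nat.le_of_dvd (by norm_num) (D.hq.dvd_of_dvd_pow hd)
  omega

theorem coprime_zpowers {g : G} (hg : orderOf g = D.q) {P : Subgroup G} (hP : IsPGroup 2 P) :
    (Nat.card (zpowers g)).Coprime (Nat.card P) := by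
  obtain ⟨a, ha⟩ := IsPGroup.iff_card.1 hP
  rw [Nat.card_zpowers, hg, ha]
  exact (D.q_coprime_two.symm).pow_right a

/-- An element of order `q` of `L` centralizing `O` modulo `Φ(O)` does not exist. -/
theorem no_q_mod_Phi {g : G} (hgL : g ∈ D.L) (hg : orderOf g = D.q) :
    ¬ ∀ o ∈ D.O, ⁅g, o⁆ ∈ D.Phi := fun h => by
  have hA : zpowers g ≤ normalizer (D.O : Set G) := zpowers_le.2 (D.hOL hgL)
  have hT : zpowers g ≤ trivMod D.L (D.O : Set G) D.Phi :=
    zpowers_le.2 ⟨⟨hgL, D.L_le_normalizer_Phi hgL⟩, h⟩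
  have hc : zpowers g ≤ centralizer (D.O : Set G) := by
    refine CfsgLib.Coprime.le_centralizer_of_trivial_on_frattini_quotient hA ?_ fun a ha k hk => ?_
    · obtain ⟨a, ha⟩ := IsPGroup.iff_card.1 (D.O_pGroup.to_subgroup (frattini D.O))
      rw [Nat.card_zpowers, hg, ha]
      exact (D.q_coprime_two.symm).pow_right a
    · rw [← commutatorElement_def]
      exact (hT ha).2 k hk
  exact D.orderOf_q_not_mem_O hg (D.hOcons ⟨hgL, hc (mem_zpowers g)⟩)

/-- `L` acts on `O/Φ(O)` with kernel `O`. -/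
theorem mem_O_of_trivial_mod_Phi {l : G} (hl : l ∈ D.L) (h : ∀ o ∈ D.O, ⁅l, o⁆ ∈ D.Phi) : l ∈ D.O :=
  D.le_O_of_no_q (trivMod_le D.L (D.O : Set G) D.Phi) (D.trivMod_normalized D.hOL D.L_le_normalizer_Phi)
    (fun g hgR hg => D.no_q_mod_Phi hgR.1.1 hg hgR.2) ⟨⟨hl, D.L_le_normalizer_Phi hl⟩, h⟩

/-- An element of order `q` centralizing `A ≤ O` and centralizing `O` modulo `A` does not exist. -/
theorem no_q_chain {g : G} (hgL : g ∈ D.L) (hg : orderOf g = D.q) {A : Subgroup G} (hA : A ≤ D.O)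
    (hgA : ∀ a ∈ A, g * a * g⁻¹ = a) : ¬ ∀ o ∈ D.O, ⁅g, o⁆ ∈ A := fun h => by
  refine D.orderOf_q_not_mem_O hg (D.hOcons ⟨hgL, mem_centralizer_iff.2 fun o ho => ?_⟩)
  have hu := h o ho
  have h1 : ⁅g, o⁆ = 1 := by
    refine CfsgLib.Coprime.eq_one_of_conj_eq_mul (a := g) (x := o)
      (by simp only [commutatorElement_def]; group) (hgA _ hu) ?_
    obtain ⟨a, ha⟩ := IsPGroup.iff_card.1 D.O_pGroup
    have hd := orderOf_dvd_natCard _ (hA hu)
    rw [hg]
    rw [ha] at hd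
    exact ((D.q_coprime_two.symm).pow_right a).coprime_dvd_right hd
  exact ((commute_of_commutator_eq_one h1).eq).symm

theorem relIndex_K_le {U : Subgroup G} (hU : U ≤ D.S) : (U ⊓ D.K).relIndex U ≤ 2 := by
  rw [inf_comm, inf_relIndex_right]
  have h2 : D.K.relIndex D.S = 2 := D.K_relIndex
  exact (relIndex_le_of_le_right hU (by rw [h2]; norm_num)).trans h2.le

end Data

end CfsgLib.NineAmalgam
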