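import Cfsg.Agent.Lib.SmallSimple.NineAmalgam.DirectDefs

/-!
An abelian subgroup of `K` commutes with its conjugates under `x`.
-/

set_option autoImplicit false
set_option linter.unusedSectionVars false

namespace CfsgLib.NineAmalgam

open Subgroup
open scoped commutatorElement

namespace Data

variable {G : Type*} [Group G] [Finite G] (D : Data G)

theorem mem_Zk_of_coset_fixed {u : G} (hu : u ∈ D.K) (h : D.x * u * D.x⁻¹ * u⁻¹ ∈ D.Zk) : u ∈ D.Zk := by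
  have hf : ∀ v : D.Zk, D.x * v * D.x⁻¹ * (v : G)⁻¹ ∈ D.Zk := fun v =>
    mul_mem (D.conj_mem_Zk D.hx v.2) (inv_mem v.2)
  let f : D.Zk → D.Zk := fun v => ⟨_, hf v⟩
  have key : ∀ a b : G, a ∈ D.S → b ∈ D.S →
      D.x * a * D.x⁻¹ * a⁻¹ = D.x * b * D.x⁻¹ * b⁻¹ → b = a := by
    intro a b ha hb e
    have h1 : b⁻¹ * a = 1 := by
      refine D.fpf_S (mul_mem (inv_mem hb) ha) ?_
      show b⁻¹ * a * D.x = D.x * (b⁻¹ * a)
      have e2 : D.x * a * D.x⁻¹ = D.x * b * D.x⁻¹ * b⁻¹ * a := by rw [← e, inv_mul_cancel_right]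
      calc b⁻¹ * a * D.x = (D.x * b * D.x⁻¹)⁻¹ * (D.x * b * D.x⁻¹ * b⁻¹ * a) * D.x := by group
        _ = (D.x * b * D.x⁻¹)⁻¹ * (D.x * a * D.x⁻¹) * D.x := by rw [← e2]
        _ = D.x * (b⁻¹ * a) := by group
    exact inv_mul_eq_one.1 h1
  have hinj : Function.Injective f := fun v w e =>
    Subtype.ext (key v w (D.Zk_le_S v.2) (D.Zk_le_S w.2) (congrArg Subtype.val e)).symm
  obtain ⟨v, hv⟩ := Finite.injective_iff_surjective.1 hinj ⟨_, h⟩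
  rw [key (v : G) u (D.Zk_le_S v.2) (D.hKS hu) (congrArg Subtype.val hv)]
  exact v.2

theorem commute_conj_of_abelian_subgroup {W : Subgroup G} (hWK : W ≤ D.K)
    (hab : ∀ u ∈ W, ∀ v ∈ W, Commute u v) :
    ∀ u ∈ W, ∀ v ∈ W, Commute u (D.x * v * D.x⁻¹) ∧ Commute u (D.x⁻¹ * v * D.x) := by
  have hK1 : ∀ {v : G}, v ∈ W → D.x * v * D.x⁻¹ ∈ D.K := fun hv => D.conj_mem_K D.hx (hWK hv)
  have hK2 : ∀ {v : G}, v ∈ W → D.x⁻¹ * v * D.x ∈ D.K := fun hv => D.conj_mem_K' D.hx (hWK hv)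
  have hcomm : ∀ {a b : G}, a ∈ D.K → b ∈ D.K → ∀ {k : G}, k ∈ D.K → Commute k ⁅a, b⁆ :=
    fun ha hb _ hk => D.commute_Zk (D.commutator_mem_Zk ha hb) hk
  have hmul : ∀ {a b c : G}, a ∈ D.K → b ∈ D.K → c ∈ D.K → ⁅a, b * c⁆ = ⁅a, b⁆ * ⁅a, c⁆ := by
    intro a b c ha hb hc
    have e : ⁅a, b * c⁆ = ⁅a, b⁆ * (b * ⁅a, c⁆ * b⁻¹) := by
      simp only [commutatorElement_def]; group
    rw [e, (hcomm ha hc hb).eq, mul_inv_cancel_right]
  -- `[a, b^x]` and `[a, b^(x⁻¹)]` are inverse to each other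
  have hinv : ∀ {a b : G}, a ∈ W → b ∈ W →
      ⁅a, D.x⁻¹ * b * D.x⁆ = ⁅a, D.x * b * D.x⁻¹⁆⁻¹ := by
    intro a b ha hb
    have hu : b * (D.x * b * D.x⁻¹) * (D.x⁻¹ * b * D.x) ∈ D.Zk := by
      refine D.mem_Zk_of_coset_fixed (mul_mem (mul_mem (hWK hb) (hK1 hb)) (hK2 hb)) ?_
      have hxxx : D.x * D.x = D.x⁻¹ := eq_inv_of_mul_eq_one_left (by
        rw [← D.x_cube, pow_succ, pow_two])
      have e1 : D.x * (b * (D.x * b * D.x⁻¹) * (D.x⁻¹ * b * D.x)) * D.x⁻¹ =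
          (D.x * b * D.x⁻¹) * ((D.x * D.x) * b * (D.x * D.x)⁻¹) * b := by group
      have e : D.x * (b * (D.x * b * D.x⁻¹) * (D.x⁻¹ * b * D.x)) * D.x⁻¹ *
          (b * (D.x * b * D.x⁻¹) * (D.x⁻¹ * b * D.x))⁻¹ =
          ⁅(D.x * b * D.x⁻¹) * (D.x⁻¹ * b * D.x), b⁆ := by
        rw [e1, hxxx, inv_inv]
        simp only [commutatorElement_def]; group
      rw [e]
      exact D.commutator_mem_Zk (mul_mem (hK1 hb) (hK2 hb)) (hWK hb)
    have h1 : ⁅a, b * (D.x * b * D.x⁻¹) * (D.x⁻¹ * b * D.x)⁆ = 1 :=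
      commutatorElement_eq_one_iff_mul_comm.2 (D.commute_Zk hu (hWK ha)).eq
    rw [hmul (hWK ha) (mul_mem (hWK hb) (hK1 hb)) (hK2 hb), hmul (hWK ha) (hWK hb) (hK1 hb),
      commutatorElement_eq_one_iff_mul_comm.2 (hab a ha b hb).eq, one_mul] at h1
    exact eq_inv_of_mul_eq_one_right h1
  -- conjugation by `x` exchanges `[a, b^x]` and `[b, a^x]`
  have hx : ∀ {a b : G}, a ∈ W → b ∈ W →
      D.x * ⁅a, D.x * b * D.x⁻¹⁆ * D.x⁻¹ = ⁅b, D.x * a * D.x⁻¹⁆ := by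
    intro a b ha hb
    have h := hinv ha hb
    rw [← inv_eq_iff_eq_inv] at h
    rw [← h, show D.x * ⁅a, D.x⁻¹ * b * D.x⁆⁻¹ * D.x⁻¹ = ⁅b, D.x * a * D.x⁻¹⁆ by
      simp only [commutatorElement_def]; group]
  intro u hu v hv
  have he : ∀ {a b : G}, a ∈ W → b ∈ W → Commute a (D.x * b * D.x⁻¹) := by
    intro a b ha hb
    have h2 : D.x * (D.x * ⁅a, D.x * b * D.x⁻¹⁆ * D.x⁻¹) * D.x⁻¹ = ⁅a, D.x * b * D.x⁻¹⁆ := by
      rw [hx ha hb, hx hb ha]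
    have hc : Commute ⁅a, D.x * b * D.x⁻¹⁆ (D.x * D.x) := by
      show _ * (D.x * D.x) = (D.x * D.x) * _
      conv_lhs => rw [← h2]
      group
    have hx4 : D.x = (D.x * D.x) * (D.x * D.x) := by
      have h3 : D.x * D.x * D.x = 1 := by rw [← D.x_cube, pow_succ, pow_two]
      rw [← mul_assoc, h3, one_mul]
    refine commutatorElement_eq_one_iff_mul_comm.1 (D.fpf_S (D.Zk_le_S
      (D.commutator_mem_Zk (hWK ha) (hK1 hb))) ?_)
    have h4 := hc.mul_right hc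
    rwa [← hx4] at h4
  refine ⟨he hu hv, ?_⟩
  have h := (he hv hu).symm.map (MulAut.conj D.x⁻¹).toMonoidHom
  simpa [mul_assoc] using h

end Data

end CfsgLib.NineAmalgam
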