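import Cfsg.Agent.Lib.Coprime.Hyperplanes
import Cfsg.Agent.Lib.Coprime.Component
import Cfsg.Agent.Lib.Coprime.Fitting
import Cfsg.Agent.Lib.Char.Burnside

/-!
# Elementary abelian modules of soluble `{2,q}`-groups, `q ≥ 5`

An involution inverting an element of order `q` does not fix a hyperplane of a module on which that
element is not trivial; an elementary abelian `2`-group of order `2 ^ r` which is faithful and quadratic
up to rank one moves at least `2 * r` dimensions.
-/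

set_option autoImplicit false
set_option linter.unusedSectionVars false
set_option linter.style.haveILetI false

open Subgroup

namespace CfsgLib.NineAmalgam.Linear

universe u v

section Abstract

variable {R : Type u} {W : Type v} [Group R] [CommGroup W] (φ : R →* MulAut W)

/-- The elements fixing `x`. -/
def stab (x : W) : Subgroup R where
  carrier := {r | φ r x = x}
  one_mem' := by simp
  mul_mem' := fun {a b} (ha : φ a x = x) (hb : φ b x = x) => by
    change φ (a * b) x = x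
    rw [map_mul, MulAut.mul_apply, hb, ha]
  inv_mem' := fun {a} (ha : φ a x = x) => by
    change φ a⁻¹ x = x
    conv_lhs => rw [← ha]
    rw [map_inv]
    exact (φ a).symm_apply_apply x

theorem mem_stab {x : W} {r : R} : r ∈ stab φ x ↔ φ r x = x := Iff.rfl

/-- The common fixed points of a set of elements. -/
def fixS (A : Set R) : Subgroup W where
  carrier := {x | ∀ a ∈ A, φ a x = x}
  one_mem' := fun a _ => map_one _
  mul_mem' := fun {x y} hx hy a ha => by rw [map_mul, hx a ha, hy a ha]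
  inv_mem' := fun {x} hx a ha => by rw [map_inv, hx a ha]

theorem mem_fixS {A : Set R} {x : W} : x ∈ fixS φ A ↔ ∀ a ∈ A, φ a x = x := Iff.rfl

theorem apply_apply (r s : R) (x : W) : φ r (φ s x) = φ (r * s) x := by rw [map_mul, MulAut.mul_apply]

/-- The map `x ↦ x * r x`; it is the commutator map on a group of exponent two. -/
def δ (r : R) : W →* W where
  toFun x := x * φ r x
  map_one' := by simp
  map_mul' x y := by rw [map_mul, mul_mul_mul_comm]

theorem δ_apply (r : R) (x : W) : δ φ r x = x * φ r x := rfl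

variable {φ}

theorem eq_of_mul_eq_one' (hW : ∀ x : W, x * x = 1) {x y : W} (h : x * y = 1) : y = x :=
  mul_left_cancel (h.trans (hW x).symm)

theorem δ_eq_one (hW : ∀ x : W, x * x = 1) {r : R} {x : W} : δ φ r x = 1 ↔ φ r x = x :=
  ⟨fun h => eq_of_mul_eq_one' hW h, fun h => by rw [δ_apply, h, hW]⟩

theorem isPGroup_two (hW : ∀ x : W, x * x = 1) : IsPGroup 2 W := fun x => ⟨1, by rw [pow_one, pow_two, hW]⟩

variable [Finite W]

theorem relIndex_map_invariant {D H : Subgroup W} (e : W ≃* W) (hD : D.map e.toMonoidHom = D) :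
    (H.map e.toMonoidHom).relIndex D = H.relIndex D := by
  conv_lhs => rw [← hD]
  exact relIndex_map_map_of_injective _ _ e.injective

/-- An element of order prime to six inverted by an element fixing a subgroup of index at most two of an
invariant subgroup is trivial on it. -/
theorem fix_of_inverted (hW : ∀ x : W, x * x = 1) {q : ℕ} (hq : q.Prime) (hq5 : 5 ≤ q) {a g : R}
    (ha : a * a = 1) (hinv : a * g * a⁻¹ = g⁻¹) (hg : g ^ q = 1) {D H : Subgroup W}
    (hDg : ∀ x ∈ D, φ g x ∈ D) (hi : H.relIndex D ≤ 2) (hH : ∀ x ∈ H, φ a x = x) :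
    ∀ x ∈ D, φ g x = x := by
  have hodd : q % 2 = 1 := (hq.eq_two_or_odd).resolve_left (by omega)
  set m := (q + 1) / 2 with hm
  set h := g ^ m with hh
  have hh2 : h * h = g := by
    rw [hh, ← pow_add, show m + m = q + 1 by omega, pow_succ, hg, one_mul]
  have hai : a⁻¹ = a := inv_eq_of_mul_eq_one_right ha
  have hinv' : a * h⁻¹ * a = h := by
    have e : a * g⁻¹ * a⁻¹ = g := by
      rw [show a * g⁻¹ * a⁻¹ = (a * g * a⁻¹)⁻¹ by group, hinv, inv_inv]
    rw [show a * h⁻¹ * a = a * h⁻¹ * a⁻¹ by rw [hai], hh, ← inv_pow, ← conj_pow, e]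
  have hprod : h * a * h⁻¹ * a = g := by
    rw [show h * a * h⁻¹ * a = h * (a * h⁻¹ * a) by group, hinv', hh2]
  have hDi : ∀ x ∈ D, ∀ n : ℕ, φ (g ^ n) x ∈ D := by
    intro x hx n
    induction n with
    | zero => simpa using hx
    | succ n ih => rw [pow_succ', ← apply_apply]; exact hDg _ ih
  have hDh : D.map (φ h).toMonoidHom = D := by
    refine eq_of_le_of_card_ge ?_ (card_map_of_injective (φ h).injective).ge
    rintro _ ⟨x, hx, rfl⟩
    exact hDi x hx m
  set F : Subgroup W := fixS φ {g} with hF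
  have hHF : H ⊓ H.map (φ h).toMonoidHom ≤ F := by
    rintro x ⟨hx, y, hy, rfl⟩
    rw [mem_fixS]
    intro b hb
    rw [Set.mem_singleton_iff.1 hb]
    simp only [MulEquiv.coe_toMonoidHom] at hx ⊢
    calc φ g (φ h y) = φ h (φ a (φ h⁻¹ (φ a (φ h y)))) := by
          simp only [apply_apply, ← mul_assoc, hprod]
      _ = φ h (φ a (φ h⁻¹ (φ h y))) := by rw [hH _ hx]
      _ = φ h (φ a y) := by rw [apply_apply φ h⁻¹ h, inv_mul_cancel, map_one, MulAut.one_apply]
      _ = φ h y := by rw [hH _ hy]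
  have hF4 : F.relIndex D ≤ 4 := by
    have hne : H.relIndex D ≠ 0 := index_ne_zero_of_finite
    have e1 := relIndex_map_invariant (H := H) (φ h) hDh
    refine (Nat.le_of_dvd ?_ (relIndex_dvd_of_le_left D hHF)).trans
      (relIndex_inf_le.trans ?_)
    · exact Nat.pos_of_ne_zero index_ne_zero_of_finite
    · rw [e1]; exact le_trans (Nat.mul_le_mul hi hi) (by norm_num)
  intro x hx
  -- two of the first five images of `x` are congruent modulo the fixed points
  classical
  haveI : Fintype (D ⧸ F.subgroupOf D) := Fintype.ofFinite _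
  have hcard : Fintype.card (D ⧸ F.subgroupOf D) < Fintype.card (Fin 5) := by
    rw [← Nat.card_eq_fintype_card, Fintype.card_fin]
    exact lt_of_le_of_lt hF4 (by norm_num)
  obtain ⟨i, j, hij, he⟩ := Fintype.exists_ne_map_eq_of_card_lt
    (fun i : Fin 5 => ((⟨φ (g ^ (i : ℕ)) x, hDi x hx i⟩ : D) : D ⧸ F.subgroupOf D)) hcard
  rw [QuotientGroup.eq, mem_subgroupOf] at he
  simp only [coe_mul, coe_inv] at he
  have hfixn : ∀ c ∈ F, ∀ n : ℕ, φ (g ^ n) c = c := fun c hc n =>
    mem_stab φ |>.1 (pow_mem ((mem_stab φ).2 (mem_fixS φ |>.1 hc g rfl)) n)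
  set k := (g ^ (i : ℕ))⁻¹ * g ^ (j : ℕ) with hk
  set c := x⁻¹ * φ k x with hc
  have hcF : c ∈ F := by
    have hc' : φ (g ^ (i : ℕ)) c = (φ (g ^ (i : ℕ)) x)⁻¹ * φ (g ^ (j : ℕ)) x := by
      rw [hc, map_mul, map_inv, apply_apply, hk, mul_inv_cancel_left]
    have := hfixn _ he (i : ℕ)
    have h2 : φ (g ^ (i : ℕ)) c = φ (g ^ (i : ℕ)) ((φ (g ^ (i : ℕ)) x)⁻¹ * φ (g ^ (j : ℕ)) x) := by
      rw [this, hc']
    rw [(φ (g ^ (i : ℕ))).injective h2]
    exact he
  have hkx : φ k x = x * c := by rw [hc, mul_inv_cancel_left]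
  have hkz : k ∈ zpowers g :=
    mul_mem (inv_mem (pow_mem (mem_zpowers g) _)) (pow_mem (mem_zpowers g) _)
  have hkc : φ k c = c :=
    mem_stab φ |>.1 ((zpowers_le.2 ((mem_stab φ).2 (mem_fixS φ |>.1 hcF g rfl))) hkz)
  have hk2 : φ (k * k) x = x := by
    rw [← apply_apply, hkx, map_mul, hkc, hkx, mul_assoc, hW, mul_one]
  by_cases hg1 : g = 1
  · rw [hg1, map_one, MulAut.one_apply]
  have hgo : orderOf g = q := by
    haveI := Fact.mk hq
    exact orderOf_eq_prime hg hg1
  have hkk : k * k = g ^ ((2 * ((j : ℤ) - (i : ℤ)))) := by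
    rw [hk, ← zpow_natCast, ← zpow_natCast, ← zpow_neg, ← zpow_add, ← zpow_add]
    congr 1; ring
  have hgmem : g ∈ zpowers (k * k) := by
    have hne : ¬ (q : ℤ) ∣ 2 * ((j : ℤ) - (i : ℤ)) := by
      intro hd
      rcases (Nat.prime_iff_prime_int.1 hq).dvd_or_dvd hd with h2 | h2
      · have := Int.le_of_dvd (by norm_num) h2; omega
      · have hji : (j : ℤ) - (i : ℤ) ≠ 0 := fun e => hij (Fin.ext (by omega))
        have := Int.natAbs_le_of_dvd_ne_zero h2 hji
        have := i.2; have := j.2; omega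
    have hb : IsCoprime (q : ℤ) (2 * ((j : ℤ) - (i : ℤ))) :=
      (Nat.prime_iff_prime_int.1 hq).coprime_iff_not_dvd.2 hne
    obtain ⟨u, w, huw⟩ := hb
    refine ⟨w, ?_⟩
    change (k * k) ^ w = g
    rw [hkk, ← zpow_mul, show 2 * ((j : ℤ) - (i : ℤ)) * w = 1 + (q : ℤ) * (-u) by linarith, zpow_add,
      zpow_one, zpow_mul, zpow_natCast, hg, one_zpow, mul_one]
  exact mem_stab φ |>.1 ((zpowers_le.2 ((mem_stab φ).2 hk2)) hgmem)

end Abstract

section Group

variable {R : Type u} [Group R] [Finite R] {q : ℕ}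

/-- No normal `2`-subgroup and only the primes `2` and `q`. -/
structure Core (q : ℕ) (R : Type u) [Group R] : Prop where
  hq : q.Prime
  hq5 : 5 ≤ q
  hcard : ∃ a b, Nat.card R = 2 ^ a * q ^ b
  hcore : ∀ P : Subgroup R, P.Normal → IsPGroup 2 P → P = ⊥

theorem Core.centralizer_le (C : Core q R) :
    centralizer (Cfsg.pCore q R : Set R) ≤ Cfsg.pCore q R := by
  haveI := Fact.mk C.hq
  obtain ⟨a, b, hab⟩ := C.hcard
  haveI : Group.IsSolvable R := by
    have h := CfsgLib.Char.isSolvable_of_card_two_primes Nat.prime_two C.hq (⊤ : Subgroup R) a b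
      (by rw [card_top, hab])
    exact Group.isSolvable_of_surjective (f := (Subgroup.topEquiv : (⊤ : Subgroup R) ≃* R).toMonoidHom)
      (Subgroup.topEquiv : (⊤ : Subgroup R) ≃* R).surjective
  have hF : Cfsg.fittingSubgroup R = Cfsg.pCore q R := by
    refine le_antisymm ?_ (CfsgLib.Coprime.pCore_le_fitting q)
    rw [CfsgLib.Coprime.fitting_eq_iSup_pCore]
    refine iSup_le fun r => ?_
    haveI := Fact.mk r.2
    rcases eq_or_ne (r : ℕ) 2 with h | h
    · have hp : IsPGroup (r : ℕ) (Cfsg.pCore (r : ℕ) R) := CfsgLib.Coprime.pCore_isPGroup _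
      rw [C.hcore _ (CfsgLib.Coprime.pCore_normal' _) (h ▸ hp)]
      exact bot_le
    rcases eq_or_ne (r : ℕ) q with h' | h'
    · exact le_of_eq (by rw [h'])
    obtain ⟨k, hk⟩ := IsPGroup.iff_card.1 (CfsgLib.Coprime.pCore_isPGroup (G := R) (r : ℕ))
    have hd : (r : ℕ) ^ k ∣ 2 ^ a * q ^ b := hab ▸ hk ▸ card_subgroup_dvd_card _
    have hk0 : k = 0 := by
      by_contra h0
      rcases r.2.dvd_mul.1 ((dvd_pow_self _ h0).trans hd) with h1 | h1
      · exact h ((Nat.prime_dvd_prime_iff_eq r.2 Nat.prime_two).1 (r.2.dvd_of_dvd_pow h1))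
      · exact h' ((Nat.prime_dvd_prime_iff_eq r.2 C.hq).1 (r.2.dvd_of_dvd_pow h1))
    rw [hk0, pow_zero] at hk
    rw [eq_bot_of_card_eq _ hk]
    exact bot_le
  have := CfsgLib.Coprime.centralizer_fitting_le (G := R)
  rwa [hF] at this

theorem Core.pCore_card (C : Core q R) : Nat.Coprime (Nat.card (Cfsg.pCore q R)) 2 := by
  haveI := Fact.mk C.hq
  obtain ⟨k, hk⟩ := IsPGroup.iff_card.1 (CfsgLib.Coprime.pCore_isPGroup (G := R) q)
  rw [hk]
  exact Nat.Coprime.pow_left k ((Nat.coprime_primes C.hq Nat.prime_two).2 (by have := C.hq5; omega))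

theorem Core.inf_pCore (C : Core q R) {x : R} (hx : x ∈ Cfsg.pCore q R) (h2 : x * x = 1) : x = 1 := by
  refine orderOf_eq_one_iff.1 (Nat.eq_one_of_dvd_coprimes C.pCore_card ?_ ?_)
  · have := orderOf_dvd_natCard (⟨x, hx⟩ : Cfsg.pCore q R)
    rwa [Subgroup.orderOf_mk] at this
  · exact orderOf_dvd_of_pow_eq_one (by rw [pow_two, h2])

/-- From an element of the `q`-core not commuting with the involution `a`: an element of order `q`
inverted by `a`, in every subgroup normal in `R` containing `a`, commuting with what commutes with `a` and `y`. -/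
theorem Core.exists_inverted (C : Core q R) {a y : R} (ha : a * a = 1) (hy : y ∈ Cfsg.pCore q R)
    (hay : a * y ≠ y * a) :
    ∃ g : R, g ∈ Cfsg.pCore q R ∧ orderOf g = q ∧ a * g * a⁻¹ = g⁻¹ ∧
      (∀ b : R, Commute b a → Commute b y → Commute b g) ∧
      ∀ P : Subgroup R, P.Normal → a ∈ P → g ∈ P := by
  haveI := Fact.mk C.hq
  have hai : a⁻¹ = a := inv_eq_of_mul_eq_one_right ha
  set g0 := y⁻¹ * (a * y * a⁻¹) with hg0
  have hg0Q : g0 ∈ Cfsg.pCore q R :=
    mul_mem (inv_mem hy) ((CfsgLib.Coprime.pCore_normal' q).conj_mem y hy a)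
  have hg0inv : a * g0 * a⁻¹ = g0⁻¹ := by
    rw [hg0, hai]
    simp only [mul_inv_rev, inv_inv, hai]
    simp only [← mul_assoc]
    rw [mul_assoc (a * y⁻¹ * a * y), ha, mul_one]
  have hg01 : g0 ≠ 1 := fun e => hay (by
    rw [hg0, inv_mul_eq_one] at e
    calc a * y = a * y * a⁻¹ * a := by group
      _ = y * a := by rw [← e])
  obtain ⟨k, hk⟩ := IsPGroup.iff_card.1 (CfsgLib.Coprime.pCore_isPGroup (G := R) q)
  have hord : orderOf g0 ∣ q ^ k := hk ▸ (Subgroup.orderOf_mk g0 hg0Q ▸ orderOf_dvd_natCard _)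
  obtain ⟨i, -, hi⟩ := (Nat.dvd_prime_pow C.hq).1 hord
  obtain ⟨i, rfl⟩ : ∃ j, i = j + 1 := ⟨i - 1, by
    rcases Nat.eq_zero_or_pos i with rfl | h
    · rw [pow_zero, orderOf_eq_one_iff] at hi; exact absurd hi hg01
    · omega⟩
  refine ⟨g0 ^ q ^ i, pow_mem hg0Q _, ?_, ?_, fun b hba hby => ?_, fun P hP haP => pow_mem ?_ _⟩
  · rw [orderOf_pow' _ (pow_ne_zero _ C.hq.ne_zero), hi,
      Nat.gcd_eq_right (pow_dvd_pow q (by omega)), Nat.pow_div (by omega) C.hq.pos]
    simp
  · rw [← conj_pow, hg0inv, inv_pow]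
  · exact ((hby.inv_right).mul_right ((hba.mul_right hby).mul_right hba.inv_right)).pow_right _
  · rw [hg0, show y⁻¹ * (a * y * a⁻¹) = y⁻¹ * a * y⁻¹⁻¹ * a⁻¹ by group]
    exact mul_mem (hP.conj_mem a haP _) (inv_mem haP)

theorem Core.exists_moved (C : Core q R) {a : R} (ha : a * a = 1) (ha1 : a ≠ 1) :
    ∃ y ∈ Cfsg.pCore q R, a * y ≠ y * a := by
  by_contra h
  push Not at h
  exact ha1 (C.inf_pCore (C.centralizer_le (mem_centralizer_iff.2 fun y hy => (h y hy).symm)) ha)

end Group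

section Module

variable {R : Type u} [Group R] [Finite R] {W : Type v} [CommGroup W] [Finite W] {q : ℕ}
variable (φ : R →* MulAut W)

/-- An involution fixing a subgroup of index at most two: some element of order `q` in every normal
subgroup containing it is trivial on the module. -/
theorem exists_q_fixing (C : Core q R) (hW : ∀ x : W, x * x = 1) {a : R} (ha : a * a = 1) (ha1 : a ≠ 1)
    {H : Subgroup W} (hi : H.relIndex ⊤ ≤ 2) (hH : ∀ x ∈ H, φ a x = x) :
    ∃ g : R, orderOf g = q ∧ φ g = 1 ∧ ∀ P : Subgroup R, P.Normal → a ∈ P → g ∈ P := by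
  obtain ⟨y, hy, hay⟩ := C.exists_moved ha ha1
  obtain ⟨g, -, hgo, hgi, -, hgP⟩ := C.exists_inverted ha hy hay
  refine ⟨g, hgo, MulEquiv.ext fun x => ?_, hgP⟩
  rw [MulAut.one_apply]
  exact fix_of_inverted hW C.hq C.hq5 ha hgi (hgo ▸ pow_orderOf_eq_one g) (D := ⊤) (fun _ _ => mem_top _)
    hi hH x (mem_top x)

/-- A `2`-element fixing a subgroup of index at most two of a faithful module is trivial. -/
theorem eq_one_of_index_two (C : Core q R) (hW : ∀ x : W, x * x = 1)
    (hf : ∀ g : R, orderOf g = q → φ g ≠ 1) {v : R} (hv : ∃ k, v ^ 2 ^ k = 1)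
    {H : Subgroup W} (hi : H.relIndex ⊤ ≤ 2) (hH : ∀ x ∈ H, φ v x = x) : v = 1 := by
  obtain ⟨k, hk⟩ := hv
  induction k with
  | zero => simpa using hk
  | succ k ih =>
    refine ih ?_
    by_contra h1
    have ha : v ^ 2 ^ k * v ^ 2 ^ k = 1 := by rw [← pow_add, ← two_mul, ← pow_succ', hk]
    obtain ⟨g, hgo, hg, -⟩ := exists_q_fixing φ C hW ha h1 hi fun x hx =>
      (mem_stab φ).1 (pow_mem ((mem_stab φ).2 (hH x hx)) _)
    exact hf g hgo hg

/-- A nontrivial elementary abelian `2`-subgroup has a hyperplane centralised by an element of the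
`q`-core moved by the subgroup. -/
theorem exists_hyperplane (C : Core q R) {A : Subgroup R} (hA : ∀ a ∈ A, a * a = 1) (hA1 : A ≠ ⊥) :
    ∃ B : Subgroup R, B ≤ A ∧ B.relIndex A = 2 ∧ ∃ a ∈ A, a ∉ B ∧ ∃ y ∈ Cfsg.pCore q R,
      (∀ b ∈ B, Commute b y) ∧ a * y ≠ y * a := by
  haveI : Fact (Nat.Prime 2) := ⟨Nat.prime_two⟩
  haveI := Fact.mk C.hq
  have hcomm : ∀ a ∈ A, ∀ b ∈ A, Commute a b := fun a ha b hb => by
    have h := hA _ (mul_mem ha hb)
    calc a * b = a⁻¹ * b⁻¹ := by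
          rw [inv_eq_of_mul_eq_one_right (hA a ha), inv_eq_of_mul_eq_one_right (hA b hb)]
      _ = (b * a)⁻¹ := (mul_inv_rev b a).symm
      _ = b * a := inv_eq_of_mul_eq_one_right (hA _ (mul_mem hb ha))
  suffices h : ∃ B : Subgroup R, B ≤ A ∧ B.relIndex A = 2 ∧
      ¬ Cfsg.pCore q R ⊓ centralizer (B : Set R) ≤ centralizer (A : Set R) by
    obtain ⟨B, hBA, hB2, hB⟩ := h
    obtain ⟨y, ⟨hy, hyB⟩, hyA⟩ := SetLike.not_le_iff_exists.1 hB
    obtain ⟨a, ha, hay⟩ : ∃ a ∈ A, ¬ a * y = y * a := by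
      by_contra h
      push Not at h
      exact hyA (mem_centralizer_iff.2 h)
    exact ⟨B, hBA, hB2, a, ha, fun hb => hay (mem_centralizer_iff.1 hyB a hb), y, hy,
      fun b hb => mem_centralizer_iff.1 hyB b hb, hay⟩
  have hQA : ¬ Cfsg.pCore q R ≤ centralizer (A : Set R) := fun hle => hA1 (eq_bot_iff.2 fun a ha => by
    rw [mem_bot]
    exact C.inf_pCore (C.centralizer_le (mem_centralizer_iff.2 fun y hy =>
      (mem_centralizer_iff.1 (hle hy) a ha).symm)) (hA a ha))
  have hAp : IsPGroup 2 A := fun a => ⟨1, Subtype.ext (by rw [pow_one, pow_two]; exact hA a a.2)⟩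
  obtain ⟨r, hr⟩ := IsPGroup.iff_card.1 hAp
  rcases Nat.lt_or_ge r 2 with hr2 | hr2
  · refine ⟨⊥, bot_le, ?_, fun hle => hQA ?_⟩
    · rw [relIndex_bot_left, hr]
      interval_cases r
      · exact absurd (eq_bot_of_card_eq _ (by simpa using hr)) hA1
      · rfl
    · rwa [show centralizer ((⊥ : Subgroup R) : Set R) = ⊤ by
        refine (eq_top_iff' _).2 fun x => mem_centralizer_iff.2 fun b hb => ?_
        rw [mem_bot.1 hb, one_mul, mul_one], inf_top_eq] at hle
  · by_contra h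
    push Not at h
    refine hQA (CfsgLib.Coprime.le_of_hyperplanes (p := 2)
      ⟨⟨⟨fun a b => Subtype.ext (hcomm a a.2 b b.2).eq⟩⟩, fun a ha => by rw [pow_two, hA a ha]⟩
      (by rw [hr]; exact Nat.pow_le_pow_right (by norm_num) hr2) ?_ ?_ fun E hE hE2 => h E hE hE2)
    · intro hd
      have := Nat.eq_one_of_dvd_coprimes C.pCore_card hd dvd_rfl
      omega
    · haveI := CfsgLib.Coprime.pCore_normal' (G := R) q
      rw [normalizer_eq_top_iff.2 inferInstance]
      exact le_top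

/-- The bound: a faithful elementary abelian `2`-subgroup which is quadratic up to rank one. -/
theorem card_bound (C : Core q R) (hW : ∀ x : W, x * x = 1) (hf : ∀ g : R, orderOf g = q → φ g ≠ 1) :
    ∀ (n : ℕ) (A : Subgroup R), Nat.card A = n → (∀ a ∈ A, a * a = 1) →
      (∀ a ∈ A, ∀ b ∈ A, ∃ z : W, ∀ x : W, δ φ a (δ φ b x) = 1 ∨ δ φ a (δ φ b x) = z) →
      n ^ 2 * Nat.card (fixS φ (A : Set R)) ≤ Nat.card W := by
  intro n
  induction n using Nat.strong_induction_on with
  | _ n ih =>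
  intro A hn hA hquad
  by_cases hA1 : A = ⊥
  · subst hA1
    rw [← hn, card_bot, one_pow, one_mul]
    exact Nat.card_le_card_of_injective Subtype.val Subtype.val_injective
  obtain ⟨B, hBA, hB2, a, haA, haB, y, hy, hBy, hay⟩ := exists_hyperplane C hA hA1
  have hAn : Nat.card A = 2 * Nat.card B := by
    rw [← relIndex_bot_left A, ← relIndex_mul_relIndex ⊥ B A bot_le hBA, relIndex_bot_left, hB2, mul_comm]
  have hcomm : ∀ b ∈ A, Commute b a := fun b hb => by
    calc b * a = b⁻¹ * a⁻¹ := by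
          rw [inv_eq_of_mul_eq_one_right (hA a haA), inv_eq_of_mul_eq_one_right (hA b hb)]
      _ = (a * b)⁻¹ := (mul_inv_rev a b).symm
      _ = a * b := inv_eq_of_mul_eq_one_right (hA _ (mul_mem haA hb))
  obtain ⟨g, -, hgo, hgi, hgc, -⟩ := C.exists_inverted (hA a haA) hy hay
  have hgq : g ^ q = 1 := hgo ▸ pow_orderOf_eq_one g
  have hbg : ∀ b ∈ B, Commute b g := fun b hb => hgc b (hcomm b (hBA hb)) (hBy b hb)
  -- the image `D` of `δ g`
  set D := (δ φ g).range with hD
  have hDg1 : ∀ d ∈ D, φ g d = d → d = 1 := by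
    rintro _ ⟨x, rfl⟩ h
    rw [δ_apply, map_mul, apply_apply, mul_comm x (φ g x)] at h
    have h2 : φ (g * g) x = x := mul_left_cancel h
    have hg : g ∈ zpowers (g * g) := ⟨((q + 1) / 2 : ℕ), by
      have hodd : q % 2 = 1 := (C.hq.eq_two_or_odd).resolve_left (by have := C.hq5; omega)
      change (g * g) ^ (((q + 1) / 2 : ℕ) : ℤ) = g
      rw [zpow_natCast, ← pow_two, ← pow_mul, show 2 * ((q + 1) / 2) = q + 1 by omega, pow_succ, hgq,
        one_mul]⟩
    rw [δ_eq_one hW]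
    exact mem_stab φ |>.1 ((zpowers_le.2 ((mem_stab φ).2 h2)) hg)
  have hga : ∀ x : W, φ a (δ φ g x) = δ φ g⁻¹ (φ a x) := fun x => by
    rw [δ_apply, δ_apply, map_mul, apply_apply, apply_apply, show a * g = g⁻¹ * a by rw [← hgi]; group]
  have hDa : ∀ d ∈ D, φ a d ∈ D := by
    rintro _ ⟨x, rfl⟩
    refine ⟨φ g⁻¹ (φ a x), ?_⟩
    rw [hga, δ_apply, δ_apply, apply_apply φ g g⁻¹, mul_inv_cancel, map_one, MulAut.one_apply, mul_comm]
  have hDg : ∀ d ∈ D, φ g d ∈ D := by
    rintro _ ⟨x, rfl⟩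
    exact ⟨φ g x, by rw [δ_apply, δ_apply, map_mul]⟩
  have hDb : ∀ b ∈ B, ∀ d ∈ D, δ φ b d ∈ D := by
    rintro b hb _ ⟨x, rfl⟩
    refine ⟨x * φ b x, ?_⟩
    simp only [δ_apply, map_mul, apply_apply, (hbg b hb).eq]
    exact mul_mul_mul_comm _ _ _ _
  have hfree : ∀ E : Subgroup W, E ≤ D → (∀ x ∈ E, φ g x ∈ E) →
      (fixS φ {a}).relIndex E ≤ 2 → E = ⊥ := by
    intro E hE hEg hi
    refine (eq_bot_iff_forall _).2 fun x hx => hDg1 x (hE hx) ?_
    exact fix_of_inverted hW C.hq C.hq5 (hA a haA) hgi hgq hEg hi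
      (fun z hz => (mem_fixS φ).1 hz a rfl) x hx
  have hDB : D ≤ fixS φ (B : Set R) := by
    intro d hd
    rw [mem_fixS]
    intro b hb
    have hI : D.map (δ φ b) = ⊥ := by
      refine hfree _ ?_ ?_ ?_
      · rintro _ ⟨x, hx, rfl⟩; exact hDb b hb x hx
      · rintro _ ⟨x, hx, rfl⟩
        refine ⟨φ g x, hDg x hx, ?_⟩
        rw [δ_apply, δ_apply, map_mul, apply_apply, apply_apply, (hbg b hb).eq]
      · obtain ⟨z, hz⟩ := hquad a haA b (hBA hb)
        have hker : fixS φ {a} = (δ φ a).ker := by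
          ext x; rw [MonoidHom.mem_ker, δ_eq_one hW, mem_fixS]; simp
        rw [hker, relIndex_ker]
        have hsub : ((D.map (δ φ b)).map (δ φ a) : Set W) ⊆ {1, z} := by
          rintro _ ⟨_, ⟨x, -, rfl⟩, rfl⟩
          exact (hz x).elim (fun h => Or.inl h) (fun h => Or.inr h)
        calc Nat.card ((D.map (δ φ b)).map (δ φ a)) ≤ Nat.card ({1, z} : Set W) :=
              Nat.card_mono (Set.toFinite _) hsub
          _ ≤ 2 := by
            rw [Nat.card_coe_set_eq]
            exact (Set.ncard_insert_le _ _).trans (by rw [Set.ncard_singleton])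
    have : δ φ b d ∈ D.map (δ φ b) := mem_map_of_mem _ hd
    rw [hI, mem_bot] at this
    exact (δ_eq_one hW).1 this
  have h4 : 4 ≤ (fixS φ {a}).relIndex D := by
    have hne : (fixS φ {a}).relIndex D ≠ 0 := index_ne_zero_of_finite
    have hgt : ¬ (fixS φ {a}).relIndex D ≤ 2 := fun hle => hf g hgo (MulEquiv.ext fun x => by
      have hbot := hfree D le_rfl hDg hle
      have hx : δ φ g x ∈ D := ⟨x, rfl⟩
      rw [hbot, mem_bot] at hx
      rw [MulAut.one_apply]
      exact (δ_eq_one hW).1 hx)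
    haveI : Fact (Nat.Prime 2) := ⟨Nat.prime_two⟩
    obtain ⟨i, hi⟩ : ∃ i, (fixS φ {a}).relIndex D = 2 ^ i := by
      obtain ⟨k, hk⟩ := IsPGroup.iff_card.1 ((isPGroup_two hW).to_subgroup D)
      obtain ⟨i, -, hi⟩ := (Nat.dvd_prime_pow Nat.prime_two).1 (hk ▸
        ((fixS φ {a}).subgroupOf D).index_dvd_card)
      exact ⟨i, hi⟩
    rw [hi] at hgt ⊢
    rcases i with _ | _ | i
    · norm_num at hgt
    · norm_num at hgt
    · calc 4 = 2 ^ 2 := by norm_num
        _ ≤ 2 ^ (i + 2) := Nat.pow_le_pow_right (by norm_num) (by omega)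
  -- induction
  have hlt : Nat.card B < n := by
    have : 0 < Nat.card B := Nat.card_pos
    omega
  have hB := ih _ hlt B rfl (fun b hb => hA b (hBA hb)) fun c hc d hd => hquad c (hBA hc) d (hBA hd)
  set FA := fixS φ (A : Set R) with hFA
  set FB := fixS φ (B : Set R) with hFB
  have hle : FA ≤ FB := fun x hx => (mem_fixS φ).2 fun b hb => (mem_fixS φ).1 hx b (hBA hb)
  have hle' : FA ≤ fixS φ {a} := fun x hx => (mem_fixS φ).2 fun b hb => (mem_fixS φ).1 hx b (by
    rw [Set.mem_singleton_iff.1 hb]; exact haA)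
  have hidx : 4 ≤ FA.relIndex FB := by
    have h1 : (fixS φ {a}).relIndex D ≤ (fixS φ {a}).relIndex FB :=
      relIndex_le_of_le_right hDB index_ne_zero_of_finite
    have h2 : (fixS φ {a}).relIndex FB ≤ FA.relIndex FB :=
      relIndex_le_of_le_left hle' index_ne_zero_of_finite
    omega
  have hFAB : Nat.card FA * FA.relIndex FB = Nat.card FB := by
    rw [← relIndex_bot_left FA, relIndex_mul_relIndex ⊥ FA FB bot_le hle, relIndex_bot_left]
  calc n ^ 2 * Nat.card FA = Nat.card B ^ 2 * (Nat.card FA * 4) := by rw [← hn, hAn]; ring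
    _ ≤ Nat.card B ^ 2 * (Nat.card FA * FA.relIndex FB) :=
        Nat.mul_le_mul_left _ (Nat.mul_le_mul_left _ hidx)
    _ ≤ Nat.card W := by rw [hFAB]; exact hB

/-- A `2`-group fixes more than the identity of a nontrivial elementary abelian `2`-group. -/
theorem one_lt_card_fixS (hW : ∀ x : W, x * x = 1) {A : Subgroup R} (hA : IsPGroup 2 A)
    (hne : 1 < Nat.card W) : 1 < Nat.card (fixS φ (A : Set R)) := by
  haveI : Fact (Nat.Prime 2) := ⟨Nat.prime_two⟩
  letI : MulAction A W :=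
    { smul := fun a x => φ a x
      one_smul := fun x => by change φ 1 x = x; simp
      mul_smul := fun a b x => by change φ ((a * b : A) : R) x = φ a (φ b x); simp }
  have h := hA.card_modEq_card_fixedPoints W
  have he : Nat.card (MulAction.fixedPoints A W) = Nat.card (fixS φ (A : Set R)) :=
    Nat.card_congr (Equiv.subtypeEquivRight fun x => by
      rw [MulAction.mem_fixedPoints, mem_fixS]
      exact ⟨fun h a ha => h ⟨a, ha⟩, fun h a => h a a.2⟩)
  rw [he] at h
  obtain ⟨k, hk⟩ := IsPGroup.iff_card.1 (isPGroup_two hW)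
  have hk0 : k ≠ 0 := by rintro rfl; rw [pow_zero] at hk; omega
  have h0 : Nat.card W % 2 = 0 := by rw [hk]; exact Nat.mod_eq_zero_of_dvd (dvd_pow_self 2 hk0)
  have hpos : 0 < Nat.card (fixS φ (A : Set R)) := Nat.card_pos
  have : Nat.card (fixS φ (A : Set R)) % 2 = 0 := by rw [← h]; exact h0
  omega

end Module

section Section

variable {G : Type u} [Group G]

open scoped commutatorElement

/-- `L` acts on the elementary abelian section `U/N` with `O` trivial, `O` the largest normal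
`2`-subgroup of `L`. -/
structure Sect (q : ℕ) (L O U N : Subgroup G) : Prop where
  hq : q.Prime
  hq5 : 5 ≤ q
  hcard : ∃ a b, Nat.card L = 2 ^ a * q ^ b
  hOle : O ≤ L
  hO2 : IsPGroup 2 O
  hOL : L ≤ normalizer (O : Set G)
  hOmax : ∀ P : Subgroup G, P ≤ L → IsPGroup 2 P → L ≤ normalizer (P : Set G) → P ≤ O
  hNU : N ≤ U
  hLU : L ≤ normalizer (U : Set G)
  hLN : L ≤ normalizer (N : Set G)
  hnorm : U ≤ normalizer (N : Set G)
  hsq : ∀ u ∈ U, u * u ∈ N
  hO : ∀ o ∈ O, ∀ u ∈ U, ⁅o, u⁆ ∈ N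

namespace Sect

variable {q : ℕ} {L O U N : Subgroup G}

theorem normal_O (h : Sect q L O U N) : (O.subgroupOf L).Normal :=
  ⟨fun x hx l => (mem_normalizer_iff.1 (h.hOL l.2) (x : G)).1 hx⟩

theorem normal_N (h : Sect q L O U N) : (N.subgroupOf U).Normal :=
  ⟨fun x hx u => (mem_normalizer_iff.1 (h.hnorm u.2) (x : G)).1 hx⟩

theorem conj_mem_U (h : Sect q L O U N) {l u : G} (hl : l ∈ L) (hu : u ∈ U) : l * u * l⁻¹ ∈ U :=
  (mem_normalizer_iff.1 (h.hLU hl) u).1 hu

theorem comm_mem_U (h : Sect q L O U N) {l u : G} (hl : l ∈ L) (hu : u ∈ U) : ⁅l, u⁆ ∈ U := by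
  rw [commutatorElement_def]
  exact mul_mem (h.conj_mem_U hl hu) (inv_mem hu)

/-- Conjugation on the section. -/
noncomputable def act (h : Sect q L O U N) [(N.subgroupOf U).Normal] :
    L →* MulAut (U ⧸ N.subgroupOf U) where
  toFun l := QuotientGroup.congr (N.subgroupOf U) (N.subgroupOf U)
    (U.normalizerMonoidHom ⟨l, h.hLU l.2⟩) (by
      ext u
      constructor
      · rintro ⟨v, hv, rfl⟩
        exact (mem_normalizer_iff.1 (h.hLN l.2) (v : G)).1 hv
      · intro hu
        refine ⟨⟨(l : G)⁻¹ * u * l, ?_⟩, ?_, Subtype.ext ?_⟩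
        · simpa using h.conj_mem_U (inv_mem l.2) u.2
        · simpa [mem_subgroupOf] using
            (mem_normalizer_iff.1 (h.hLN (inv_mem l.2)) (u : G)).1 hu
        · change (l : G) * ((l : G)⁻¹ * u * l) * (l : G)⁻¹ = u
          group)
  map_one' := MulEquiv.ext fun x => by
    induction x using QuotientGroup.induction_on with
    | H u => exact congrArg _ (Subtype.ext (by simp))
  map_mul' l m := MulEquiv.ext fun x => by
    induction x using QuotientGroup.induction_on with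
    | H u => exact congrArg _ (Subtype.ext (by simp [mul_assoc]))

theorem act_fix (h : Sect q L O U N) [(N.subgroupOf U).Normal] (l : L) (u : U) :
    h.act l (u : U ⧸ N.subgroupOf U) = u ↔ ⁅(l : G), (u : G)⁆ ∈ N := by
  refine QuotientGroup.eq_iff_div_mem.trans ?_
  rw [mem_subgroupOf, commutatorElement_def, div_eq_mul_inv]
  exact Iff.rfl

/-- The action of `L/O` on `U/N`. -/
noncomputable def phi (h : Sect q L O U N) [(O.subgroupOf L).Normal] [(N.subgroupOf U).Normal] :
    L ⧸ O.subgroupOf L →* MulAut (U ⧸ N.subgroupOf U) :=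
  QuotientGroup.lift (O.subgroupOf L) h.act fun l hl => MulEquiv.ext fun x => by
    induction x using QuotientGroup.induction_on with
    | H u => exact (h.act_fix l u).2 (h.hO l hl u u.2)

theorem phi_fix (h : Sect q L O U N) [(O.subgroupOf L).Normal] [(N.subgroupOf U).Normal] (l : L)
    (u : U) :
    h.phi (l : L ⧸ O.subgroupOf L) (u : U ⧸ N.subgroupOf U) = u ↔ ⁅(l : G), (u : G)⁆ ∈ N :=
  h.act_fix l u

theorem phi_eq_one (h : Sect q L O U N) [(O.subgroupOf L).Normal] [(N.subgroupOf U).Normal] (l : L) :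
    h.phi (l : L ⧸ O.subgroupOf L) = 1 ↔ ∀ u ∈ U, ⁅(l : G), u⁆ ∈ N := by
  constructor
  · intro hl u hu
    exact (h.phi_fix l ⟨u, hu⟩).1 (by rw [hl, MulAut.one_apply])
  · intro hl
    refine MulEquiv.ext fun x => ?_
    induction x using QuotientGroup.induction_on with
    | H u => exact (h.phi_fix l u).2 (hl u u.2)

theorem mul_self (h : Sect q L O U N) [(N.subgroupOf U).Normal] (x : U ⧸ N.subgroupOf U) :
    x * x = 1 := by
  induction x using QuotientGroup.induction_on with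
  | H u => exact (QuotientGroup.eq_one_iff _).2 (h.hsq u u.2)

/-- The section as a commutative group. -/
@[reducible] noncomputable def commGroup (h : Sect q L O U N) [(N.subgroupOf U).Normal] :
    CommGroup (U ⧸ N.subgroupOf U) :=
  { (inferInstance : Group (U ⧸ N.subgroupOf U)) with
    mul_comm := fun x y => by
      calc x * y = x⁻¹ * y⁻¹ := by
            rw [inv_eq_of_mul_eq_one_right (h.mul_self x), inv_eq_of_mul_eq_one_right (h.mul_self y)]
        _ = (y * x)⁻¹ := (mul_inv_rev y x).symm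
        _ = y * x := inv_eq_of_mul_eq_one_right (h.mul_self _) }

variable [Finite G]

theorem core (h : Sect q L O U N) [(O.subgroupOf L).Normal] : Core q (L ⧸ O.subgroupOf L) where
  hq := h.hq
  hq5 := h.hq5
  hcard := by
    obtain ⟨a, b, hab⟩ := h.hcard
    have hd : Nat.card (L ⧸ O.subgroupOf L) ∣ 2 ^ a * q ^ b :=
      hab ▸ (O.subgroupOf L).card_quotient_dvd_card
    obtain ⟨y, z, hy, hz, he⟩ := Nat.dvd_mul.1 hd
    obtain ⟨i, -, rfl⟩ := (Nat.dvd_prime_pow Nat.prime_two).1 hy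
    obtain ⟨j, -, rfl⟩ := (Nat.dvd_prime_pow h.hq).1 hz
    exact ⟨i, j, he.symm⟩
  hcore := by
    intro P hP hP2
    set f := QuotientGroup.mk' (O.subgroupOf L) with hf
    have hker : IsPGroup 2 f.ker := by
      rw [hf, QuotientGroup.ker_mk']
      exact h.hO2.comap_of_injective L.subtype Subtype.val_injective
    have hle : (P.comap f).map L.subtype ≤ O := by
      refine h.hOmax _ (map_subtype_le _) ((hP2.comap_of_ker_isPGroup f hker).map _) fun l hl => ?_
      rw [mem_normalizer_iff]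
      intro g
      constructor
      · rintro ⟨p, hp, rfl⟩
        exact ⟨⟨l, hl⟩ * p * ⟨l, hl⟩⁻¹, (hP.comap f).conj_mem p hp _, rfl⟩
      · rintro ⟨p, hp, hpe⟩
        refine ⟨⟨l, hl⟩⁻¹ * p * ⟨l, hl⟩, ?_, ?_⟩
        · simpa using (hP.comap f).conj_mem p hp (⟨l, hl⟩⁻¹)
        · change (l⁻¹ * (p : G) * l) = g
          rw [show (p : G) = l * g * l⁻¹ from hpe]
          group
    refine (eq_bot_iff_forall _).2 fun x hx => ?_
    induction x using QuotientGroup.induction_on with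
    | H p => exact (QuotientGroup.eq_one_iff p).2 (hle ⟨p, hx, rfl⟩)

theorem faithful (h : Sect q L O U N) [(O.subgroupOf L).Normal] [(N.subgroupOf U).Normal]
    (hker : ∀ l ∈ L, (∀ u ∈ U, ⁅l, u⁆ ∈ N) → l ∈ O) :
    ∀ g : L ⧸ O.subgroupOf L, orderOf g = q → h.phi g ≠ 1 := by
  intro g hg h1
  induction g using QuotientGroup.induction_on with
  | H l =>
    rw [(QuotientGroup.eq_one_iff l).2 (hker l l.2 ((h.phi_eq_one l).1 h1)), orderOf_one] at hg
    have := h.hq5
    omega

theorem relIndex_image (h : Sect q L O U N) [(N.subgroupOf U).Normal] {H : Subgroup G}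
    (hi : H.relIndex U ≤ 2) :
    ((H.subgroupOf U).map (QuotientGroup.mk' (N.subgroupOf U))).relIndex ⊤ ≤ 2 := by
  rw [relIndex_top_right]
  exact (Nat.le_of_dvd (Nat.pos_of_ne_zero index_ne_zero_of_finite)
    (index_map_dvd _ (QuotientGroup.mk'_surjective _))).trans hi

/-- A `2`-element fixing a subgroup of index at most two of the section is trivial on it, if the action
is faithful. -/
theorem trivial_of_index_two (h : Sect q L O U N)
    (hker : ∀ l ∈ L, (∀ u ∈ U, ⁅l, u⁆ ∈ N) → l ∈ O) {v : G} (hv : v ∈ L) (hv2 : ∃ k, v ^ 2 ^ k = 1)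
    {H : Subgroup G} (hH : H ≤ U) (hi : H.relIndex U ≤ 2) (hvH : ∀ u ∈ H, ⁅v, u⁆ ∈ N) :
    ∀ u ∈ U, ⁅v, u⁆ ∈ N := by
  haveI := h.normal_O
  haveI := h.normal_N
  letI := h.commGroup
  obtain ⟨k, hk⟩ := hv2
  have h1 : ((⟨v, hv⟩ : L) : L ⧸ O.subgroupOf L) = 1 := by
    refine eq_one_of_index_two h.phi h.core h.mul_self (h.faithful hker) ⟨k, ?_⟩
      (h.relIndex_image hi) ?_
    · rw [← QuotientGroup.mk_pow, show (⟨v, hv⟩ : L) ^ 2 ^ k = 1 from Subtype.ext hk,
        QuotientGroup.mk_one]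
    · rintro _ ⟨u, hu, rfl⟩
      exact (h.phi_fix ⟨v, hv⟩ u).2 (hvH u hu)
  have h2 := (QuotientGroup.eq_one_iff _).1 h1
  exact h.hO v h2

/-- An involution modulo `O` fixing a subgroup of index at most two of the section: some element of
order `q` in every `L`-invariant subgroup containing it is trivial on the section. -/
theorem exists_q_trivial (h : Sect q L O U N) {v : G} (hv : v ∈ L) (hvO : v ∉ O) (hv2 : v * v ∈ O)
    {H : Subgroup G} (hH : H ≤ U) (hi : H.relIndex U ≤ 2) (hvH : ∀ u ∈ H, ⁅v, u⁆ ∈ N) :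
    ∃ g ∈ L, orderOf g = q ∧ (∀ u ∈ U, ⁅g, u⁆ ∈ N) ∧
      ∀ P : Subgroup G, v ∈ P → L ≤ normalizer (P : Set G) → g ∈ P := by
  haveI := h.normal_O
  haveI := h.normal_N
  letI := h.commGroup
  set v' : L := ⟨v, hv⟩ with hv'
  obtain ⟨g, hgo, hg1, hgP⟩ := exists_q_fixing h.phi h.core h.mul_self
    (a := (v' : L ⧸ O.subgroupOf L))
    (by rw [← QuotientGroup.mk_mul]; exact (QuotientGroup.eq_one_iff _).2 hv2)
    (fun e => hvO ((QuotientGroup.eq_one_iff v').1 e)) (h.relIndex_image hi)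
    (by rintro _ ⟨u, hu, rfl⟩; exact (h.phi_fix v' u).2 (hvH u hu))
  obtain ⟨p, hp, hpg⟩ := hgP ((normalClosure {v'}).map (QuotientGroup.mk' (O.subgroupOf L)))
    (normalClosure_normal.map _ (QuotientGroup.mk'_surjective _))
    (mem_map_of_mem _ (subset_normalClosure (Set.mem_singleton _)))
  have hqp : q ∣ orderOf p := hgo ▸ hpg ▸ orderOf_map_dvd (QuotientGroup.mk' (O.subgroupOf L)) p
  refine ⟨((p ^ (orderOf p / q) : L) : G), (p ^ (orderOf p / q)).2, ?_, ?_, fun P hvP hLP => ?_⟩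
  · rw [orderOf_coe, orderOf_pow_orderOf_div (orderOf_pos p).ne' hqp]
  · rw [← h.phi_eq_one, QuotientGroup.mk_pow, map_pow]
    rw [show (p : L ⧸ O.subgroupOf L) = g from hpg, hg1, one_pow]
  · haveI : (P.subgroupOf L).Normal :=
      ⟨fun x hx l => (mem_normalizer_iff.1 (hLP l.2) (x : G)).1 hx⟩
    exact pow_mem (normalClosure_le_normal (N := P.subgroupOf L)
      (Set.singleton_subset_iff.2 hvP) hp) _

/-- The bound on a faithful section for a `2`-group which is elementary abelian modulo `O` and quadratic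
up to rank one. -/
theorem card_bound (h : Sect q L O U N) {A : Subgroup G} (hA : A ≤ L) (hA2 : IsPGroup 2 A)
    (hAsq : ∀ a ∈ A, a * a ∈ O) (hker : ∀ l ∈ L, (∀ u ∈ U, ⁅l, u⁆ ∈ N) → l ∈ O)
    (hquad : ∀ a ∈ A, ∀ b ∈ A, ∃ z : G, ∀ u ∈ U, ⁅a, ⁅b, u⁆⁆ ∈ N ∨ z⁻¹ * ⁅a, ⁅b, u⁆⁆ ∈ N) :
    ∃ C : Subgroup G, N ≤ C ∧ C ≤ U ∧ (∀ u, u ∈ C ↔ u ∈ U ∧ ∀ a ∈ A, ⁅a, u⁆ ∈ N) ∧
      (O.relIndex A) ^ 2 * N.relIndex C ≤ N.relIndex U ∧ (N.relIndex U ≠ 1 → 2 ≤ N.relIndex C) := by
  haveI := h.normal_O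
  haveI := h.normal_N
  letI := h.commGroup
  set f := QuotientGroup.mk' (O.subgroupOf L) with hf
  set g := QuotientGroup.mk' (N.subgroupOf U) with hg
  set Ab := (A.subgroupOf L).map f with hAb
  set F := fixS h.phi (Ab : Set (L ⧸ O.subgroupOf L)) with hF
  set C := (F.comap g).map U.subtype with hC
  have hCU : C ≤ U := map_subtype_le _
  have hmem : ∀ u, u ∈ C ↔ u ∈ U ∧ ∀ a ∈ A, ⁅a, u⁆ ∈ N := by
    intro u
    constructor
    · rintro ⟨w, hw, rfl⟩
      exact ⟨w.2, fun a ha => (h.phi_fix ⟨a, hA ha⟩ w).1 (hw _ ⟨⟨a, hA ha⟩, ha, rfl⟩)⟩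
    · rintro ⟨hu, hua⟩
      refine ⟨⟨u, hu⟩, ?_, rfl⟩
      rintro _ ⟨a, ha, rfl⟩
      exact (h.phi_fix a ⟨u, hu⟩).2 (hua a ha)
  have hNC : N ≤ C := fun u hu => (hmem u).2 ⟨h.hNU hu, fun a ha => by
    rw [commutatorElement_def]
    exact mul_mem ((mem_normalizer_iff.1 (h.hLN (hA ha)) u).1 hu) (inv_mem hu)⟩
  have hcA : Nat.card Ab = O.relIndex A := by
    rw [hAb, ← relIndex_ker, hf, QuotientGroup.ker_mk', relIndex_subgroupOf hA]
  have hcF : Nat.card F = N.relIndex C := by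
    conv_lhs => rw [← map_comap_eq_self_of_surjective (QuotientGroup.mk'_surjective _) F]
    rw [← relIndex_ker, QuotientGroup.ker_mk',
      show F.comap g = C.subgroupOf U from (comap_map_eq_self_of_injective Subtype.val_injective _).symm,
      relIndex_subgroupOf hCU]
  have hcW : Nat.card (U ⧸ N.subgroupOf U) = N.relIndex U := rfl
  have hδ : ∀ (a : L) (u : U), δ h.phi (f a) (g u) = g ⟨⁅(a : G), (u : G)⁆, h.comm_mem_U a.2 u.2⟩ := by
    intro a u
    have hx : (g u)⁻¹ = g u := inv_eq_of_mul_eq_one_right (h.mul_self _)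
    rw [δ_apply, mul_comm]
    conv_lhs => arg 2; rw [← hx]
    rw [show h.phi (f a) (g u) = g ⟨(a : G) * u * (a : G)⁻¹, h.conj_mem_U a.2 u.2⟩ from rfl,
      ← map_inv, ← map_mul]
    exact congrArg g (Subtype.ext (commutatorElement_def (a : G) (u : G)).symm)
  have hAb2 : IsPGroup 2 Ab := (hA2.comap_of_injective L.subtype Subtype.val_injective).map f
  refine ⟨C, hNC, hCU, hmem, ?_, fun hne => ?_⟩
  · rw [← hcA, ← hcF, ← hcW]
    refine Linear.card_bound h.phi h.core h.mul_self (h.faithful hker) _ Ab rfl ?_ ?_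
    · rintro _ ⟨a, ha, rfl⟩
      rw [← map_mul]
      exact (QuotientGroup.eq_one_iff _).2 (hAsq a ha)
    · rintro _ ⟨a, ha, rfl⟩ _ ⟨b, hb, rfl⟩
      obtain ⟨z, hz⟩ := hquad a ha b hb
      classical
      refine ⟨if hzU : z ∈ U then g ⟨z, hzU⟩ else 1, fun x => ?_⟩
      induction x using QuotientGroup.induction_on with
      | H u =>
        change δ h.phi (f a) (δ h.phi (f b) (g u)) = 1 ∨ δ h.phi (f a) (δ h.phi (f b) (g u)) = _
        rw [hδ, hδ]
        have hc : ⁅(a : G), ⁅(b : G), (u : G)⁆⁆ ∈ U := h.comm_mem_U a.2 (h.comm_mem_U b.2 u.2)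
        rcases hz u u.2 with h1 | h1
        · exact Or.inl ((QuotientGroup.eq_one_iff _).2 h1)
        · have hzU : z ∈ U := by
            have h2 := mul_mem hc (inv_mem (h.hNU h1))
            rwa [mul_inv_rev, inv_inv, mul_inv_cancel_left] at h2
          rw [dif_pos hzU]
          exact Or.inr ((QuotientGroup.eq (s := N.subgroupOf U) (a := (⟨z, hzU⟩ : U))
            (b := (⟨_, hc⟩ : U))).2 h1).symm
  · rw [← hcF]
    refine one_lt_card_fixS h.phi h.mul_self hAb2 ?_
    have h0 : 0 < Nat.card (U ⧸ N.subgroupOf U) := Nat.card_pos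
    omega

end Sect

end Section

end CfsgLib.NineAmalgam.Linear
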