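import Cfsg.Agent.Lib.SmallSimple.NineAmalgam.DirectMid
import Cfsg.Agent.Lib.SmallSimple.NineAmalgam.DirectHigh
import Cfsg.Agent.Lib.SmallSimple.NineAmalgam.Linear

/-!
The linear lemmas applied to the sections `O/N` with `Φ(O) ≤ N` of the amalgam data.
-/

set_option autoImplicit false
set_option linter.unusedSectionVars false

namespace CfsgLib.NineAmalgam

open Subgroup
open scoped commutatorElement

namespace Data

variable {G : Type*} [Group G] [Finite G] (D : Data G)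

theorem sect {N : Subgroup G} (hNO : N ≤ D.O) (hPN : D.Phi ≤ N)
    (hN : D.L ≤ normalizer (N : Set G)) : Linear.Sect D.q D.L D.O D.O N where
  hq := D.hq
  hq5 := D.hq5
  hcard := D.card_L
  hOle := D.O_le_L
  hO2 := D.O_pGroup
  hOL := D.hOL
  hOmax := D.hOmax
  hNU := hNO
  hLU := D.hOL
  hLN := hN
  hnorm := D.O_le_L.trans hN
  hsq _ hu := hPN (D.sq_mem_Phi hu)
  hO _ ho _ hu := hPN (D.commutator_mem_Phi ho hu)

/-- `L` is faithful modulo `O` on `O/Φ(O)`. -/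
theorem faithful_Phi : ∀ l ∈ D.L, (∀ u ∈ D.O, ⁅l, u⁆ ∈ D.Phi) → l ∈ D.O :=
  fun _ hl h => D.mem_O_of_trivial_mod_Phi hl h

/-- `Z(K) ≤ O`. -/
theorem Zk_le_O : D.Zk ≤ D.O :=
  D.Zk_le_O_of fun _ hv hv2 _ hH hi hvH =>
    (D.sect D.Phi_le_O le_rfl D.L_le_normalizer_Phi).trivial_of_index_two D.faithful_Phi hv hv2 hH hi hvH

/-- An element of order `q` trivial on `O/Zl`. -/
theorem exists_g {R : Subgroup G} (hR : D.L ≤ normalizer (R : Set G)) {k : G} (hk : k ∈ D.K)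
    (hkR : k ∈ R) (hkO : k ∉ D.O) : ∃ g ∈ R, orderOf g = D.q ∧ ∀ o ∈ D.O, ⁅g, o⁆ ∈ D.Zl :=
  D.exists_g_of D.Zk_le_O
    (fun _ hNO hPN hN _ hv hvO hv2 _ hH hi hvH =>
      (D.sect hNO hPN hN).exists_q_trivial hv hvO hv2 hH hi hvH) R hR k hk hkR hkO

/-- The data are contradictory, given `Zl ≤ K` and the commutation of `Zl` with its `x`-conjugates. -/
theorem false_of_Zl_le (hZK : D.Zl ≤ D.K)
    (hpair : ∀ u ∈ D.Zl, ∀ v ∈ D.Zl,
      Commute u (D.x * v * D.x⁻¹) ∧ Commute u (D.x⁻¹ * v * D.x)) : False := by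
  by_cases hK : D.K ≤ D.O
  · exact D.false_of_le hZK hpair hK
  · exact D.false_of_not_le D.Zk_le_O hZK hpair (fun R _ hR k hk hkR hkO => D.exists_g hR hk hkR hkO) hK

end Data

end CfsgLib.NineAmalgam
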