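import Cfsg.Agent.Lib.SmallSimple.NineAmalgam.RankThree
import Cfsg.Agent.Lib.CIT.Main
import Cfsg.Agent.Lib.Spor.PlaneFour.M21
import Cfsg.Agent.Lib.Char.J1.Spectrum
import Cfsg.Agent.Lib.Classical.HermOrder
import Cfsg.Agent.S2754

/-!
# Existence of the two kinds of 2-local subgroups
-/

set_option autoImplicit false
set_option linter.unusedSectionVars false
set_option linter.style.haveILetI false

namespace CfsgLib.NineAmalgam

open Subgroup

universe u

variable {G : Type u} [Group G] [Finite G] [IsSimpleGroup G]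

theorem Setting.nine_dvd (D : Setting G) : 9 ∣ Nat.card G := by
  rw [D.hcard, mul_assoc]; exact dvd_mul_right 9 _

/-- Apart from `2`, `3` and `q` no prime divides the order. -/
theorem Setting.prime_cases (D : Setting G) {r : ℕ} (hr : r.Prime) (h : r ∣ Nat.card G) :
    r = 2 ∨ r = 3 ∨ r = D.q := by
  rw [D.hcard] at h
  rcases hr.dvd_mul.mp h with h | h
  · rcases hr.dvd_mul.mp h with h | h
    · exact Or.inr (Or.inl ((Nat.prime_dvd_prime_iff_eq hr Nat.prime_three).mp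
        (hr.dvd_of_dvd_pow (show r ∣ 3 ^ 2 by simpa using h))))
    · exact Or.inl ((Nat.prime_dvd_prime_iff_eq hr Nat.prime_two).mp (hr.dvd_of_dvd_pow h))
  · exact Or.inr (Or.inr ((Nat.prime_dvd_prime_iff_eq hr D.hq).mp (hr.dvd_of_dvd_pow h)))

theorem Setting.not_suzuki (D : Setting G) : ¬ Cfsg.Lie.IsoSuzuki G := by
  intro h
  obtain ⟨-, m, hm, hcard⟩ := CfsgLib.CIT.isSuzuki_of_isoSuzuki h
  have h3 : 3 ∣ Nat.card G := (by norm_num : 3 ∣ 9).trans D.nine_dvd
  have hq : (2 ^ (2 * m + 1)) % 3 = 2 := by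
    rw [pow_succ, pow_mul, Nat.mul_mod, Nat.pow_mod]; norm_num
  have hpos : 1 ≤ 2 ^ (2 * m + 1) := Nat.one_le_two_pow
  generalize hQ : 2 ^ (2 * m + 1) = q at hq hpos hcard
  rw [hcard] at h3
  have e1 : q ^ 2 % 3 = 1 := by rw [Nat.pow_mod, hq]
  have e2 : (q ^ 2 + 1) % 3 = 2 := by omega
  have e3 : (q - 1) % 3 = 1 := by omega
  have : (q ^ 2 * (q ^ 2 + 1) * (q - 1)) % 3 = 2 := by
    rw [Nat.mul_mod, Nat.mul_mod (q ^ 2), e1, e2, e3]
  omega

/-- `PSL(2, q)` in characteristic three: `q` is `3` or `9`. -/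
theorem Setting.psl_three (D : Setting G) {F : Type} [Field F] [Fintype F] (h3 : 3 ∣ Fintype.card F)
    (e : G ≃* Matrix.ProjectiveSpecialLinearGroup (Fin 2) F) :
    Fintype.card F = 3 ∨ Fintype.card F = 9 := by
  obtain ⟨p, hch⟩ := CharP.exists F
  obtain ⟨f, hp, hf⟩ := FiniteField.card F p
  obtain rfl : p = 3 := ((Nat.prime_dvd_prime_iff_eq Nat.prime_three hp).mp
    (Nat.prime_three.dvd_of_dvd_pow (hf ▸ h3))).symm
  have hp2 := CfsgLib.Classical.card_psl2 (F := F)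
  rw [← Nat.card_congr e.toEquiv, D.hcard, hf] at hp2
  have hodd : 3 ^ (f : ℕ) % 2 = 1 := by rw [Nat.pow_mod]; norm_num
  rw [Nat.gcd_eq_left (show 2 ∣ 3 ^ (f : ℕ) - 1 by omega)] at hp2
  have hf2 : (f : ℕ) ≤ 2 := by
    by_contra hgt
    have h27 : 3 ^ 3 ∣ 2 * (9 * 2 ^ D.a * D.q ^ D.b) := by
      rw [hp2]
      exact (Nat.pow_dvd_pow 3 (by omega)).mul_right _
    have h3' : 3 ∣ 2 * (2 ^ D.a * D.q ^ D.b) := Nat.dvd_of_mul_dvd_mul_left (by norm_num : 0 < 9)
      (show 9 * 3 ∣ 9 * (2 * (2 ^ D.a * D.q ^ D.b)) from by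
        convert h27 using 1 <;> ring)
    rcases Nat.prime_three.dvd_mul.mp h3' with d | d
    · norm_num at d
    rcases Nat.prime_three.dvd_mul.mp d with d | d
    · exact absurd (Nat.prime_three.dvd_of_dvd_pow d) (by norm_num)
    · have := (Nat.prime_dvd_prime_iff_eq Nat.prime_three D.hq).mp (Nat.prime_three.dvd_of_dvd_pow d)
      have := D.hq5
      omega
  have hfp := f.pos
  rw [hf]
  interval_cases hv : (f : ℕ) <;> norm_num

theorem Setting.not_small (D : Setting G) (hc : Nat.card G = 360) : False := by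
  haveI : Fact (Nat.Prime 2) := ⟨Nat.prime_two⟩
  refine D.rank_three fun A hA hsq => ?_
  have hA2 : IsPGroup 2 A := fun a => ⟨1, by rw [pow_one]; exact Subtype.ext (hsq a a.2)⟩
  obtain ⟨S, hS⟩ := hA2.exists_le_sylow
  have hS8 : Nat.card (S : Subgroup G) = 8 := by
    rw [Sylow.card_eq_multiplicity, hc, show (360 : ℕ) = 2 ^ 3 * 45 by norm_num,
      Nat.factorization_mul (by norm_num) (by norm_num), Finsupp.add_apply,
      Nat.prime_two.factorization_pow, Finsupp.single_eq_same,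
      Nat.factorization_eq_zero_of_not_dvd (by norm_num : ¬ 2 ∣ 45)]
    norm_num
  by_contra hgt
  push_neg at hgt
  have hAS : A = (S : Subgroup G) := by
    obtain ⟨i, hi⟩ := IsPGroup.iff_card.mp hA2
    refine eq_of_le_of_card_ge hS ?_
    rw [hS8, hi]
    rw [hi] at hgt
    have : 2 < i := (Nat.pow_lt_pow_iff_right (by norm_num : 1 < 2)).mp hgt
    exact (by norm_num : (8 : ℕ) = 2 ^ 3).le.trans (Nat.pow_le_pow_right (by norm_num) this)
  exact D.not_exp_two S fun s hs => hsq s (hAS ▸ hs)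

/-- Some element of order `q` centralizes an involution. -/
theorem Setting.exists_q_centralizer (D : Setting G) :
    ∃ t : G, orderOf t = 2 ∧ D.q ∣ Nat.card (centralizer ({t} : Set G)) := by
  haveI : Fact (Nat.Prime 2) := ⟨Nat.prime_two⟩
  by_contra h
  push_neg at h
  have hcit : CfsgLib.CIT.IsCIT G := CfsgLib.CIT.isCIT_of_isPGroup fun t ht => by
    have h3 := D.not_three_dvd_centralizer t ht
    obtain ⟨k, hk⟩ : ∃ k, Nat.card (centralizer ({t} : Set G)) = 2 ^ k := by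
      refine ⟨_, Nat.eq_prime_pow_of_unique_prime_dvd Nat.card_pos.ne' fun {r} hr hd => ?_⟩
      rcases D.prime_cases hr (hd.trans (centralizer ({t} : Set G)).card_subgroup_dvd_card) with e | e | e
      · exact e
      · exact absurd (e ▸ hd) h3
      · exact absurd (e ▸ hd) (h t ht)
    exact IsPGroup.of_card hk
  rcases CfsgLib.CIT.simple_cases D.hna hcit with ⟨K, i, j, hK, ⟨e⟩⟩ | ⟨K, i, j, hK, ⟨e⟩⟩ | hs
  · by_cases h3 : 3 ∣ Fintype.card K
    swap
    · exact D.not_psl h3 e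
    have hc := CfsgLib.Classical.card_psl2 (F := K)
    rw [← Nat.card_congr e.toEquiv] at hc
    rcases D.psl_three h3 e with h' | h' <;> rw [h'] at hc <;> norm_num at hc
    · have h9 := D.nine_dvd
      rw [show Nat.card G = 12 by omega] at h9
      norm_num at h9
    · exact D.not_small (by omega)
  · have hc := Nat.card_congr e.toEquiv
    classical
    haveI : Fintype (Projectivization K (Fin 3 → K)) := Fintype.ofFinite _
    rw [CfsgLib.Spor.Plane.card_psl_three_four (hF := hK)] at hc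
    rcases D.prime_cases (by norm_num : Nat.Prime 5) (hc ▸ by norm_num) with h5 | h5 | h5 <;>
      rcases D.prime_cases (by norm_num : Nat.Prime 7) (hc ▸ by norm_num) with h7 | h7 | h7 <;> omega
  · exact D.not_suzuki hs

theorem pow_three_succ {k : ℕ} (hk : k ≠ 0) (n : ℕ) (h : n + 2 = 3 ^ k) : ∀ l : ℕ, n = 3 ^ l → k = 1 := by
  intro l hl
  rcases Nat.eq_zero_or_pos l with rfl | hl0
  · rcases Nat.lt_or_ge k 2 with h1 | h2
    · omega
    · have : 3 ^ 2 ≤ 3 ^ k := Nat.pow_le_pow_right (by norm_num) h2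
      rw [pow_zero] at hl
      omega
  · exfalso
    have h1 : 3 ∣ 3 ^ l := dvd_pow_self 3 hl0.ne'
    have h2 : 3 ∣ 3 ^ k := dvd_pow_self 3 hk
    omega

/-- `G` is not `PSU(3, Q)` for `Q = 2^n > 2`. -/
theorem Setting.not_psu (D : Setting G) {F : Type} [Field F] [Fintype F] {n : ℕ} (hn : 2 ≤ n)
    (hF : Fintype.card F = 4 ^ n) (e : G ≃* Cfsg.PSU 3 F (2 ^ n)) : False := by
  haveI : Fact (Nat.Prime 2) := ⟨Nat.prime_two⟩
  have hF' : Fintype.card F = (2 ^ n) ^ 2 := by rw [hF, ← pow_mul, mul_comm, pow_mul]; norm_num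
  obtain ⟨C⟩ := CfsgLib.SU.exists_ctx (F := F) (p := 2) (f := n) (q := 2 ^ n) rfl (by omega) hF'
  have h := CfsgLib.PSUThreeTwo.card_PSU_three C hF'
  rw [CfsgLib.Classical.card_gu_formula C hF' 2, ← Nat.card_congr e.toEquiv] at h
  norm_num [Finset.prod_range_succ, Nat.not_even_one] at h
  set Q := 2 ^ n with hQ
  have hQ4 : 4 ≤ Q := by
    rw [hQ]; exact (by norm_num : (4 : ℕ) = 2 ^ 2).le.trans (Nat.pow_le_pow_right (by norm_num) hn)
  have hQQ : Q ≤ Q * Q := Nat.le_mul_self Q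
  rw [pow_two] at h
  set T := Q * Q - Q + 1 with hT
  have hTQ : T + Q = Q * Q + 1 := by omega
  have hsq : Q * Q - 1 = (Q - 1) * (Q + 1) := by
    obtain ⟨Q', hQ'⟩ : ∃ Q', Q = Q' + 1 := ⟨Q - 1, by omega⟩
    rw [hQ', show (Q' + 1) * (Q' + 1) = Q' * (Q' + 2) + 1 by ring, Nat.add_sub_cancel, Nat.add_sub_cancel]
  rw [hsq] at h
  have hodd : Q % 2 = 0 := by rw [hQ, Nat.pow_mod]; simp [show n ≠ 0 by omega]
  -- the common divisors of the three odd factors
  have hgcd : ∀ r : ℕ, r.Prime → r ∣ T → r ∣ (Q - 1) ∨ r ∣ (Q + 1) → r = 3 := by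
    intro r hr hrT hor
    have hz : (r : ℤ) ∣ ((Q : ℤ) * Q - Q + 1) := by
      have := Int.natCast_dvd_natCast.mpr hrT
      have e : (T : ℤ) = (Q : ℤ) * Q - Q + 1 := by
        have : (T : ℤ) + Q = (Q : ℤ) * Q + 1 := by exact_mod_cast hTQ
        omega
      rwa [e] at this
    rcases hor with h' | h'
    · have h1 : (r : ℤ) ∣ (Q : ℤ) - 1 := by
        have := Int.natCast_dvd_natCast.mpr h'
        rwa [Nat.cast_sub (by omega), Nat.cast_one] at this
      have : (r : ℤ) ∣ 1 := by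
        have := dvd_sub hz (h1.mul_left (Q : ℤ))
        rwa [show (Q : ℤ) * Q - Q + 1 - Q * ((Q : ℤ) - 1) = 1 by ring] at this
      have : r ∣ 1 := by exact_mod_cast this
      exact absurd (Nat.dvd_one.mp this) hr.ne_one
    · have h1 : (r : ℤ) ∣ (Q : ℤ) + 1 := by exact_mod_cast h'
      have : (r : ℤ) ∣ 3 := by
        have := dvd_sub hz (h1.mul_left ((Q : ℤ) - 2))
        rwa [show (Q : ℤ) * Q - Q + 1 - ((Q : ℤ) - 2) * ((Q : ℤ) + 1) = 3 by ring] at this
      have : r ∣ 3 := by exact_mod_cast this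
      exact (Nat.prime_dvd_prime_iff_eq hr Nat.prime_three).mp this
  -- every factor has prime divisors among `3`, `q`
  have hdiv : ∀ r : ℕ, r.Prime → r ≠ 2 → r ≠ 3 → (r ∣ (Q - 1) ∨ r ∣ (Q + 1) ∨ r ∣ T) → r = D.q := by
    intro r hr h2 h3 hor
    have hd : r ∣ Nat.card G * Nat.gcd 3 (Q + 1) := by
      rw [h]
      rcases hor with d | d | d
      · exact dvd_mul_of_dvd_left (dvd_mul_of_dvd_right (dvd_mul_of_dvd_right
          (dvd_mul_of_dvd_left d _) _) _) _
      · exact dvd_mul_of_dvd_left (dvd_mul_of_dvd_right (dvd_mul_of_dvd_left d _) _) _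
      · exact dvd_mul_of_dvd_right (dvd_mul_of_dvd_right d _) _
    rcases hr.dvd_mul.mp hd with d | d
    · rcases D.prime_cases hr d with e | e | e <;> [exact absurd e h2; exact absurd e h3; exact e]
    · exact absurd ((Nat.prime_dvd_prime_iff_eq hr Nat.prime_three).mp (d.trans (Nat.gcd_dvd_left _ _))) h3
  have hT3 : ∃ r : ℕ, r.Prime ∧ r ∣ T ∧ r ≠ 3 := by
    by_contra hc
    push_neg at hc
    have hT1 : 3 < T := by
      have : 4 * Q ≤ Q * Q := Nat.mul_le_mul_right Q hQ4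
      omega
    obtain ⟨k, hk⟩ : ∃ k, T = 3 ^ k := ⟨_, Nat.eq_prime_pow_of_unique_prime_dvd (by omega)
      fun {r} hr hd => hc r hr hd⟩
    have h9 : 9 ∣ T := by
      rw [hk]
      refine (by norm_num : (9 : ℕ) = 3 ^ 2) ▸ Nat.pow_dvd_pow 3 ?_
      by_contra hlt
      have : 3 ^ k ≤ 3 ^ 1 := Nat.pow_le_pow_right (by norm_num) (by omega)
      omega
    obtain ⟨c, hc9⟩ := h9
    have h9' : (Q * Q + 1) % 9 = Q % 9 := by omega
    have key : ∀ v < 9, (v * v + 1) % 9 ≠ v := by decide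
    refine key (Q % 9) (Nat.mod_lt _ (by norm_num)) (Eq.trans ?_ h9')
    rw [Nat.add_mod, ← Nat.mul_mod, ← Nat.add_mod]
  obtain ⟨r, hr, hrT, hr3⟩ := hT3
  have hr2 : r ≠ 2 := by
    rintro rfl
    have h0 : T % 2 = 0 := Nat.mod_eq_zero_of_dvd hrT |> fun h => by simpa using h
    have he : Q * Q % 2 = 0 := by rw [Nat.mul_mod, hodd]
    omega
  have hrq := hdiv r hr hr2 hr3 (Or.inr (Or.inr hrT))
  have hpow : ∀ f : ℕ, (f = Q - 1 ∨ f = Q + 1) → ∃ k, f = 3 ^ k := fun f hf =>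
    ⟨_, Nat.eq_prime_pow_of_unique_prime_dvd (by omega) fun {s} hs hd => by
      by_contra hs3
      have hor : s ∣ (Q - 1) ∨ s ∣ (Q + 1) := by
        rcases hf with e' | e' <;> rw [e'] at hd
        exacts [Or.inl hd, Or.inr hd]
      have hs2 : s ≠ 2 := by rintro rfl; omega
      have hsq' := hdiv s hs hs2 hs3 (hor.elim Or.inl fun d => Or.inr (Or.inl d))
      exact hr3 (hgcd r hr hrT (by rw [hrq, ← hsq']; exact hor))⟩
  obtain ⟨k, hk⟩ := hpow (Q + 1) (Or.inr rfl)
  obtain ⟨l, hl⟩ := hpow (Q - 1) (Or.inl rfl)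
  have hk0 : k ≠ 0 := by rintro rfl; rw [pow_zero] at hk; omega
  have := pow_three_succ hk0 (Q - 1) (by omega) l hl
  rw [this] at hk
  omega

/-- The normal four-group of the symmetric group of degree four. -/
def vFour : Subgroup (Equiv.Perm (Fin 4)) where
  carrier := {p | p = 1 ∨ p = Equiv.swap 0 1 * Equiv.swap 2 3 ∨ p = Equiv.swap 0 2 * Equiv.swap 1 3 ∨
    p = Equiv.swap 0 3 * Equiv.swap 1 2}
  one_mem' := Or.inl rfl
  mul_mem' := by
    simp only [Set.mem_ofPred_eq]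
    rintro a b (rfl | rfl | rfl | rfl) (rfl | rfl | rfl | rfl) <;> decide
  inv_mem' := by
    simp only [Set.mem_ofPred_eq]
    rintro a (rfl | rfl | rfl | rfl) <;> decide

instance : vFour.Normal := ⟨by
  intro n hn g
  change n = 1 ∨ _ at hn
  change g * n * g⁻¹ = 1 ∨ _
  rcases hn with rfl | rfl | rfl | rfl <;> revert g <;> decide⟩

/-- A section isomorphic to the symmetric group of degree four gives a 2-local of order divisible by three. -/
theorem exists_local_of_perm_four {G : Type u} [Group G] [Finite G] (H : Subgroup G) (N : Subgroup H)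
    [N.Normal] (e : H ⧸ N ≃* Equiv.Perm (Fin 4)) :
    ∃ P : Subgroup G, IsPGroup 2 P ∧ P ≠ ⊥ ∧ 3 ∣ Nat.card (normalizer (P : Set G)) := by
  haveI : Fact (Nat.Prime 2) := ⟨Nat.prime_two⟩
  let φ : H →* Equiv.Perm (Fin 4) := e.toMonoidHom.comp (QuotientGroup.mk' N)
  have hφ : Function.Surjective φ := e.surjective.comp (QuotientGroup.mk'_surjective _)
  let K := vFour.comap φ
  haveI : K.Normal := Subgroup.Normal.comap inferInstance φ
  have hcard : ∀ p ∈ vFour, p ^ 2 = 1 := by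
    intro p hp
    change p = 1 ∨ _ at hp
    rcases hp with rfl | rfl | rfl | rfl <;> decide
  obtain ⟨P⟩ : Nonempty (Sylow 2 K) := inferInstance
  have htop := Sylow.normalizer_sup_eq_top P
  set PH : Subgroup H := (P : Subgroup K).map K.subtype with hPH
  -- `P` is not trivial
  have hP1 : PH ≠ ⊥ := by
    intro hb
    obtain ⟨h0, hh0⟩ := hφ (Equiv.swap 0 1 * Equiv.swap 2 3)
    have hmem : h0 ∈ K := show φ h0 ∈ vFour by rw [hh0]; exact Or.inr (Or.inl rfl)
    have hodd : ¬ 2 ∣ Nat.card K := by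
      intro h2
      obtain ⟨w, hw⟩ := exists_prime_orderOf_dvd_card' (G := K) 2 h2
      obtain ⟨Q, hQ⟩ := (IsPGroup.of_card (p := 2) (n := 1)
        (show Nat.card (zpowers w) = 2 ^ 1 by rw [Nat.card_zpowers, hw, pow_one])).exists_le_sylow
      have hQ1 : Nat.card (Q : Subgroup K) = 1 := by
        rw [Sylow.card_eq_multiplicity, ← Sylow.card_eq_multiplicity (p := 2) P,
          ← Subgroup.card_map_of_injective K.subtype_injective, ← hPH, hb, card_bot]
      have hw1 : w ∈ (⊥ : Subgroup K) := (Subgroup.card_eq_one.mp hQ1) ▸ hQ (mem_zpowers w)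
      rw [mem_bot.mp hw1, orderOf_one] at hw
      omega
    have hd : orderOf (Equiv.swap (0 : Fin 4) 1 * Equiv.swap 2 3) ∣ Nat.card K := by
      rw [← hh0]
      exact (orderOf_map_dvd φ h0).trans (Subgroup.orderOf_dvd_natCard _ hmem)
    have ho : orderOf (Equiv.swap (0 : Fin 4) 1 * Equiv.swap 2 3) = 2 :=
      orderOf_eq_prime (by decide) (by decide)
    exact hodd (ho ▸ hd)
  refine ⟨PH.map H.subtype, (P.2.map _).map _, fun e' => hP1 ?_, ?_⟩
  · rwa [Subgroup.map_eq_bot_iff_of_injective _ H.subtype_injective] at e'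
  · obtain ⟨h3, hh3⟩ := hφ (Equiv.swap 0 1 * Equiv.swap 1 2)
    have hm : h3 ∈ normalizer (PH : Set H) ⊔ K := by rw [hPH, htop]; exact mem_top _
    obtain ⟨n, hn, k, hk, hnk⟩ := Subgroup.mem_sup_of_normal_right.mp hm
    have ho3 : orderOf (Equiv.swap (0 : Fin 4) 1 * Equiv.swap 1 2) = 3 :=
      haveI : Fact (Nat.Prime 3) := ⟨Nat.prime_three⟩
      orderOf_eq_prime (by decide) (by decide)
    have hn3 : 3 ∣ orderOf (φ n) := by
      have hk' : φ k ∈ vFour := hk
      have key : ∀ a b : Equiv.Perm (Fin 4), a * b = Equiv.swap 0 1 * Equiv.swap 1 2 →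
          (b = 1 ∨ b = Equiv.swap 0 1 * Equiv.swap 2 3 ∨ b = Equiv.swap 0 2 * Equiv.swap 1 3 ∨
            b = Equiv.swap 0 3 * Equiv.swap 1 2) → a ^ 3 = 1 ∧ a ≠ 1 := by decide +kernel
      obtain ⟨h1, h2⟩ := key (φ n) (φ k) (by rw [← map_mul, hnk, hh3]) hk'
      haveI : Fact (Nat.Prime 3) := ⟨Nat.prime_three⟩
      rw [orderOf_eq_prime h1 h2]
    refine (hn3.trans (orderOf_map_dvd φ n)).trans ?_
    rw [← Subgroup.orderOf_coe n]
    refine Subgroup.orderOf_dvd_natCard _ (mem_normalizer_iff.mpr fun g => ?_)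
    constructor
    · rintro ⟨w, hw, rfl⟩
      exact ⟨n * w * n⁻¹, (mem_normalizer_iff.mp hn w).mp hw, rfl⟩
    · rintro ⟨w, hw, hwe⟩
      refine ⟨n⁻¹ * w * n, (mem_normalizer_iff''.mp hn w).mp hw, ?_⟩
      change (n : G)⁻¹ * (w : G) * (n : G) = g
      have hwe' : (w : G) = (n : G) * g * (n : G)⁻¹ := hwe
      rw [hwe']; group

/-- Some 2-local subgroup has order divisible by three. -/
theorem Setting.exists_three_local (D : Setting G) :
    ∃ P : Subgroup G, IsPGroup 2 P ∧ P ≠ ⊥ ∧ 3 ∣ Nat.card (normalizer (P : Set G)) := by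
  haveI : Fact (Nat.Prime 2) := ⟨Nat.prime_two⟩
  by_contra hno
  push_neg at hno
  have hfree : ¬ Cfsg.Involves (Equiv.Perm (Fin 4)) G := by
    rintro ⟨H, N, hN, ⟨e⟩⟩
    obtain ⟨P, hP, hP1, h3⟩ := exists_local_of_perm_four H (N.subgroupOf H) e
    exact hno P hP hP1 h3
  rcases (Cfsg.Agent.S2754.result D.hna).mp hfree with
    h | ⟨F, i, j, n, hn, hF, ⟨e⟩⟩ | h | ⟨F, i, j, n, hn, hF, ⟨e⟩⟩ | ⟨F, i, j, q, hq, h5, hmod, ⟨e⟩⟩ | h
  · obtain ⟨-, -, t, K, n, hn, ht, -, hdir, F, i, j, hF, ⟨e⟩⟩ := h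
    refine D.not_three_dvd_centralizer t ht (dvd_trans ?_ (Subgroup.card_dvd_of_le hdir.2.1))
    have hp2 := CfsgLib.Classical.card_psl2 (F := F)
    rw [← Nat.card_congr e.toEquiv, hF] at hp2
    have h3 : 3 ∣ Nat.gcd 2 (3 ^ (2 * n + 1) - 1) * Nat.card K := by
      rw [hp2]; exact (dvd_pow_self 3 (by omega)).mul_right _
    rcases Nat.prime_three.dvd_mul.mp h3 with d | d
    · exact absurd (d.trans (Nat.gcd_dvd_left _ _)) (by norm_num)
    · exact d
  · exact D.not_psl (fun d => by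
      have := Nat.prime_three.dvd_of_dvd_pow (hF ▸ d); norm_num at this) e
  · exact D.not_suzuki h
  · exact D.not_psu hn hF e
  · by_cases h3 : 3 ∣ Fintype.card F
    swap
    · exact D.not_psl h3 e
    rcases D.psl_three h3 e with h' | h' <;> omega
  · obtain ⟨e⟩ := h
    have hc := Nat.card_congr e.toEquiv
    rw [CfsgLib.Char.J1.card_eq] at hc
    have h9 := D.nine_dvd
    rw [hc] at h9
    norm_num at h9

end CfsgLib.NineAmalgam
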