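import Cfsg.Agent.Lib.SmallSimple.NineAmalgam.Setting
import Cfsg.Agent.Lib.Char.Burnside
import Cfsg.Agent.Lib.Coprime.Component
import Cfsg.Agent.Lib.GW.Setting
import Cfsg.Agent.S1296

/-!
# Elementary consequences of the setting
-/

set_option autoImplicit false
set_option linter.unusedSectionVars false
set_option linter.style.haveILetI false

namespace CfsgLib.NineAmalgam

open Subgroup

universe u

/-- A subgroup of order prime to three is soluble. -/
theorem solvable_of_not_three {G : Type u} [Group G] [Finite G] (D : Setting G) {H : Subgroup G}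
    (h3 : ¬ 3 ∣ Nat.card H) : Group.IsSolvable H := by
  have hcop : Nat.Coprime (Nat.card H) 9 := by
    simpa using ((Nat.prime_three.coprime_iff_not_dvd.mpr h3).symm).pow_right 2
  have hd : Nat.card H ∣ 2 ^ D.a * D.q ^ D.b := hcop.dvd_of_dvd_mul_left (by
    rw [← mul_assoc, ← D.hcard]; exact H.card_subgroup_dvd_card)
  obtain ⟨c1, c2, h1, h2, e⟩ := Nat.dvd_mul.mp hd
  obtain ⟨i, -, rfl⟩ := (Nat.dvd_prime_pow Nat.prime_two).mp h1
  obtain ⟨j, -, rfl⟩ := (Nat.dvd_prime_pow D.hq).mp h2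
  exact CfsgLib.Char.isSolvable_of_card_two_primes Nat.prime_two D.hq H i j e.symm

variable {G : Type u} [Group G] [Finite G]

/-- The centralizer of an element of order three is a 3-group. -/
theorem Setting.cent3 (D : Setting G) (y : G) (hy : orderOf y = 3) :
    IsPGroup 3 (centralizer ({y} : Set G)) := by
  haveI : Fact (Nat.Prime 3) := ⟨Nat.prime_three⟩
  obtain ⟨T, hT⟩ := (IsPGroup.of_card (p := 3) (n := 1)
    (show Nat.card (zpowers y) = 3 ^ 1 by rw [Nat.card_zpowers, hy, pow_one])).exists_le_sylow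
  obtain ⟨g, hg⟩ := MulAction.exists_smul_eq G D.R T
  have hm := hT (mem_zpowers y)
  rw [← hg, Sylow.coe_subgroup_smul] at hm
  obtain ⟨k, hk, hky⟩ := hm
  change g * k * g⁻¹ = y at hky
  have hk1 : k ≠ 1 := by
    rintro rfl
    rw [mul_one, mul_inv_cancel] at hky
    rw [← hky, orderOf_one] at hy
    omega
  have hCk := D.hR k hk hk1
  have hle : centralizer ({y} : Set G) ≤
      (D.R : Subgroup G).map (MulAut.conj g).toMonoidHom := fun c hc => by
    rw [← hCk]
    refine ⟨g⁻¹ * c * g, mem_centralizer_singleton_iff.mpr ?_, by simp [mul_assoc]⟩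
    have hc' := mem_centralizer_singleton_iff.mp hc
    rw [← hky] at hc'
    calc g⁻¹ * c * g * k = g⁻¹ * (c * (g * k * g⁻¹)) * g := by group
      _ = g⁻¹ * ((g * k * g⁻¹) * c) * g := by rw [hc']
      _ = k * (g⁻¹ * c * g) := by group
  exact ((D.R.2).map _).to_le hle

/-- Involution centralizers have order prime to three. -/
theorem Setting.not_three_dvd_centralizer (D : Setting G) (t : G) (ht : orderOf t = 2) :
    ¬ 3 ∣ Nat.card (centralizer ({t} : Set G)) := by
  haveI : Fact (Nat.Prime 3) := ⟨Nat.prime_three⟩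
  intro h
  obtain ⟨y, hy⟩ := exists_prime_orderOf_dvd_card' 3 h
  have hy' : orderOf (y : G) = 3 := by rw [Subgroup.orderOf_coe, hy]
  have hty : t ∈ centralizer ({(y : G)} : Set G) :=
    mem_centralizer_singleton_iff.mpr (mem_centralizer_singleton_iff.mp y.2).symm
  obtain ⟨i, hi⟩ := (IsPGroup.iff_orderOf.mp (D.cent3 _ hy')) ⟨t, hty⟩
  rw [Subgroup.orderOf_mk, ht] at hi
  rcases Nat.eq_zero_or_pos i with rfl | hpos
  · norm_num at hi
  · have : 3 ∣ 2 := hi ▸ dvd_pow_self 3 hpos.ne'
    norm_num at this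

theorem Setting.solvable_centralizer (D : Setting G) (t : G) (ht : orderOf t = 2) :
    Group.IsSolvable (centralizer ({t} : Set G)) :=
  solvable_of_not_three D (D.not_three_dvd_centralizer t ht)

theorem Setting.R_comm (D : Setting G) {r r' : G} (hr : r ∈ (D.R : Subgroup G))
    (hr' : r' ∈ (D.R : Subgroup G)) : r * r' = r' * r := by
  by_cases h1 : r' = 1
  · rw [h1, mul_one, one_mul]
  · exact mem_centralizer_singleton_iff.mp ((D.hR r' hr' h1).symm ▸ hr)

/-- An involution normalizing `R` inverts it. -/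
theorem Setting.inverts (D : Setting G) {t : G} (ht : orderOf t = 2)
    (htN : t ∈ normalizer ((D.R : Subgroup G) : Set G)) {r : G} (hr : r ∈ (D.R : Subgroup G)) :
    t * r * t⁻¹ = r⁻¹ := by
  have htr : t * r * t⁻¹ ∈ (D.R : Subgroup G) := (mem_normalizer_iff.mp htN r).mp hr
  have ht2 : t * t = 1 := by rw [← pow_two, ← ht, pow_orderOf_eq_one]
  by_contra hne
  have hw : r * (t * r * t⁻¹) ≠ 1 := fun e => hne (eq_inv_of_mul_eq_one_right e)
  have hwR : r * (t * r * t⁻¹) ∈ (D.R : Subgroup G) := mul_mem hr htr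
  have htt : t * (t * r * t⁻¹) * t⁻¹ = r := by
    rw [show t * (t * r * t⁻¹) * t⁻¹ = (t * t) * r * (t * t)⁻¹ by group, ht2]
    simp
  have hcomm : t * (r * (t * r * t⁻¹)) = r * (t * r * t⁻¹) * t := by
    have e : t * (r * (t * r * t⁻¹)) * t⁻¹ = r * (t * r * t⁻¹) := by
      rw [show t * (r * (t * r * t⁻¹)) * t⁻¹ = (t * r * t⁻¹) * (t * (t * r * t⁻¹) * t⁻¹) by group, htt]
      exact D.R_comm htr hr
    exact mul_inv_eq_iff_eq_mul.mp e
  have htR : t ∈ (D.R : Subgroup G) := by
    rw [← D.hR _ hwR hw]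
    exact mem_centralizer_singleton_iff.mpr hcomm
  have h3 := orderOf_dvd_of_pow_eq_one (D.hR3 t htR)
  rw [ht] at h3
  norm_num at h3

/-- Two involutions normalizing `R` differ by an element of `R`. -/
theorem Setting.invol_mul_mem (D : Setting G) {t t' : G} (ht : orderOf t = 2) (ht' : orderOf t' = 2)
    (htN : t ∈ normalizer ((D.R : Subgroup G) : Set G))
    (htN' : t' ∈ normalizer ((D.R : Subgroup G) : Set G)) : t * t' ∈ (D.R : Subgroup G) := by
  have hR1 : ∃ r ∈ (D.R : Subgroup G), r ≠ 1 := by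
    by_contra h
    push_neg at h
    have : (D.R : Subgroup G) = ⊥ := eq_bot_iff.mpr fun r hr => mem_bot.mpr (h r hr)
    have h9 := D.hR9
    rw [this, card_bot] at h9
    omega
  obtain ⟨r, hr, hr1⟩ := hR1
  rw [← D.hR r hr hr1]
  refine mem_centralizer_singleton_iff.mpr ?_
  have e1 := D.inverts ht' htN' hr
  have e2 := D.inverts ht htN (inv_mem hr)
  rw [inv_inv] at e2
  refine mul_inv_eq_iff_eq_mul.mp ?_
  rw [show t * t' * r * (t * t')⁻¹ = t * (t' * r * t'⁻¹) * t⁻¹ by group, e1, e2]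

/-- A Sylow 2-subgroup of `N(R)` : order eight with a unique involution. -/
theorem Setting.exists_eight (D : Setting G) :
    ∃ E : Subgroup G, IsPGroup 2 E ∧ Nat.card E = 8 ∧
      ∀ t ∈ E, ∀ t' ∈ E, orderOf t = 2 → orderOf t' = 2 → t = t' := by
  haveI : Fact (Nat.Prime 2) := ⟨Nat.prime_two⟩
  set N := normalizer ((D.R : Subgroup G) : Set G) with hN
  have hcard : Nat.card N = 9 * 8 := by
    rw [← D.hR9, ← D.hE, mul_comm, Subgroup.relIndex, ← Nat.card_congr
      (subgroupOfEquivOfLe (le_normalizer : (D.R : Subgroup G) ≤ N)).toEquiv, mul_comm,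
      Subgroup.card_mul_index]
  obtain ⟨P⟩ : Nonempty (Sylow 2 N) := inferInstance
  have hP : Nat.card (P : Subgroup N) = 8 := by
    rw [Sylow.card_eq_multiplicity, hcard, show (9 * 8 : ℕ) = 2 ^ 3 * 9 by norm_num,
      Nat.factorization_mul (by norm_num) (by norm_num), Finsupp.add_apply,
      Nat.prime_two.factorization_pow, Finsupp.single_eq_same,
      Nat.factorization_eq_zero_of_not_dvd (by norm_num : ¬ 2 ∣ 9)]
    norm_num
  have hE8 : Nat.card ↥((P : Subgroup N).map N.subtype) = 8 := by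
    rw [Subgroup.card_map_of_injective N.subtype_injective, hP]
  refine ⟨(P : Subgroup N).map N.subtype, P.2.map _, hE8, fun t htE t' htE' ht ht' => ?_⟩
  have hm := D.invol_mul_mem ht ht' (map_subtype_le _ htE) (map_subtype_le _ htE')
  have h3 := orderOf_dvd_of_pow_eq_one (D.hR3 _ hm)
  have h8 : orderOf (t * t') ∣ 8 := hE8 ▸ Subgroup.orderOf_dvd_natCard _ (mul_mem htE htE')
  have h1 : orderOf (t * t') = 1 := Nat.eq_one_of_dvd_coprimes (show Nat.Coprime 3 8 by norm_num) h3 h8
  have e := orderOf_eq_one_iff.mp h1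
  rw [eq_inv_of_mul_eq_one_left e]
  exact inv_eq_of_mul_eq_one_right (by rw [← pow_two, ← ht', pow_orderOf_eq_one])

/-- A Sylow 2-subgroup of order eight has a single involution. -/
theorem Setting.unique_invol (D : Setting G) (S : Sylow 2 G) (hS : Nat.card (S : Subgroup G) = 8)
    (t t' : G) (ht : t ∈ (S : Subgroup G)) (ht' : t' ∈ (S : Subgroup G)) (h2 : orderOf t = 2)
    (h2' : orderOf t' = 2) : t = t' := by
  haveI : Fact (Nat.Prime 2) := ⟨Nat.prime_two⟩
  obtain ⟨E, hE, hE8, huniq⟩ := D.exists_eight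
  obtain ⟨T, hT⟩ := hE.exists_le_sylow
  obtain ⟨g, hg⟩ := MulAction.exists_smul_eq G S T
  have hT8 : Nat.card (T : Subgroup G) = 8 := by
    rw [Sylow.card_eq_multiplicity, ← Sylow.card_eq_multiplicity (p := 2) S, hS]
  have hET : E = (T : Subgroup G) := eq_of_le_of_card_ge hT (by rw [hT8, hE8])
  have hmem : ∀ s ∈ (S : Subgroup G), g * s * g⁻¹ ∈ E := fun s hs => by
    rw [hET, ← hg, Sylow.coe_subgroup_smul]
    exact ⟨s, hs, rfl⟩
  have := huniq _ (hmem t ht) _ (hmem t' ht') ((MulEquiv.orderOf_eq (MulAut.conj g) t).trans h2)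
    ((MulEquiv.orderOf_eq (MulAut.conj g) t').trans h2')
  exact mul_left_cancel (mul_right_cancel this)

/-- The Sylow 2-subgroups are not elementary abelian. -/
theorem Setting.not_exp_two (D : Setting G) (S : Sylow 2 G) :
    ¬ ∀ s ∈ (S : Subgroup G), s ^ 2 = 1 := by
  haveI : Fact (Nat.Prime 2) := ⟨Nat.prime_two⟩
  intro h
  obtain ⟨E, hE, hE8, huniq⟩ := D.exists_eight
  obtain ⟨T, hT⟩ := hE.exists_le_sylow
  obtain ⟨g, hg⟩ := MulAction.exists_smul_eq G S T
  have hinv : ∀ e ∈ E, e ≠ 1 → orderOf e = 2 := fun e he he1 => by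
    have hm := hT he
    rw [← hg, Sylow.coe_subgroup_smul] at hm
    obtain ⟨s, hs, rfl⟩ := hm
    refine orderOf_eq_prime ?_ he1
    change (g * s * g⁻¹) ^ 2 = 1
    rw [conj_pow, h s hs]
    group
  obtain ⟨t, ht1⟩ := exists_prime_orderOf_dvd_card' (G := E) 2 (by rw [hE8]; norm_num)
  have hsub : ∀ e : E, e = 1 ∨ e = t := fun e => by
    by_cases h1 : (e : G) = 1
    · exact Or.inl (Subtype.ext h1)
    · exact Or.inr (Subtype.ext (huniq _ e.2 _ t.2 (hinv _ e.2 h1) (by rw [Subgroup.orderOf_coe, ht1])))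
  classical
  have hle : Nat.card E ≤ 2 :=
    le_of_le_of_eq (Nat.card_le_card_of_injective (fun e : E => decide (e = 1)) fun x y hxy => by
      rcases hsub x with hx | hx <;> rcases hsub y with hy | hy <;> simp_all) (by simp)
  omega

variable [IsSimpleGroup G]

theorem Setting.two_dvd (D : Setting G) : 2 ∣ Nat.card G := by
  obtain ⟨E, hE, hE8, -⟩ := D.exists_eight
  exact (by norm_num : (2 : ℕ) ∣ 8).trans (hE8 ▸ E.card_subgroup_dvd_card)

theorem Setting.not_solvable (D : Setting G) : ¬ Group.IsSolvable G := fun h =>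
  D.hna ⟨⟨IsSimpleGroup.comm_iff_isSolvable.2 h⟩⟩

theorem Setting.not_index_two (D : Setting G) (N : Subgroup G) [hN : N.Normal] : N.index ≠ 2 := by
  intro h
  rcases hN.eq_bot_or_eq_top with e | e
  · rw [e, index_bot] at h
    exact D.not_solvable (CfsgLib.Char.isSolvable_of_card_two_primes Nat.prime_two Nat.prime_three G 1 0
      (by rw [h]; norm_num))
  · rw [e, index_top] at h
    omega

theorem Setting.oddCore_eq_bot (D : Setting G) : Cfsg.oddCore G = ⊥ := by
  haveI : Fact (Nat.Prime 2) := ⟨Nat.prime_two⟩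
  refine (Normal.eq_bot_or_eq_top inferInstance).resolve_right fun e => ?_
  have h1 := CfsgLib.GW.odd_oddCore G
  rw [e, card_top] at h1
  exact h1.not_two_dvd_nat D.two_dvd

/-- Given 2-rank at least three, `G` is of characteristic 2 type. -/
theorem Setting.charTwo_of_rank (D : Setting G) (hr : ¬ Cfsg.PRankLE 2 2 G) :
    Cfsg.IsCharacteristicTwoType G := by
  rcases Cfsg.Agent.S1296.result (even_iff_two_dvd.mpr D.two_dvd)
    (fun N hN => by haveI := hN; exact D.not_index_two N) D.oddCore_eq_bot with h | h | h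
  · exact absurd h hr
  · obtain ⟨t, ht, K, -, hK⟩ := h
    haveI := D.solvable_centralizer t ht
    have hs : Group.IsSolvable K := inferInstance
    exact absurd hs (CfsgLib.Coprime.not_isSolvable_of_isQuasisimple hK)
  · exact h

end CfsgLib.NineAmalgam
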