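import Cfsg.Agent.Lib.SmallSimple.NineAmalgam.Locals
import Cfsg.Agent.Lib.Coprime.Action
import Cfsg.Agent.Lib.PGroup.Basic
import Cfsg.Agent.S3331

/-!
# 2-local subgroups containing elements of order three (all `q ≥ 5`)

In the setting of S2220 a 2-local with order divisible by three is `K : 3`, `K : S₃` or, for `q = 5`,
`K : A₅` with `K` free of fixed points for the elements of order three; in the last case its Sylow
2-subgroup is normalized by an element of order three.  None of them contains an element of order `q`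
commuting with an involution.
-/

set_option autoImplicit false
set_option linter.unusedSectionVars false
set_option linter.style.haveILetI false

namespace CfsgLib.NineAmalgam

open Subgroup

universe u

/-- `H` contains an element of order `q` commuting with an involution. -/
def HasPair {G : Type*} [Group G] (q : ℕ) (H : Subgroup G) : Prop :=
  ∃ g t : G, g ∈ H ∧ t ∈ H ∧ orderOf g = q ∧ orderOf t = 2 ∧ Commute g t

theorem HasPair.mono {G : Type*} [Group G] {q : ℕ} {H H' : Subgroup G} (h : HasPair q H) (hle : H ≤ H') :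
    HasPair q H' := by
  obtain ⟨g, t, hg, ht, h1, h2, h3⟩ := h
  exact ⟨g, t, hle hg, hle ht, h1, h2, h3⟩

namespace AltFive

local notation "A₅" => alternatingGroup (Fin 5)

/-- A five-cycle. -/
def g0 : A₅ := ⟨Equiv.swap 0 1 * Equiv.swap 1 2 * Equiv.swap 2 3 * Equiv.swap 3 4,
  Equiv.Perm.mem_alternatingGroup.2 (by decide)⟩

/-- A three-cycle. -/
def c1 : A₅ := ⟨Equiv.swap 2 3 * Equiv.swap 3 4, Equiv.Perm.mem_alternatingGroup.2 (by decide)⟩

/-- A three-cycle. -/
def c2 : A₅ := ⟨Equiv.swap 1 2 * Equiv.swap 2 4, Equiv.Perm.mem_alternatingGroup.2 (by decide)⟩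

/-- A three-cycle. -/
def c3 : A₅ := ⟨Equiv.swap 0 2 * Equiv.swap 2 4, Equiv.Perm.mem_alternatingGroup.2 (by decide)⟩

/-- An element commuting with the five-cycle has fifth power one. -/
theorem pow_five_of_commute : ∀ a : A₅, a * g0 = g0 * a → a ^ 5 = 1 := by decide +kernel

/-- An involution. -/
def t1 : A₅ := ⟨Equiv.swap 0 1 * Equiv.swap 2 3, Equiv.Perm.mem_alternatingGroup.2 (by decide)⟩

/-- An involution. -/
def t2 : A₅ := ⟨Equiv.swap 0 2 * Equiv.swap 1 3, Equiv.Perm.mem_alternatingGroup.2 (by decide)⟩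

/-- An involution. -/
def t3 : A₅ := ⟨Equiv.swap 0 3 * Equiv.swap 1 2, Equiv.Perm.mem_alternatingGroup.2 (by decide)⟩

theorem four_mul : ∀ a ∈ ({1, t1, t2, t3} : Finset A₅), ∀ b ∈ ({1, t1, t2, t3} : Finset A₅),
    a * b ∈ ({1, t1, t2, t3} : Finset A₅) := by decide +kernel

/-- A four-group. -/
def four : Subgroup A₅ where
  carrier := ({1, t1, t2, t3} : Finset A₅)
  mul_mem' := fun {a b} ha hb => Finset.mem_coe.2 (four_mul a (Finset.mem_coe.1 ha) b (Finset.mem_coe.1 hb))
  one_mem' := Finset.mem_coe.2 (Finset.mem_insert_self _ _)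
  inv_mem' := fun {a} ha => by
    have h : ∀ a ∈ ({1, t1, t2, t3} : Finset A₅), a⁻¹ ∈ ({1, t1, t2, t3} : Finset A₅) := by decide +kernel
    exact Finset.mem_coe.2 (h a (Finset.mem_coe.1 ha))

/-- The three-cycle fixing the letter four. -/
def c4 : A₅ := ⟨Equiv.swap 0 1 * Equiv.swap 1 2, Equiv.Perm.mem_alternatingGroup.2 (by decide)⟩

theorem card_four : Nat.card four = 4 := by
  rw [← SetLike.coe_sort_coe, Nat.card_coe_set_eq]
  change Set.ncard (({1, t1, t2, t3} : Finset A₅) : Set A₅) = 4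
  rw [Set.ncard_coe_finset]
  decide +kernel

theorem conj_four {a : A₅} (ha : a ∈ four) : c4 * a * c4⁻¹ ∈ four := by
  have h : ∀ a ∈ ({1, t1, t2, t3} : Finset A₅), c4 * a * c4⁻¹ ∈ ({1, t1, t2, t3} : Finset A₅) := by
    decide +kernel
  exact Finset.mem_coe.2 (h a (Finset.mem_coe.1 ha))

theorem sq_four {a : A₅} (ha : a ∈ four) : a ^ 2 = 1 := by
  have h : ∀ a ∈ ({1, t1, t2, t3} : Finset A₅), a ^ 2 = 1 := by decide +kernel
  exact h a (Finset.mem_coe.1 ha)

/-- Every element of order five becomes the five-cycle after an automorphism. -/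
theorem exists_aut {a : A₅} (ha : orderOf a = 5) : ∃ f : MulAut A₅, f a = g0 := by
  haveI : Fact (Nat.Prime 5) := ⟨by norm_num⟩
  have h5 : ∀ p : Equiv.Perm (Fin 5), orderOf p = 5 → p.cycleType = {5} := fun p hp => by
    obtain ⟨n, hn⟩ := Equiv.Perm.cycleType_prime_order (σ := p) (by rw [hp]; norm_num)
    have hs := Equiv.Perm.sum_cycleType p
    have hle : p.support.card ≤ 5 := (Finset.card_le_univ _).trans_eq (Fintype.card_fin 5)
    rw [hn, hp, Multiset.sum_replicate, smul_eq_mul] at hs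
    have : n = 0 := by omega
    rw [hn, hp, this]
    rfl
  have hg : orderOf g0 = 5 := orderOf_eq_prime (by decide) (by decide)
  obtain ⟨c, hc⟩ := isConj_iff.1 (Equiv.Perm.isConj_iff_cycleType_eq.2
    ((h5 _ ((Subgroup.orderOf_coe a).trans ha)).trans (h5 _ ((Subgroup.orderOf_coe g0).trans hg)).symm))
  exact ⟨MulAut.conjNormal c, Subtype.ext (by rw [MulAut.conjNormal_apply]; exact hc)⟩

/-- In an extension of an abelian group of exponent two by `A₅` in which the elements of order three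
act fixed-point-freely, so do the elements of order five. -/
theorem eq_one_of_commute {N : Type*} [Group N] (π : N →* A₅) (hπ : Function.Surjective π)
    (hab : ∀ u ∈ π.ker, ∀ w ∈ π.ker, u * w = w * u) (hsq : ∀ u ∈ π.ker, u * u = 1)
    (hfree : ∀ y : N, orderOf y = 3 → ∀ u ∈ π.ker, y * u = u * y → u = 1)
    {g : N} (hg : π g = g0) {v : N} (hv : v ∈ π.ker) (hgv : g * v = v * g) : v = 1 := by
  have hwd : ∀ a b : N, π a = π b → ∀ u ∈ π.ker, a * u * a⁻¹ = b * u * b⁻¹ := fun a b e u hu => by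
    have hd : b⁻¹ * a ∈ π.ker := by rw [MonoidHom.mem_ker, map_mul, map_inv, e, inv_mul_cancel]
    calc a * u * a⁻¹ = b * ((b⁻¹ * a) * u * (b⁻¹ * a)⁻¹) * b⁻¹ := by group
      _ = b * u * b⁻¹ := by rw [hab _ hd u hu, mul_inv_cancel_right]
  have hker : ∀ (y u : N), u ∈ π.ker → y * u * y⁻¹ ∈ π.ker := fun y u hu =>
    (π.normal_ker).conj_mem u hu y
  have lift : ∀ c : A₅, c ^ 3 = 1 → c ≠ 1 → ∃ y : N, π y = c ∧ orderOf y = 3 := by
    intro c hc hc1
    obtain ⟨a, ha⟩ := hπ c
    have h3 : a ^ 3 ∈ π.ker := by rw [MonoidHom.mem_ker, map_pow, ha, hc]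
    refine ⟨a ^ 4, ?_, orderOf_eq_prime (hp := ⟨Nat.prime_three⟩) ?_ ?_⟩
    · rw [map_pow, ha, pow_succ, hc, one_mul]
    · rw [← pow_mul, show 4 * 3 = 3 * 2 * 2 by norm_num, pow_mul, pow_mul]
      have h2 : (a ^ 3) ^ 2 = 1 := (pow_two _).trans (hsq _ h3)
      rw [h2, one_pow]
    · intro e
      apply hc1
      have := congrArg π e
      rwa [map_pow, ha, pow_succ, hc, one_mul, map_one] at this
  have norm3 : ∀ y : N, orderOf y = 3 → ∀ u ∈ π.ker,
      u * (y * u * y⁻¹) * (y * (y * u * y⁻¹) * y⁻¹) = 1 := by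
    intro y hy u hu
    have h3 : y * y * y = 1 := by
      have h := pow_orderOf_eq_one y
      rwa [hy, pow_succ, pow_two] at h
    have h1 := hker y u hu
    have h2 := hker y _ h1
    refine hfree y hy _ (mul_mem (mul_mem hu h1) h2) ?_
    refine mul_inv_eq_iff_eq_mul.1 ?_
    calc y * (u * (y * u * y⁻¹) * (y * (y * u * y⁻¹) * y⁻¹)) * y⁻¹
        = (y * u * y⁻¹) * (y * (y * u * y⁻¹) * y⁻¹) * ((y * y * y) * u * (y * y * y)⁻¹) := by group
      _ = u * (y * u * y⁻¹) * (y * (y * u * y⁻¹) * y⁻¹) := by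
          rw [h3, inv_one, one_mul, mul_one, hab _ (mul_mem h1 h2) u hu, mul_assoc u]
  obtain ⟨y1, e1, o1⟩ := lift c1 (by decide) (by decide)
  obtain ⟨y2, e2, o2⟩ := lift c2 (by decide) (by decide)
  obtain ⟨y3, e3, o3⟩ := lift c3 (by decide) (by decide)
  have hgi : ∀ i : ℕ, g ^ i * v * (g ^ i)⁻¹ = v := fun i => by
    rw [((Commute.pow_left hgv i)).eq, mul_inv_cancel_right]
  have r1 := norm3 y1 o1 v hv
  have r2 := norm3 y2 o2 v hv
  have r3 := norm3 y3 o3 v hv
  -- conjugate the third relation by `y1²`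
  have r3' : (y1 * y1) * v * (y1 * y1)⁻¹ * ((y1 * y1 * y3) * v * (y1 * y1 * y3)⁻¹) *
      ((y1 * y1 * y3 * y3) * v * (y1 * y1 * y3 * y3)⁻¹) = 1 := by
    calc (y1 * y1) * v * (y1 * y1)⁻¹ * ((y1 * y1 * y3) * v * (y1 * y1 * y3)⁻¹) *
        ((y1 * y1 * y3 * y3) * v * (y1 * y1 * y3 * y3)⁻¹)
        = (y1 * y1) * (v * (y3 * v * y3⁻¹) * (y3 * (y3 * v * y3⁻¹) * y3⁻¹)) * (y1 * y1)⁻¹ := by group
      _ = 1 := by rw [r3, mul_one, mul_inv_cancel]
  have q1 : (y1 * y1 * y3) * v * (y1 * y1 * y3)⁻¹ = y2 * (y2 * v * y2⁻¹) * y2⁻¹ := by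
    rw [show y2 * (y2 * v * y2⁻¹) * y2⁻¹ = (y2 * y2) * v * (y2 * y2)⁻¹ by group,
      hwd (y2 * y2) (y1 * y1 * y3 * g ^ 4) (by
        simp only [map_mul, map_pow, e1, e2, e3, hg]; decide) v hv,
      show (y1 * y1 * y3 * g ^ 4) * v * (y1 * y1 * y3 * g ^ 4)⁻¹
        = (y1 * y1 * y3) * (g ^ 4 * v * (g ^ 4)⁻¹) * (y1 * y1 * y3)⁻¹ by group, hgi]
  have q2 : (y1 * y1 * y3 * y3) * v * (y1 * y1 * y3 * y3)⁻¹ = y2 * v * y2⁻¹ := by
    rw [hwd y2 (y1 * y1 * y3 * y3 * g ^ 2) (by
        simp only [map_mul, map_pow, e1, e2, e3, hg]; decide) v hv,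
      show (y1 * y1 * y3 * y3 * g ^ 2) * v * (y1 * y1 * y3 * y3 * g ^ 2)⁻¹
        = (y1 * y1 * y3 * y3) * (g ^ 2 * v * (g ^ 2)⁻¹) * (y1 * y1 * y3 * y3)⁻¹ by group, hgi]
  rw [q1, q2, show (y1 * y1) * v * (y1 * y1)⁻¹ = y1 * (y1 * v * y1⁻¹) * y1⁻¹ by group] at r3'
  have k1 := hker y1 v hv
  have k1' := hker y1 _ k1
  have k2 := hker y2 v hv
  have k2' := hker y2 _ k2
  -- the product of the two images under `y2` is `v`
  have hB : y2 * (y2 * v * y2⁻¹) * y2⁻¹ * (y2 * v * y2⁻¹) = v := by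
    rw [hab _ k2' _ k2]
    rw [mul_assoc] at r2
    rw [eq_inv_of_mul_eq_one_right r2, inv_eq_of_mul_eq_one_right (hsq v hv)]
  rw [mul_assoc, hB] at r3'
  have hA : y1 * (y1 * v * y1⁻¹) * y1⁻¹ = v :=
    mul_right_cancel (r3'.trans (hsq v hv).symm)
  rw [hA, hab v hv _ k1, mul_assoc, hsq v hv, mul_one] at r1
  exact mul_left_cancel (a := y1) (by rw [mul_one]; exact mul_inv_eq_one.1 r1)

end AltFive

variable {G : Type u} [Group G] [Finite G]

/-- An element of order three of a 2-local lies in a Sylow 3-subgroup of order three. -/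
theorem Setting.not_nine_dvd_local (D : Setting G) {P : Subgroup G} (hP : IsPGroup 2 P) (hP1 : P ≠ ⊥) :
    ¬ 9 ∣ Nat.card (normalizer (P : Set G)) := by
  haveI : Fact (Nat.Prime 3) := ⟨Nat.prime_three⟩
  intro h9
  obtain ⟨Q, hQ⟩ := Sylow.exists_subgroup_card_pow_prime (G := normalizer (P : Set G)) 3 (n := 2)
    (by simpa using h9)
  set A : Subgroup G := Q.map (normalizer (P : Set G)).subtype with hA
  have hA9 : Nat.card A = 9 := by
    rw [hA, card_map_of_injective (Subgroup.subtype_injective _), hQ]; norm_num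
  have hAp : IsPGroup 3 A := IsPGroup.of_card (n := 2) (by rw [hA9]; norm_num)
  obtain ⟨T, hT⟩ := hAp.exists_le_sylow
  obtain ⟨c, hc⟩ := MulAction.exists_smul_eq G D.R T
  have hmem : ∀ a ∈ A, ∃ r ∈ (D.R : Subgroup G), c * r * c⁻¹ = a := fun a ha => by
    have := hT ha
    rw [← hc, Sylow.coe_subgroup_smul] at this
    obtain ⟨r, hr, rfl⟩ := this
    exact ⟨r, hr, rfl⟩
  have hord : ∀ a ∈ A, a ≠ 1 → orderOf a = 3 := fun a ha ha1 => by
    obtain ⟨r, hr, rfl⟩ := hmem a ha
    exact orderOf_eq_prime (by rw [conj_pow, D.hR3 r hr, mul_one, mul_inv_cancel]) ha1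
  haveI hcomm : IsMulCommutative A := ⟨⟨fun a b => Subtype.ext (by
    obtain ⟨r, hr, e1⟩ := hmem _ a.2
    obtain ⟨r', hr', e2⟩ := hmem _ b.2
    show (a : G) * b = b * a
    rw [← e1, ← e2, show c * r * c⁻¹ * (c * r' * c⁻¹) = c * (r * r') * c⁻¹ by group, D.R_comm hr hr']
    group)⟩⟩
  have hnc : ¬ IsCyclic A := fun hcy => by
    obtain ⟨a, ha⟩ := isCyclic_iff_exists_orderOf_eq_natCard.1 hcy
    rw [hA9, ← Subgroup.orderOf_coe] at ha
    by_cases h1 : (a : G) = 1
    · rw [h1, orderOf_one] at ha; omega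
    · rw [hord _ a.2 h1] at ha; omega
  obtain ⟨k, hk⟩ := hP.exists_card_eq
  refine hP1 (eq_bot_iff.2 (CfsgLib.Coprime.le_of_centralizers_le hnc ?_ ?_ fun a ha ha1 => ?_))
  · exact map_subtype_le _
  · rw [hA9, hk]
    exact Nat.Coprime.pow_right k (by norm_num)
  · intro y hy
    rw [mem_bot]
    have hy3 : orderOf y ∣ 1 := by
      obtain ⟨i, hi⟩ := (IsPGroup.iff_orderOf.1 (D.cent3 a (hord a ha ha1))) ⟨y, hy.2⟩
      obtain ⟨j, hj⟩ := (IsPGroup.iff_orderOf.1 hP) ⟨y, hy.1⟩
      rw [Subgroup.orderOf_mk] at hi hj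
      have hg : Nat.gcd (3 ^ i) (2 ^ j) = 1 := Nat.Coprime.pow i j (by norm_num)
      rw [← hg, ← hi, ← hj, Nat.gcd_self]
    exact orderOf_eq_one_iff.1 (Nat.dvd_one.1 hy3)

/-- A self-centralizing subgroup of order three in a 2-local with order divisible by three. -/
theorem Setting.exists_selfCentralizing (D : Setting G) {P : Subgroup G} (hP : IsPGroup 2 P) (hP1 : P ≠ ⊥)
    (h3 : 3 ∣ Nat.card (normalizer (P : Set G))) :
    ∃ X : Subgroup (normalizer (P : Set G)), Nat.card X = 3 ∧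
      centralizer (X : Set (normalizer (P : Set G))) = X := by
  haveI : Fact (Nat.Prime 3) := ⟨Nat.prime_three⟩
  obtain ⟨y, hy⟩ := exists_prime_orderOf_dvd_card' 3 h3
  have hc : Nat.card (zpowers y) = 3 := by rw [Nat.card_zpowers, hy]
  refine ⟨zpowers y, hc, ?_⟩
  set C := centralizer ((zpowers y : Subgroup _) : Set (normalizer (P : Set G))) with hC
  have hle : zpowers y ≤ C := zpowers_le.2 (mem_centralizer_iff.2 fun z hz => by
    obtain ⟨i, rfl⟩ := mem_zpowers_iff.1 hz
    exact ((Commute.refl y).zpow_left i).eq)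
  have hCp : IsPGroup 3 (C.map (normalizer (P : Set G)).subtype) :=
    (D.cent3 (y : G) (by rw [Subgroup.orderOf_coe, hy])).to_le fun z hz => by
      obtain ⟨w, hw, rfl⟩ := hz
      exact mem_centralizer_singleton_iff.2
        (congrArg Subtype.val ((mem_centralizer_iff.1 hw) y (mem_zpowers y)).symm)
  obtain ⟨k, hk⟩ := hCp.exists_card_eq
  rw [card_map_of_injective (Subgroup.subtype_injective _)] at hk
  refine (eq_of_le_of_card_ge hle ?_).symm
  rw [hc, hk]
  by_contra hgt
  have hk2 : 2 ≤ k := by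
    by_contra hlt
    have : 3 ^ k ≤ 3 ^ 1 := Nat.pow_le_pow_right (by norm_num) (by omega)
    omega
  refine D.not_nine_dvd_local hP hP1 ?_
  rw [show (9 : ℕ) = 3 ^ 2 by norm_num]
  exact (pow_dvd_pow 3 hk2).trans (hk ▸ card_subgroup_dvd_card C)

/-- The two possible shapes of the quotient of a 2-local with order divisible by three by its 2-core. -/
theorem Setting.shape_core [IsSimpleGroup G] (D : Setting G) (hc2 : Cfsg.IsCharacteristicTwoType G)
    {P : Subgroup G} (hP : IsPGroup 2 P) (hP1 : P ≠ ⊥) (h3 : 3 ∣ Nat.card (normalizer (P : Set G))) :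
    (Nat.card (normalizer (P : Set G)) = 3 * Nat.card (Cfsg.pCore 2 (normalizer (P : Set G))) ∨
      Nat.card (normalizer (P : Set G)) = 6 * Nat.card (Cfsg.pCore 2 (normalizer (P : Set G)))) ∨
    ∃ π : normalizer (P : Set G) →* alternatingGroup (Fin 5), Function.Surjective π ∧
      π.ker = Cfsg.pCore 2 (normalizer (P : Set G)) ∧
      (∀ u ∈ π.ker, ∀ w ∈ π.ker, u * w = w * u) ∧ (∀ u ∈ π.ker, u * u = 1) := by
  haveI : Fact (Nat.Prime 2) := ⟨Nat.prime_two⟩
  have hex := D.exists_selfCentralizing hP hP1 h3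
  set N := normalizer (P : Set G) with hN
  obtain ⟨X, hX3, hXc⟩ := hex
  have hcons : centralizer ((Cfsg.pCore 2 N : Subgroup N) : Set N) ≤ Cfsg.pCore 2 N := hc2.2 P hP hP1
  have hcp : IsPGroup 2 (Cfsg.pCore 2 N) := CfsgLib.PGroup.isPGroup_pCore 2 N
  rcases Cfsg.Agent.S3331.result X hX3 hXc with ⟨M, hM, hnil, hcop, hq⟩ | ⟨M, hM, hab, hsq, ⟨e⟩⟩ | ⟨⟨e⟩⟩
  · left
    haveI := hM
    haveI := hnil
    -- the nilpotent part is a 2-group
    have hM2 : IsPGroup 2 M := by
      rw [IsPGroup.iff_card]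
      refine ⟨(Nat.card M).factorization 2, ?_⟩
      by_contra hne
      obtain ⟨p, hp, hpd, hp2⟩ : ∃ p, p.Prime ∧ p ∣ Nat.card M ∧ p ≠ 2 := by
        by_contra hall
        push_neg at hall
        apply hne
        obtain ⟨k, hk⟩ := (Nat.eq_prime_pow_of_unique_prime_dvd Nat.card_pos.ne'
          (fun {d} hd hdd => hall d hd hdd) : Nat.card M = 2 ^ (Nat.card M).primeFactorsList.length) |>
          fun h => (⟨_, h⟩ : ∃ k, Nat.card M = 2 ^ k)
        rw [hk, Nat.prime_two.factorization_pow, Finsupp.single_eq_same]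
      haveI := Fact.mk hp
      obtain ⟨Q⟩ : Nonempty (Sylow p M) := inferInstance
      have hQn : (Q : Subgroup M).Normal :=
        Sylow.normal_of_normalizerCondition Group.normalizerCondition_of_isNilpotent Q
      haveI : (Q : Subgroup M).Characteristic := Sylow.characteristic_of_normal Q hQn
      set U : Subgroup N := (Q : Subgroup M).map M.subtype with hU
      have hUn : U.Normal := ConjAct.normal_of_characteristic_of_normal
      have hUp : IsPGroup p U := Q.2.map _
      haveI : (Cfsg.pCore 2 N).Normal := Cfsg.pCore_normal 2 N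
      have hdis : Disjoint U (Cfsg.pCore 2 N) := IsPGroup.disjoint_of_ne p 2 hp2 _ _ hUp hcp
      have hUle : U ≤ Cfsg.pCore 2 N := fun u hu => hcons (mem_centralizer_iff.2 fun w hw =>
        ((Subgroup.commute_of_normal_of_disjoint U (Cfsg.pCore 2 N) hUn inferInstance hdis u w hu hw).eq).symm)
      have hUbot : U = ⊥ := disjoint_self.1 (hdis.mono_right hUle)
      have hQbot : (Q : Subgroup M) = ⊥ := by
        rwa [hU, Subgroup.map_eq_bot_iff_of_injective _ M.subtype_injective] at hUbot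
      exact Sylow.ne_bot_of_dvd_card Q hpd hQbot
    have hMle : M ≤ Cfsg.pCore 2 N := le_sSup ⟨hM, hM2⟩
    -- the image of the 2-core in the quotient is trivial
    have hle : Cfsg.pCore 2 N ≤ M := by
      haveI : (Cfsg.pCore 2 N).Normal := Cfsg.pCore_normal 2 N
      have hn : ((Cfsg.pCore 2 N).map (QuotientGroup.mk' M)).Normal :=
        Subgroup.Normal.map inferInstance _ (QuotientGroup.mk'_surjective M)
      have hp : IsPGroup 2 ((Cfsg.pCore 2 N).map (QuotientGroup.mk' M)) := hcp.map _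
      obtain ⟨k, hk⟩ := hp.exists_card_eq
      have hd := card_subgroup_dvd_card ((Cfsg.pCore 2 N).map (QuotientGroup.mk' M))
      suffices hbot : (Cfsg.pCore 2 N).map (QuotientGroup.mk' M) = ⊥ by
        rw [Subgroup.map_eq_bot_iff, QuotientGroup.ker_mk'] at hbot
        exact hbot
      rcases hq with hq | ⟨⟨e⟩⟩
      · rw [hk, hq] at hd
        have h1 : 2 ^ k = 1 := Nat.eq_one_of_dvd_coprimes (Nat.Coprime.pow_left k (by norm_num : Nat.Coprime 2 3))
          dvd_rfl hd
        exact eq_bot_of_card_eq _ (hk.trans h1)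
      · rw [eq_bot_iff]
        intro w hw
        rw [mem_bot]
        have hn' := hn.map e.toMonoidHom e.surjective
        have h6 : Nat.card (Equiv.Perm (Fin 3)) = 6 := by
          rw [Nat.card_eq_fintype_card]; rfl
        rw [hk, Nat.card_congr e.toEquiv, h6] at hd
        have hk1 : 2 ^ k ∣ 2 := (Nat.Coprime.pow_left k (by norm_num : Nat.Coprime 2 3)).dvd_of_dvd_mul_right
          (by simpa using hd)
        have hle2 : Nat.card ((Cfsg.pCore 2 N).map (QuotientGroup.mk' M)) ≤ 2 :=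
          hk ▸ Nat.le_of_dvd (by norm_num) hk1
        by_contra hw1
        have hcen : ∀ y : Equiv.Perm (Fin 3), y * e w = e w * y := fun y => by
          have hmem : y * e w * y⁻¹ ∈ ((Cfsg.pCore 2 N).map (QuotientGroup.mk' M)).map e.toMonoidHom :=
            hn'.conj_mem _ (mem_map_of_mem _ hw) y
          obtain ⟨w', hw', hw'e⟩ := hmem
          change e w' = y * e w * y⁻¹ at hw'e
          have hw'1 : w' ≠ 1 := by
            rintro rfl
            rw [map_one] at hw'e
            have h1e : e w = 1 := by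
              have := congrArg (fun z => y⁻¹ * z * y) hw'e.symm
              simpa [mul_assoc] using this
            exact hw1 ((MulEquiv.map_eq_one_iff e).1 h1e)
          have hww : w' = w := by
            by_contra hne'
            have hsub : ({1, w, w'} : Set (N ⧸ M)) ⊆
                ((Cfsg.pCore 2 N).map (QuotientGroup.mk' M) : Set (N ⧸ M)) := by
              rintro z (rfl | rfl | rfl)
              exacts [one_mem _, hw, hw']
            have h3c : ({1, w, w'} : Set (N ⧸ M)).ncard = 3 :=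
              Set.ncard_eq_three.2 ⟨1, w, w', Ne.symm hw1, Ne.symm hw'1, Ne.symm hne', rfl⟩
            have hc3 := Set.ncard_le_ncard hsub (Set.toFinite _)
            rw [h3c, ← Nat.card_coe_set_eq] at hc3
            exact absurd (le_trans hc3 hle2) (by norm_num)
          rw [hww] at hw'e
          exact mul_inv_eq_iff_eq_mul.1 hw'e.symm
        have hdec : ∀ z : Equiv.Perm (Fin 3), (∀ y, y * z = z * y) → z = 1 := by decide
        exact hw1 ((MulEquiv.map_eq_one_iff e).1 (hdec _ hcen))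
    have heq : M = Cfsg.pCore 2 N := le_antisymm hMle hle
    subst heq
    rcases hq with hq | ⟨⟨e⟩⟩
    · left
      rw [Subgroup.card_eq_card_quotient_mul_card_subgroup (Cfsg.pCore 2 N), hq]
    · right
      rw [Subgroup.card_eq_card_quotient_mul_card_subgroup (Cfsg.pCore 2 N), Nat.card_congr e.toEquiv,
        Nat.card_eq_fintype_card (α := Equiv.Perm (Fin 3))]
      rfl
  · right
    haveI := hM
    set π := e.toMonoidHom.comp (QuotientGroup.mk' M) with hπ
    have hsurj : Function.Surjective π := e.surjective.comp (QuotientGroup.mk'_surjective M)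
    have hker : π.ker = M := by
      ext u
      rw [MonoidHom.mem_ker, hπ, MonoidHom.comp_apply, MulEquiv.coe_toMonoidHom,
        MulEquiv.map_eq_one_iff, ← MonoidHom.mem_ker, QuotientGroup.ker_mk']
    have hMle : M ≤ Cfsg.pCore 2 N := le_sSup ⟨hM, fun u => ⟨1, by
      rw [pow_one]; exact Subtype.ext (hsq u u.2)⟩⟩
    have hle : Cfsg.pCore 2 N ≤ M := by
      haveI : (Cfsg.pCore 2 N).Normal := Cfsg.pCore_normal 2 N
      haveI : IsSimpleGroup (alternatingGroup (Fin 5)) := alternatingGroup.isSimpleGroup_five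
      have hn : ((Cfsg.pCore 2 N).map π).Normal := Subgroup.Normal.map inferInstance _ hsurj
      rcases hn.eq_bot_or_eq_top with hb | ht
      · rw [Subgroup.map_eq_bot_iff, hker] at hb
        exact hb
      · obtain ⟨k, hk⟩ := (hcp.map π).exists_card_eq
        rw [ht, card_top, nat_card_alternatingGroup, Nat.card_fin] at hk
        have h60 : 60 = 2 ^ k := by rw [← hk]; rfl
        have h3k : 3 ∣ 2 ^ k := h60 ▸ (by norm_num)
        exact absurd (Nat.prime_three.dvd_of_dvd_pow h3k) (by norm_num)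
    refine ⟨π, hsurj, hker.trans (le_antisymm hMle hle), fun u hu w hw => ?_, fun u hu => ?_⟩
    · rw [hker] at hu hw
      exact congrArg Subtype.val (hab.is_comm.comm (⟨u, hu⟩ : M) ⟨w, hw⟩)
    · rw [hker] at hu
      rw [← pow_two]
      exact hsq u hu
  · exfalso
    haveI : Fact (Nat.Prime 7) := ⟨by norm_num⟩
    haveI : IsSimpleGroup (Matrix.ProjectiveSpecialLinearGroup (Fin 2) (ZMod 7)) :=
      Matrix.ProjectiveSpecialLinearGroup.rank_two_simple (by simp)
    haveI : Nontrivial N := e.toEquiv.nontrivial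
    haveI : IsSimpleGroup N := IsSimpleGroup.isSimpleGroup_of_surjective e.symm.toMonoidHom e.symm.surjective
    have hPn : (P.subgroupOf N).Normal := normal_in_normalizer
    rcases hPn.eq_bot_or_eq_top with hb | ht
    · rw [subgroupOf_eq_bot, disjoint_iff, inf_of_le_left le_normalizer] at hb
      exact hP1 hb
    · have hle : N ≤ P := subgroupOf_eq_top.1 ht
      obtain ⟨k, hk⟩ := (hP.to_le hle).exists_card_eq
      exact absurd (Nat.prime_three.dvd_of_dvd_pow (hk ▸ h3)) (by norm_num)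

/-- No 2-local with order divisible by three contains an element of order `q` commuting with an
involution. -/
theorem Setting.not_three_of_pair [IsSimpleGroup G] (D : Setting G)
    (hc2 : Cfsg.IsCharacteristicTwoType G) (P : Subgroup G) (hP : IsPGroup 2 P) (hP1 : P ≠ ⊥)
    (hpair : HasPair D.q (normalizer (P : Set G))) : ¬ 3 ∣ Nat.card (normalizer (P : Set G)) := by
  haveI : Fact (Nat.Prime 2) := ⟨Nat.prime_two⟩
  intro h3
  obtain ⟨g, t, hg, ht, og, ot, hcomm⟩ := hpair
  set N := normalizer (P : Set G) with hN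
  have og' : orderOf (⟨g, hg⟩ : N) = D.q := (Subgroup.orderOf_mk g hg).trans og
  have ot' : orderOf (⟨t, ht⟩ : N) = 2 := (Subgroup.orderOf_mk t ht).trans ot
  have hq5 := D.hq5
  rcases D.shape_core hc2 hP hP1 h3 with h | ⟨π, hsurj, hker, hab, hsq⟩
  · obtain ⟨k, hk⟩ := (CfsgLib.PGroup.isPGroup_pCore 2 N).exists_card_eq
    have hd : D.q ∣ 3 * 2 ^ (k + 1) := by
      have h1 : D.q ∣ Nat.card N := og' ▸ orderOf_dvd_natCard _
      rcases h with h | h <;> rw [h, hk] at h1
      · exact h1.trans (Dvd.intro 2 (by ring))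
      · rwa [pow_succ', ← mul_assoc, show 3 * 2 = 6 by norm_num]
    rcases D.hq.dvd_mul.1 hd with h' | h'
    · have := Nat.le_of_dvd (by norm_num) h'; omega
    · have := Nat.le_of_dvd (by norm_num) (D.hq.dvd_of_dvd_pow h'); omega
  · have hgk : π ⟨g, hg⟩ ≠ 1 := fun e => by
      have h2 := hsq _ (MonoidHom.mem_ker.2 e)
      have hd := orderOf_dvd_of_pow_eq_one ((pow_two _).trans h2)
      rw [og'] at hd
      have := Nat.le_of_dvd (by norm_num) hd
      omega
    have hqeq : D.q = 5 := by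
      have hd : D.q ∣ 60 := by
        have h1 : orderOf (π ⟨g, hg⟩) = D.q := by
          rcases (Nat.dvd_prime D.hq).1 (og' ▸ orderOf_map_dvd π (⟨g, hg⟩ : N)) with h | h
          · exact absurd (orderOf_eq_one_iff.1 h) hgk
          · exact h
        have h2 := orderOf_dvd_natCard (π ⟨g, hg⟩)
        rw [h1, nat_card_alternatingGroup, Nat.card_fin] at h2
        simpa [Nat.factorial] using h2
      rcases D.hq.dvd_mul.1 (show D.q ∣ 12 * 5 by simpa using hd) with h | h
      · rcases D.hq.dvd_mul.1 (show D.q ∣ 4 * 3 by simpa using h) with h' | h' <;>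
          [have := Nat.le_of_dvd (by norm_num) h'; have := Nat.le_of_dvd (by norm_num) h'] <;> omega
      · have := Nat.le_of_dvd (by norm_num) h; omega
    haveI : Fact (Nat.Prime 5) := ⟨by norm_num⟩
    have hpow : (⟨g, hg⟩ : N) ^ D.q = 1 := og' ▸ pow_orderOf_eq_one _
    rw [hqeq] at hpow
    have o5 : orderOf (π ⟨g, hg⟩) = 5 := orderOf_eq_prime (by rw [← map_pow, hpow, map_one]) hgk
    obtain ⟨f, hf⟩ := AltFive.exists_aut o5
    set π' : N →* alternatingGroup (Fin 5) := f.toMonoidHom.comp π with hπ'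
    have hker' : π'.ker = π.ker := by
      ext u
      simp [hπ', MonoidHom.mem_ker]
    have hcomm' : (⟨g, hg⟩ : N) * ⟨t, ht⟩ = ⟨t, ht⟩ * ⟨g, hg⟩ := Subtype.ext hcomm.eq
    have htk : (⟨t, ht⟩ : N) ∈ π'.ker := by
      rw [MonoidHom.mem_ker]
      have h5 : π' ⟨t, ht⟩ ^ 5 = 1 := AltFive.pow_five_of_commute _ (by
        rw [← hf, show f (π ⟨g, hg⟩) = π' ⟨g, hg⟩ from rfl, ← map_mul, ← map_mul, hcomm'])
      have h2 : π' ⟨t, ht⟩ ^ 2 = 1 := by
        rw [← map_pow, show (⟨t, ht⟩ : N) ^ 2 = 1 by rw [← ot', pow_orderOf_eq_one], map_one]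
      have e : π' ⟨t, ht⟩ = (π' ⟨t, ht⟩ ^ 2) ^ 3 * (π' ⟨t, ht⟩ ^ 5)⁻¹ := by group
      rw [e, h5, h2]; simp
    have hfree : ∀ y : N, orderOf y = 3 → ∀ u ∈ π'.ker, y * u = u * y → u = 1 := by
      intro y hy u hu hyu
      obtain ⟨i, hi⟩ := (IsPGroup.iff_orderOf.1 (D.cent3 (y : G) (by rw [Subgroup.orderOf_coe, hy])))
        ⟨(u : G), mem_centralizer_singleton_iff.2 (congrArg Subtype.val hyu).symm⟩
      rw [Subgroup.orderOf_mk, Subgroup.orderOf_coe] at hi
      have h2 := orderOf_dvd_of_pow_eq_one ((pow_two u).trans (hsq u (hker' ▸ hu)))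
      rw [hi] at h2
      have h1 : 3 ^ i = 1 := Nat.eq_one_of_dvd_coprimes (Nat.Coprime.pow_left i (by norm_num : Nat.Coprime 3 2))
        dvd_rfl h2
      exact orderOf_eq_one_iff.1 (hi.trans h1)
    have h1 := AltFive.eq_one_of_commute π' (f.surjective.comp hsurj)
      (fun u hu w hw => hab u (hker' ▸ hu) w (hker' ▸ hw)) (fun u hu => hsq u (hker' ▸ hu)) hfree hf htk hcomm'
    rw [h1, orderOf_one] at ot'
    omega

/-- The shape of a 2-local with order divisible by three. -/
theorem Setting.local_shape [IsSimpleGroup G] (D : Setting G) (hc2 : Cfsg.IsCharacteristicTwoType G)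
    (P : Subgroup G) (hP : IsPGroup 2 P) (hP1 : P ≠ ⊥) (h3 : 3 ∣ Nat.card (normalizer (P : Set G))) :
    ∃ K : Subgroup G, IsPGroup 2 K ∧ K ≠ ⊥ ∧ K ≤ normalizer (P : Set G) ∧
      normalizer (P : Set G) ≤ normalizer (K : Set G) ∧
      normalizer (P : Set G) ⊓ centralizer (K : Set G) ≤ K ∧
      (Nat.card (normalizer (P : Set G)) = 3 * Nat.card K ∨
        Nat.card (normalizer (P : Set G)) = 6 * Nat.card K ∨
        (Nat.card (normalizer (P : Set G)) = 60 * Nat.card K ∧ ∃ T : Subgroup G, IsPGroup 2 T ∧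
          T ≤ normalizer (P : Set G) ∧ Nat.card T = 4 * Nat.card K ∧
          3 ∣ Nat.card (normalizer (T : Set G)))) := by
  haveI : Fact (Nat.Prime 2) := ⟨Nat.prime_two⟩
  haveI : Fact (Nat.Prime 3) := ⟨Nat.prime_three⟩
  have hshape := D.shape_core hc2 hP hP1 h3
  set N := normalizer (P : Set G) with hN
  set K : Subgroup G := (Cfsg.pCore 2 N).map N.subtype with hK
  have hKc : Nat.card K = Nat.card (Cfsg.pCore 2 N) := card_map_of_injective N.subtype_injective
  have hcons : centralizer ((Cfsg.pCore 2 N : Subgroup N) : Set N) ≤ Cfsg.pCore 2 N := hc2.2 P hP hP1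
  refine ⟨K, (CfsgLib.PGroup.isPGroup_pCore 2 N).map _, ?_, map_subtype_le _, ?_, ?_, ?_⟩
  · intro hb
    have hPle : P.subgroupOf N ≤ Cfsg.pCore 2 N :=
      le_sSup ⟨normal_in_normalizer, hP.comap_of_injective _ N.subtype_injective⟩
    refine hP1 (eq_bot_iff.2 ?_)
    rw [← hb]
    exact fun p hp => ⟨⟨p, le_normalizer hp⟩, hPle hp, rfl⟩
  · haveI := Cfsg.pCore_normal 2 N
    intro n hn
    rw [mem_normalizer_iff]
    intro k
    constructor
    · rintro ⟨k', hk', rfl⟩
      exact ⟨⟨n, hn⟩ * k' * ⟨n, hn⟩⁻¹, ‹(Cfsg.pCore 2 N).Normal›.conj_mem k' hk' _, rfl⟩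
    · rintro ⟨k', hk', e⟩
      refine ⟨⟨n, hn⟩⁻¹ * k' * ⟨n, hn⟩, ?_, ?_⟩
      · have := ‹(Cfsg.pCore 2 N).Normal›.conj_mem k' hk' ⟨n, hn⟩⁻¹
        rwa [inv_inv] at this
      · change n⁻¹ * (k' : G) * n = k
        change (k' : G) = n * k * n⁻¹ at e
        rw [e]; group
  · rintro c ⟨hc, hcK⟩
    refine ⟨⟨c, hc⟩, hcons (mem_centralizer_iff.2 fun k hk => Subtype.ext ?_), rfl⟩
    exact mem_centralizer_iff.1 hcK k ⟨k, hk, rfl⟩
  · rcases hshape with (h | h) | ⟨π, hsurj, hker, hab, hsq⟩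
    · exact Or.inl (by rw [hKc]; exact h)
    · exact Or.inr (Or.inl (by rw [hKc]; exact h))
    refine Or.inr (Or.inr ⟨?_, (AltFive.four.comap π).map N.subtype, ?_, map_subtype_le _, ?_, ?_⟩)
    · have h60 := Subgroup.card_eq_card_quotient_mul_card_subgroup π.ker
      rw [Nat.card_congr (QuotientGroup.quotientKerEquivOfSurjective π hsurj).toEquiv,
        nat_card_alternatingGroup, Nat.card_fin] at h60
      rw [hKc, ← hker, h60]
      rfl
    · refine IsPGroup.map ?_ _
      intro u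
      refine ⟨2, Subtype.ext ?_⟩
      have h4 : ∀ a : AltFive.four, a ^ 2 = 1 := fun a => Subtype.ext (AltFive.sq_four a.2)
      have hu : (u : N) ^ 2 ∈ π.ker := by
        rw [MonoidHom.mem_ker, map_pow]
        exact congrArg Subtype.val (h4 ⟨π u, u.2⟩)
      rw [show (2 : ℕ) ^ 2 = 2 * 2 by norm_num, Subgroup.coe_pow, pow_mul, pow_two _, hsq _ hu]
      rfl
    · rw [card_map_of_injective N.subtype_injective, hKc, ← hker]
      have hle : π.ker ≤ AltFive.four.comap π := fun u hu => by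
        rw [mem_comap, MonoidHom.mem_ker.1 hu]; exact one_mem _
      rw [← card_mul_index (π.ker.subgroupOf (AltFive.four.comap π)),
        Nat.card_congr (subgroupOfEquivOfLe hle).toEquiv, mul_comm (4 : ℕ)]
      congr 1
      change π.ker.relIndex (AltFive.four.comap π) = 4
      rw [relIndex_ker, map_comap_eq_self_of_surjective hsurj, AltFive.card_four]
    · obtain ⟨y, hy⟩ := hsurj AltFive.c4
      have hyN : (y : G) ∈ normalizer (((AltFive.four.comap π).map N.subtype : Subgroup G) : Set G) := by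
        rw [mem_normalizer_iff_map_conj_eq]
        refine eq_of_le_of_card_ge ?_ (le_of_eq (card_map_of_injective (MulAut.conj (y : G)).injective).symm)
        rintro _ ⟨_, ⟨u, hu, rfl⟩, rfl⟩
        refine ⟨y * u * y⁻¹, ?_, rfl⟩
        change π (y * u * y⁻¹) ∈ AltFive.four
        rw [map_mul, map_mul, map_inv, hy]
        exact AltFive.conj_four hu
      have h3' : 3 ∣ orderOf (y : G) := by
        rw [Subgroup.orderOf_coe]
        have := orderOf_map_dvd π y
        rwa [hy, orderOf_eq_prime (show AltFive.c4 ^ 3 = 1 by decide) (by decide)] at this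
      exact h3'.trans (Subgroup.orderOf_dvd_natCard _ hyN)

end CfsgLib.NineAmalgam
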