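import Cfsg.Agent.Lib.PushAmalgam.Reduce
import Cfsg.Agent.Lib.Coprime.PGroupFrattini
import Cfsg.Agent.Lib.LocalStructure.FStar
import Cfsg.Agent.Lib.CFun.MinParab.Baumann.Sym

/-!
Section P3 of docs/S2220-amalgam-lead.md: a Sylow 2-subgroup lies in a 2-local `M = K : S3`.
-/

set_option autoImplicit false

open Subgroup

namespace CfsgLib.NineAmalgam

universe u

variable {G : Type u} [Group G]

theorem card_mul_rel {H K : Subgroup G} (h : H ≤ K) : Nat.card H * H.relIndex K = Nat.card K := by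
  rw [← relIndex_bot_left H, relIndex_mul_relIndex _ _ _ bot_le h, relIndex_bot_left]


/-- An element of order three without centralised involution acts fixed point freely. -/
theorem eq_one_of_commute (hcen3 : ∀ y : G, orderOf y = 3 →
      IsPGroup 3 (centralizer ({y} : Set G)))
    {x a : G} (hx : orderOf x = 3) {P : Subgroup G} (hP : IsPGroup 2 P) (ha : a ∈ P)
    (hc : x * a = a * x) : a = 1 := by
  have h3 : a ∈ centralizer ({x} : Set G) := mem_centralizer_singleton_iff.2 hc.symm
  obtain ⟨i, hi⟩ := (hP.to_le (inf_le_left (b := centralizer ({x} : Set G)))) ⟨a, ha, h3⟩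
  obtain ⟨j, hj⟩ := hcen3 x hx ⟨a, h3⟩
  have e1 : a ^ 2 ^ i = 1 := congrArg Subtype.val hi
  have e2 : a ^ 3 ^ j = 1 := congrArg Subtype.val hj
  have h : a ^ Nat.gcd (2 ^ i) (3 ^ j) = 1 := pow_gcd_eq_one.2 ⟨e1, e2⟩
  have hco : Nat.gcd (2 ^ i) (3 ^ j) = 1 := Nat.Coprime.pow i j (by norm_num)
  rwa [hco, pow_one] at h

theorem mod_three [Finite G] (hcen3 : ∀ y : G, orderOf y = 3 →
      IsPGroup 3 (centralizer ({y} : Set G)))
    {x : G} (hx : orderOf x = 3) {P : Subgroup G} (hP : IsPGroup 2 P)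
    (hxP : x ∈ normalizer (P : Set G)) : Nat.card P % 3 = 1 := by
  classical
  haveI : Fact (Nat.Prime 3) := ⟨Nat.prime_three⟩
  let act : MulAction (zpowers x) P :=
    { smul := fun g a => ⟨(g : G) * a * (g : G)⁻¹,
        (mem_normalizer_iff.1 ((zpowers_le.2 hxP) g.2) a).1 a.2⟩
      one_smul := fun a => Subtype.ext (show (1 : G) * a * (1 : G)⁻¹ = a by simp)
      mul_smul := fun g h a => Subtype.ext
        (show ((g : G) * h) * a * ((g : G) * h)⁻¹ = g * (h * a * (h : G)⁻¹) * (g : G)⁻¹ by group) }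
  have hX : IsPGroup 3 (zpowers x) := IsPGroup.of_card (n := 1) (by rw [Nat.card_zpowers, hx, pow_one])
  have h := hX.card_modEq_card_fixedPoints (α := P)
  have hfix : Nat.card (MulAction.fixedPoints (zpowers x) P) = 1 := by
    rw [Nat.card_eq_one_iff_unique]
    refine ⟨⟨fun a b => ?_⟩, ⟨⟨1, fun g => ?_⟩⟩⟩
    · have key : ∀ c : MulAction.fixedPoints (zpowers x) P, ((c : P) : G) = 1 := fun c => by
        refine eq_one_of_commute hcen3 hx hP (c : P).2 ?_
        have := congrArg Subtype.val (c.2 ⟨x, mem_zpowers x⟩)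
        exact mul_inv_eq_iff_eq_mul.1 (show x * ((c : P) : G) * x⁻¹ = _ from this)
      exact Subtype.ext (Subtype.ext ((key a).trans (key b).symm))
    · exact Subtype.ext (show (g : G) * (1 : G) * (g : G)⁻¹ = 1 by simp)
  rw [hfix] at h
  exact h

/-- In a local of order `6 * |K|` some involution inverts the element of order three. -/
theorem exists_inverting [Finite G] (hcen3 : ∀ y : G, orderOf y = 3 →
      IsPGroup 3 (centralizer ({y} : Set G)))
    {X : Subgroup G} {x : G} (hxX : x ∈ X) (hx : orderOf x = 3) {k : ℕ}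
    (hk : Nat.card X = 6 * k) (hk3 : k % 3 = 1) :
    ∃ s ∈ X, s ^ 2 = 1 ∧ s ≠ 1 ∧ s * x * s⁻¹ = x⁻¹ := by
  classical
  haveI : Fact (Nat.Prime 3) := ⟨Nat.prime_three⟩
  let x' : X := ⟨x, hxX⟩
  have hx' : orderOf x' = 3 := (Subgroup.orderOf_coe x').symm.trans hx
  have hC : ∀ c : X, c * x' = x' * c → c ^ 3 = 1 := by
    intro c hc
    have h3 : (c : G) ∈ centralizer ({x} : Set G) :=
      mem_centralizer_singleton_iff.2 (congrArg Subtype.val hc)
    obtain ⟨j, hj⟩ := hcen3 x hx ⟨c, h3⟩
    have e1 : c ^ 3 ^ j = 1 := Subtype.ext (show (c : G) ^ 3 ^ j = 1 from congrArg Subtype.val hj)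
    obtain ⟨i, hi, he⟩ := (Nat.dvd_prime_pow Nat.prime_three).1 (orderOf_dvd_of_pow_eq_one e1)
    refine orderOf_dvd_iff_pow_eq_one.1 ?_
    match i, he with
    | 0, he => rw [he]; exact one_dvd _
    | 1, he => rw [he]; exact dvd_refl _
    | n + 2, he =>
      exfalso
      have h9 : 9 ∣ Nat.card X := (Dvd.intro (3 ^ n) (by rw [he, pow_add]; ring)).trans (orderOf_dvd_natCard c)
      omega
  have hP : IsPGroup 3 (zpowers x') := IsPGroup.of_card (n := 1) (by rw [Nat.card_zpowers, hx', pow_one])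
  have hidx : ¬ 3 ∣ (zpowers x').index := by
    have := (zpowers x').card_mul_index
    rw [Nat.card_zpowers, hx', hk] at this
    omega
  let Q : Sylow 3 X := hP.toSylow hidx
  have hQ : (Q : Subgroup X) = zpowers x' := rfl
  obtain ⟨t, ht, htc⟩ : ∃ t ∈ normalizer ((zpowers x' : Subgroup X) : Set X), t * x' ≠ x' * t := by
    by_contra hno
    push Not at hno
    have hle : normalizer ((zpowers x' : Subgroup X) : Set X) ≤ zpowers x' := by
      intro c hc
      by_contra hcn
      have hp : IsPGroup 3 (normalizer ((zpowers x' : Subgroup X) : Set X)) := fun d =>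
        ⟨1, Subtype.ext (by simpa using hC d (hno d d.2))⟩
      exact hcn ((Q.is_maximal' hp (hQ ▸ le_normalizer)).trans hQ |>.le hc)
    have hn := card_sylow_modEq_one 3 X
    rw [Q.card_eq_index_normalizer] at hn
    change (normalizer ((Q : Subgroup X) : Set X)).index ≡ 1 [MOD 3] at hn
    rw [hQ, le_antisymm hle le_normalizer, Nat.ModEq] at hn
    have := (zpowers x').card_mul_index
    rw [Nat.card_zpowers, hx', hk] at this
    omega
  have htx : t * x' * t⁻¹ ∈ zpowers x' := (mem_normalizer_iff.1 ht x').1 (mem_zpowers x')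
  have hinv : t * x' * t⁻¹ = x'⁻¹ := by
    rcases (mem_zpowers_iff.1 htx) with ⟨i, hi⟩
    have h3 : x' ^ (3 : ℤ) = 1 := by
      rw [show (3 : ℤ) = ((3 : ℕ) : ℤ) from rfl, zpow_natCast, ← hx', pow_orderOf_eq_one]
    have hi' : x' ^ (i % 3) = t * x' * t⁻¹ := by
      rw [← hi]
      conv_rhs => rw [← Int.emod_add_mul_ediv i 3, zpow_add, zpow_mul, h3, one_zpow, mul_one]
    have := Int.emod_nonneg i (by norm_num : (3 : ℤ) ≠ 0)
    have := Int.emod_lt_of_pos i (by norm_num : (0 : ℤ) < 3)
    obtain h | h | h : i % 3 = 0 ∨ i % 3 = 1 ∨ i % 3 = 2 := by omega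
    · rw [h, zpow_zero, eq_comm, conj_eq_one_iff] at hi'
      rw [hi', orderOf_one] at hx'
      omega
    · rw [h, zpow_one] at hi'
      exact absurd (mul_inv_eq_iff_eq_mul.1 hi'.symm) htc
    · rw [h] at hi'
      rw [← hi', show (2 : ℤ) = 3 + -1 by norm_num, zpow_add, h3, one_mul, zpow_neg_one]
  have h2 : t ^ 2 * x' = x' * t ^ 2 := by
    have e : t ^ 2 * x' * (t ^ 2)⁻¹ = x' := by
      calc t ^ 2 * x' * (t ^ 2)⁻¹ = t * (t * x' * t⁻¹) * t⁻¹ := by rw [pow_two]; group
        _ = t * x'⁻¹ * t⁻¹ := by rw [hinv]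
        _ = (t * x' * t⁻¹)⁻¹ := by group
        _ = x' := by rw [hinv, inv_inv]
    exact mul_inv_eq_iff_eq_mul.1 e
  have hs2 : (t ^ 3) ^ 2 = 1 := by rw [← pow_mul, mul_comm, pow_mul]; exact hC _ h2
  have hsx : t ^ 3 * x' * (t ^ 3)⁻¹ = x'⁻¹ := by
    calc t ^ 3 * x' * (t ^ 3)⁻¹ = t * (t ^ 2 * x' * (t ^ 2)⁻¹) * t⁻¹ := by group
      _ = x'⁻¹ := by rw [h2, mul_inv_cancel_right, hinv]
  refine ⟨(t : G) ^ 3, pow_mem t.2 3, congrArg Subtype.val hs2, fun e => ?_, congrArg Subtype.val hsx⟩
  have e' : t ^ 3 = 1 := Subtype.ext e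
  rw [e', one_mul, inv_one, mul_one] at hsx
  have h21 : x' ^ 2 = 1 := by rw [pow_two]; exact mul_eq_one_iff_eq_inv.2 hsx
  have := orderOf_dvd_of_pow_eq_one h21
  rw [hx'] at this
  omega

theorem exists_psl_equiv {X : Type u} [Group X] [Finite X] (K T : Subgroup X) [K.Normal]
    (hKT : K ≤ T) (hX : Nat.card X = 6 * Nat.card K) (hT : Nat.card T = 2 * Nat.card K)
    (hn : ¬ T.Normal) :
    Nonempty (X ⧸ K ≃* Matrix.ProjectiveSpecialLinearGroup (Fin 2) (ZMod 2)) := by
  classical
  have hK0 : 0 < Nat.card K := Nat.card_pos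
  have hcore : T.normalCore = K := by
    have h1 : K ≤ T.normalCore := normal_le_normalCore.2 hKT
    obtain ⟨a, ha⟩ := card_dvd_of_le h1
    have hd := card_dvd_of_le (normalCore_le T)
    rw [ha, hT, mul_comm 2 (Nat.card K)] at hd
    have ha2 : a ∣ 2 := Nat.dvd_of_mul_dvd_mul_left hK0 hd
    rcases (Nat.dvd_prime Nat.prime_two).1 ha2 with rfl | rfl
    · exact (eq_of_le_of_card_ge h1 (by omega)).symm
    · refine absurd ?_ hn
      rw [← eq_of_le_of_card_ge (normalCore_le T) (by omega)]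
      exact normalCore_normal T
  have hidx : T.index = 3 := by
    have := T.card_mul_index
    rw [hT, hX] at this
    exact Nat.eq_of_mul_eq_mul_left (by omega : 0 < 2 * Nat.card K) (this.trans (by ring))
  let f := MulAction.toPermHom X (X ⧸ T)
  have hker : f.ker = K := (normalCore_eq_ker T).symm.trans hcore
  let φ : Equiv.Perm (X ⧸ T) ≃* Equiv.Perm (Fin 3) :=
    (Finite.equivFinOfCardEq (hidx : Nat.card (X ⧸ T) = 3)).permCongrHom
  let g : X →* Equiv.Perm (Fin 3) := φ.toMonoidHom.comp f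
  have hgker : g.ker = K := by
    rw [← hker]
    ext a
    simp [g, MonoidHom.mem_ker]
  have hinj : Function.Injective (QuotientGroup.kerLift g) := QuotientGroup.kerLift_injective g
  have e1 : X ⧸ K ≃* Equiv.Perm (Fin 3) := (QuotientGroup.quotientMulEquivOfEq hgker.symm).trans
    (MulEquiv.ofBijective _ ((Nat.bijective_iff_injective_and_card _).2 ⟨hinj, by
      have := K.card_mul_index
      rw [hX] at this
      rw [← index_eq_card, hgker, Nat.card_perm, Nat.card_eq_fintype_card, Fintype.card_fin]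
      exact Nat.eq_of_mul_eq_mul_left hK0 (this.trans (by rw [show Nat.factorial 3 = 6 from rfl]; ring))⟩))
  obtain ⟨e2⟩ := CfsgLib.CFun.MinParab.Baumann.exists_perm_three_equiv
  have hz : center (Matrix.SpecialLinearGroup (Fin 2) (ZMod 2)) = ⊥ := by
    rw [eq_bot_iff]
    intro a ha
    have hz3 : ∀ σ : Equiv.Perm (Fin 3), (∀ τ, τ * σ = σ * τ) → σ = 1 := by decide
    rw [mem_bot, ← e2.symm.map_eq_one_iff]
    refine hz3 _ fun τ => e2.injective ?_
    simp only [map_mul, MulEquiv.apply_symm_apply]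
    exact mem_center_iff.1 ha _
  exact ⟨(e1.trans e2).trans
    (QuotientGroup.quotientBot.symm.trans (QuotientGroup.quotientMulEquivOfEq hz.symm))⟩

theorem sit_of_six {X : Type u} [Group X] [Finite X] (K T : Subgroup X) [K.Normal]
    (hKT : K ≤ T) (hTp : IsPGroup 2 T) (hX : Nat.card X = 6 * Nat.card K)
    (hT : Nat.card T = 2 * Nat.card K)
    (hn : ¬ T.Normal) (hc : centralizer (K : Set X) ≤ K) :
    CfsgLib.PushUp.Sit 2 T := by
  have hKcore : K ≤ Cfsg.pCore 2 X := le_sSup ⟨inferInstance, hTp.to_le hKT⟩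
  haveI : Fact (Nat.Prime 2) := ⟨Nat.prime_two⟩
  have hK0 : 0 < Nat.card K := Nat.card_pos
  have hidx : T.index = 3 := by
    have := T.card_mul_index
    rw [hT, hX] at this
    exact Nat.eq_of_mul_eq_mul_left (by omega : 0 < 2 * Nat.card K) (this.trans (by ring))
  have hmax : ∀ W : Subgroup X, T ≤ W → W = T ∨ W = ⊤ := by
    intro W hW
    have h := relIndex_mul_index hW
    rw [hidx] at h
    rcases (Nat.dvd_prime Nat.prime_three).1 (Dvd.intro _ h) with h1 | h1
    · exact Or.inl (le_antisymm (relIndex_eq_one.1 h1) hW)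
    · rw [h1] at h
      exact Or.inr (index_eq_one.1 (by omega))
  have hne : T ≠ ⊤ := fun e => by rw [e, index_top] at hidx; omega
  have hco : IsCoatom T := ⟨hne, fun W hW => (hmax W hW.le).resolve_left (ne_of_gt hW)⟩
  refine ⟨⟨hTp.toSylow (by rw [hidx]; omega), rfl⟩, ?_, ⟨T, ⟨hco, le_rfl⟩, ?_⟩, ?_⟩
  · exact (centralizer_le (s := (K : Set X)) hKcore).trans (hc.trans hKcore)
  · rintro W ⟨hW, hTW⟩
    exact (hmax W hTW).resolve_right hW.1
  · obtain ⟨e⟩ := exists_psl_equiv K T hKT hX hT hn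
    exact ⟨K, inferInstance, ZMod 2, inferInstance, inferInstance, 1, by simp, ⟨e⟩⟩

theorem lt_inf_normalizer [Finite G] {T S : Subgroup G} (hS : IsPGroup 2 S) (hTS : T < S) :
    T < normalizer (T : Set G) ⊓ S := by
  haveI : Fact (Nat.Prime 2) := ⟨Nat.prime_two⟩
  haveI : Group.IsNilpotent S := hS.isNilpotent
  have hne : T.subgroupOf S ≠ ⊤ := fun e => not_le_of_gt hTS (subgroupOf_eq_top.1 e)
  obtain ⟨g, hg, hgn⟩ := SetLike.exists_of_lt
    (normalizerCondition_of_isNilpotent (G := S) _ (lt_top_iff_ne_top.2 hne))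
  refine lt_of_le_of_ne (le_inf le_normalizer hTS.le) fun e => hgn ?_
  have hgN : (g : G) ∈ normalizer (T : Set G) := by
    refine mem_normalizer_iff.2 fun a => ?_
    constructor
    · intro ha
      exact (mem_normalizer_iff.1 hg ⟨a, hTS.le ha⟩).1 ha
    · intro ha
      have haS : a ∈ S := by
        have := S.mul_mem (S.mul_mem (S.inv_mem g.2) (hTS.le ha)) g.2
        simpa [mul_assoc] using this
      exact (mem_normalizer_iff.1 hg ⟨a, haS⟩).2 ha
  exact mem_subgroupOf.2 (e.ge ⟨hgN, g.2⟩)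

/-- A non-trivial fixed-point-free four group has exponent two. -/
theorem sq_eq_one_of_card_four [Finite G] (hcen3 : ∀ y : G, orderOf y = 3 →
      IsPGroup 3 (centralizer ({y} : Set G)))
    {K : Subgroup G} {x : G} (hx : orderOf x = 3) (hxK : x ∈ normalizer (K : Set G))
    (hK : Nat.card K = 4) (a : G) (ha : a ∈ K) : a ^ 2 = 1 := by
  by_contra h
  have hKp : IsPGroup 2 K := IsPGroup.of_card (n := 2) hK
  have h4 : a ^ 4 = 1 := by
    have : (⟨a, ha⟩ : K) ^ 4 = 1 := hK ▸ pow_card_eq_one'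
    exact congrArg Subtype.val this
  have hord : orderOf a = 4 :=
    orderOf_eq_prime_pow (p := 2) (n := 1) (by simpa using h) (by simpa using h4)
  have hz : zpowers a = K := eq_of_le_of_card_ge (zpowers_le.2 ha) (by rw [Nat.card_zpowers, hord, hK])
  have hb : x * a * x⁻¹ ∈ K := (mem_normalizer_iff.1 hxK a).1 ha
  refine h (eq_one_of_commute hcen3 hx hKp (pow_mem ha 2) ?_)
  rw [← mul_inv_eq_iff_eq_mul]
  have e : x * a ^ 2 * x⁻¹ = (x * a * x⁻¹) ^ 2 := conj_pow.symm
  rw [e]
  obtain ⟨i, hi⟩ := mem_zpowers_iff.1 (hz.ge hb)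
  have hodd : i % 2 = 1 := by
    by_contra hev
    obtain ⟨j, rfl⟩ : ∃ j, i = 2 * j := ⟨i / 2, by omega⟩
    have hj : (x * a * x⁻¹) ^ 2 = 1 := by
      rw [← hi, ← zpow_natCast, ← zpow_mul, show 2 * j * ((2 : ℕ) : ℤ) = ((4 : ℕ) : ℤ) * j by push_cast; ring,
        zpow_mul, zpow_natCast, h4, one_zpow]
    rw [← e, conj_eq_one_iff] at hj
    exact h hj
  obtain ⟨j, rfl⟩ : ∃ j, i = 2 * j + 1 := ⟨i / 2, by omega⟩
  rw [← hi, ← zpow_natCast, ← zpow_mul, show (2 * j + 1) * ((2 : ℕ) : ℤ) = ((4 : ℕ) : ℤ) * j + ((2 : ℕ) : ℤ) by push_cast; ring,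
    zpow_add, zpow_mul, zpow_natCast, zpow_natCast, h4, one_zpow, one_mul]

/-- The abelian subgroups of largest order of `T`, inside `G`. -/
def maxAb (T : Subgroup G) : Set (Subgroup G) :=
  {A | A ≤ T ∧ IsMulCommutative A ∧ ∀ B ≤ T, IsMulCommutative B → Nat.card B ≤ Nat.card A}

theorem exists_maxAb [Finite G] (T : Subgroup G) : (maxAb T).Nonempty := by
  classical
  obtain ⟨A, ⟨hA, hAc⟩, hmax⟩ := Set.exists_max_image
    {A : Subgroup G | A ≤ T ∧ IsMulCommutative A} (fun A => Nat.card A) (Set.toFinite _)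
    ⟨⊥, bot_le, inferInstance⟩
  exact ⟨A, hA, hAc, fun B hB hBc => hmax B ⟨hB, hBc⟩⟩

theorem mem_normalizer_sSup_maxAb [Finite G] {T : Subgroup G} {g : G}
    (h : ∀ A ∈ maxAb T, A.map (MulAut.conj g).toMonoidHom ≤ T) :
    g ∈ normalizer ((sSup (maxAb T) : Subgroup G) : Set G) := by
  have hle : (sSup (maxAb T)).map (MulAut.conj g).toMonoidHom ≤ sSup (maxAb T) := by
    rw [map_le_iff_le_comap]
    refine sSup_le fun A hA => map_le_iff_le_comap.1 (le_sSup ⟨h A hA, ?_, fun B hB hBc => ?_⟩)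
    · haveI := hA.2.1
      exact Subgroup.map_isMulCommutative A _
    · rw [card_map_of_injective (MulAut.conj g).injective]
      exact hA.2.2 B hB hBc
  have heq := eq_of_le_of_card_ge hle
    (le_of_eq (card_map_of_injective (MulAut.conj g).injective).symm)
  exact mem_normalizer_iff_map_conj_eq.2 heq


theorem exists_pushing [Finite G] (Pair : Subgroup G → Prop)
    (hcen3 : ∀ y : G, orderOf y = 3 → IsPGroup 3 (Subgroup.centralizer ({y} : Set G)))
    (hsome : ∃ P : Subgroup G, IsPGroup 2 P ∧ P ≠ ⊥ ∧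
      3 ∣ Nat.card (Subgroup.normalizer (P : Set G)))
    (hshape : ∀ P : Subgroup G, IsPGroup 2 P → P ≠ ⊥ →
      3 ∣ Nat.card (Subgroup.normalizer (P : Set G)) →
      ∃ K : Subgroup G, IsPGroup 2 K ∧ K ≠ ⊥ ∧ K ≤ Subgroup.normalizer (P : Set G) ∧
        Subgroup.normalizer (P : Set G) ≤ Subgroup.normalizer (K : Set G) ∧
        Subgroup.normalizer (P : Set G) ⊓ Subgroup.centralizer (K : Set G) ≤ K ∧
        (Nat.card (Subgroup.normalizer (P : Set G)) = 3 * Nat.card K ∨
          Nat.card (Subgroup.normalizer (P : Set G)) = 6 * Nat.card K ∨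
          (Nat.card (Subgroup.normalizer (P : Set G)) = 60 * Nat.card K ∧
            ∃ T : Subgroup G, IsPGroup 2 T ∧ T ≤ Subgroup.normalizer (P : Set G) ∧
              Nat.card T = 4 * Nat.card K ∧
              3 ∣ Nat.card (Subgroup.normalizer (T : Set G)))))
    (hfour : ∀ K : Subgroup G, Nat.card K = 4 → (∀ a ∈ K, a ^ 2 = 1) →
      ¬ Subgroup.centralizer (K : Set G) ≤ K)
    (hloc : ∀ P : Subgroup G, IsPGroup 2 P → P ≠ ⊥ →
      Pair (Subgroup.normalizer (P : Set G)) → ¬ 3 ∣ Nat.card (Subgroup.normalizer (P : Set G)))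
    (hchar : ∀ P : Sylow 2 G, ∃ C : Subgroup G, C ≤ P ∧ C ≠ ⊥ ∧
      Subgroup.normalizer ((P : Subgroup G) : Set G) ≤ Subgroup.normalizer (C : Set G) ∧
      Pair (Subgroup.normalizer (C : Set G))) :
    ∃ (S : Sylow 2 G) (M K : Subgroup G) (x s : G),
      (S : Subgroup G) ≤ M ∧ Nat.card M = 3 * Nat.card (S : Subgroup G) ∧
      x ∈ M ∧ orderOf x = 3 ∧ s ∈ S ∧ s ^ 2 = 1 ∧ s * x * s⁻¹ = x⁻¹ ∧
      K ≤ (S : Subgroup G) ∧ M ≤ Subgroup.normalizer (K : Set G) ∧
      2 * Nat.card K = Nat.card (S : Subgroup G) ∧ 16 ≤ Nat.card K ∧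
      M ⊓ Subgroup.centralizer (K : Set G) ≤ K ∧
      (∀ P : Subgroup G, IsPGroup 2 P → P ≠ ⊥ → M ≤ Subgroup.normalizer (P : Set G) →
        Subgroup.normalizer (P : Set G) = M) := by
  classical
  haveI : Fact (Nat.Prime 2) := ⟨Nat.prime_two⟩
  haveI : Fact (Nat.Prime 3) := ⟨Nat.prime_three⟩
  -- the locals with an element of order three and the largest Sylow 2-subgroup
  obtain ⟨U₀, ⟨hU₀, P₀, hP₀, hP₀1, hUP₀, hP₀3⟩, hmax⟩ := Set.exists_max_image
    {U : Subgroup G | IsPGroup 2 U ∧ ∃ P : Subgroup G, IsPGroup 2 P ∧ P ≠ ⊥ ∧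
      U ≤ normalizer (P : Set G) ∧ 3 ∣ Nat.card (normalizer (P : Set G))}
    (fun U => Nat.card U) (Set.toFinite _) (by
      obtain ⟨P, hP, hP1, hP3⟩ := hsome
      exact ⟨P, hP, P, hP, hP1, le_normalizer, hP3⟩)
  -- such a Sylow 2-subgroup is not normalised by an element of order three
  have noA : ∀ T : Subgroup G, IsPGroup 2 T → T ≠ ⊥ → Nat.card U₀ ≤ Nat.card T →
      ¬ 3 ∣ Nat.card (normalizer (T : Set G)) := by
    intro T hT hT1 hle h3
    obtain ⟨S, hTS⟩ := hT.exists_le_sylow
    rcases eq_or_lt_of_le hTS with hS | hlt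
    · obtain ⟨C, hCS, hC1, hNC, hCp⟩ := hchar S
      exact hloc C (S.2.to_le hCS) hC1 hCp (h3.trans (card_dvd_of_le (hS ▸ hNC)))
    · have hU := lt_inf_normalizer S.2 hlt
      have h := hmax _ ⟨S.2.to_le inf_le_right, T, hT, hT1, inf_le_left, h3⟩
      have := Set.Finite.card_lt_card (Set.toFinite _) (SetLike.coe_ssubset_coe.2 hU)
      simp only [SetLike.coe_sort_coe] at this
      omega
  -- the largest ones are of shape `K : S3`
  have hsix : ∀ P : Subgroup G, IsPGroup 2 P → P ≠ ⊥ → U₀ ≤ normalizer (P : Set G) →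
      3 ∣ Nat.card (normalizer (P : Set G)) →
      ∃ K : Subgroup G, IsPGroup 2 K ∧ K ≠ ⊥ ∧ K ≤ normalizer (P : Set G) ∧
        normalizer (P : Set G) ≤ normalizer (K : Set G) ∧
        normalizer (P : Set G) ⊓ centralizer (K : Set G) ≤ K ∧
        Nat.card (normalizer (P : Set G)) = 6 * Nat.card K ∧ Nat.card U₀ = 2 * Nat.card K := by
    intro P hP hP1 hUP h3
    obtain ⟨K, hKp, hK1, hKX, hXK, hcons, hc⟩ := hshape P hP hP1 h3
    obtain ⟨a, ha⟩ := IsPGroup.iff_card.1 hU₀
    obtain ⟨k, hk⟩ := IsPGroup.iff_card.1 hKp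
    have hd := card_dvd_of_le hUP
    rcases hc with hc | hc | ⟨hc, T, hT, hTX, hTc, hT3⟩
    · exfalso
      refine noA K hKp hK1 ?_ (h3.trans (card_dvd_of_le hXK))
      rw [hc, ha, hk] at hd
      rw [ha, hk]
      exact Nat.le_of_dvd (pow_pos two_pos _)
        ((Nat.Coprime.pow_left a (by norm_num : Nat.Coprime 2 3)).dvd_of_dvd_mul_left hd)
    · refine ⟨K, hKp, hK1, hKX, hXK, hcons, hc, ?_⟩
      rw [hc, ha, hk, show 6 * 2 ^ k = 3 * 2 ^ (k + 1) by ring] at hd
      have hd' := Nat.le_of_dvd (pow_pos two_pos _)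
        ((Nat.Coprime.pow_left a (by norm_num : Nat.Coprime 2 3)).dvd_of_dvd_mul_left hd)
      -- a Sylow 2-subgroup of the local competes
      obtain ⟨Q⟩ : Nonempty (Sylow 2 (normalizer (P : Set G))) := inferInstance
      have hQc : Nat.card ((Q : Subgroup (normalizer (P : Set G))).map
          (normalizer (P : Set G)).subtype) = 2 ^ (k + 1) := by
        rw [card_map_of_injective (subtype_injective _), Q.card_eq_multiplicity, hc, hk,
          show 6 * 2 ^ k = 3 * 2 ^ (k + 1) by ring,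
          Nat.factorization_mul (by norm_num) (pow_ne_zero _ (by norm_num)), Finsupp.add_apply,
          Nat.Prime.factorization_pow Nat.prime_two, Finsupp.single_eq_same,
          Nat.factorization_eq_zero_of_not_dvd (by norm_num), zero_add]
      have h := hmax _ ⟨Q.2.map _, P, hP, hP1, map_subtype_le _, h3⟩
      rw [hQc, ha] at h
      rw [ha, hk, ← pow_succ']
      exact le_antisymm hd' h
    · exfalso
      refine noA T hT ?_ ?_ hT3
      · intro e
        subst e
        rw [card_bot, hk] at hTc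
        have := Nat.pow_pos (n := k) two_pos
        omega
      · rw [hc, ha, hk, show 60 * 2 ^ k = 15 * 2 ^ (k + 2) by ring] at hd
        rw [hTc, ha, hk, show 4 * 2 ^ k = 2 ^ (k + 2) by ring]
        exact Nat.le_of_dvd (pow_pos two_pos _)
          ((Nat.Coprime.pow_left a (by norm_num : Nat.Coprime 2 15)).dvd_of_dvd_mul_left hd)
  obtain ⟨K, hKp, hKne, hKX, hXK, hcons, hcard, hU₀c⟩ := hsix P₀ hP₀ hP₀1 hUP₀ hP₀3
  obtain ⟨X, hXdef⟩ : ∃ X, X = normalizer (P₀ : Set G) := ⟨_, rfl⟩
  rw [← hXdef] at hKX hXK hcons hcard hP₀3 hUP₀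
  have hXmax : ∀ P : Subgroup G, IsPGroup 2 P → P ≠ ⊥ → X ≤ normalizer (P : Set G) →
      normalizer (P : Set G) = X := by
    intro P hP hP1 hle
    obtain ⟨K', -, -, -, -, -, hc', hU'⟩ :=
      hsix P hP hP1 (hUP₀.trans hle) (hP₀3.trans (card_dvd_of_le hle))
    exact (eq_of_le_of_card_ge hle (by omega)).symm
  obtain ⟨⟨x, hxX⟩, hx'⟩ := exists_prime_orderOf_dvd_card' 3 hP₀3
  have hx : orderOf x = 3 := (Subgroup.orderOf_coe (⟨x, hxX⟩ : X)).trans hx'
  have hK3 : Nat.card K % 3 = 1 := mod_three hcen3 hx hKp (hXK hxX)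
  have hNK : normalizer (K : Set G) = X := hXmax K hKp hKne hXK
  have hfour' : Nat.card K ≠ 4 := fun h => hfour K h
    (sq_eq_one_of_card_four hcen3 hx (hXK hxX) h)
    fun g hg => hcons ⟨hNK ▸ (centralizer_le_normalizer (s := (K : Set G)) hg), hg⟩
  -- no larger 2-group normalises a non-trivial 2-group normalised by `X`
  have hbig : ∀ U C : Subgroup G, IsPGroup 2 U → IsPGroup 2 C → C ≠ ⊥ →
      U ≤ normalizer (C : Set G) → X ≤ normalizer (C : Set G) → 3 * Nat.card U ≤ Nat.card X := by
    intro U C hU hC hC1 hUC hXC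
    rw [hXmax C hC hC1 hXC] at hUC
    obtain ⟨n, hn⟩ := IsPGroup.iff_card.1 hU
    refine Nat.le_of_dvd Nat.card_pos ?_
    exact Nat.Coprime.mul_dvd_of_dvd_of_dvd (by rw [hn]; exact Nat.Coprime.pow_right n (by norm_num))
      hP₀3 (card_dvd_of_le hUC)
  obtain ⟨s, hsX, hs2, hs1, hsx⟩ := exists_inverting hcen3 hxX hx hcard hK3
  have hsp : IsPGroup 2 (zpowers s) := by
    refine IsPGroup.of_card (n := 1) ?_
    rw [Nat.card_zpowers, pow_one]
    exact orderOf_eq_prime hs2 hs1
  obtain ⟨T', hT'⟩ := (hsp.comap_of_injective X.subtype X.subtype_injective).exists_le_sylow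
  obtain ⟨T, hTdef⟩ : ∃ T, T = (T' : Subgroup X).map X.subtype := ⟨_, rfl⟩
  have hTX : T ≤ X := hTdef ▸ map_subtype_le _
  have hTp : IsPGroup 2 T := hTdef ▸ T'.2.map _
  have hsT : s ∈ T := hTdef ▸ ⟨⟨s, hsX⟩, hT' (mem_comap.2 (mem_zpowers s)), rfl⟩
  obtain ⟨k, hk⟩ := IsPGroup.iff_card.1 hKp
  have hTcard : Nat.card T = 2 * Nat.card K := by
    rw [hTdef, card_map_of_injective X.subtype_injective, T'.card_eq_multiplicity, hcard, hk,
      show 6 * 2 ^ k = 3 * 2 ^ (k + 1) by ring, show 2 * 2 ^ k = 2 ^ (k + 1) by ring,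
      Nat.factorization_mul (by norm_num) (pow_ne_zero _ (by norm_num)), Finsupp.add_apply,
      Nat.Prime.factorization_pow Nat.prime_two, Finsupp.single_eq_same,
      Nat.factorization_eq_zero_of_not_dvd (by norm_num), zero_add]
  have hKT : K ≤ T := by
    have hsup : IsPGroup 2 (T ⊔ K : Subgroup G) :=
      hTp.to_sup_of_normal_right' hKp (hTX.trans hXK)
    obtain ⟨n, hn⟩ := IsPGroup.iff_card.1 hsup
    have hd : 2 ^ n ∣ 3 * Nat.card T := by
      rw [← hn, show 3 * Nat.card T = Nat.card X by omega]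
      exact card_dvd_of_le (sup_le hTX hKX)
    have hd' := (Nat.Coprime.pow_left n (by norm_num : Nat.Coprime 2 3)).dvd_of_dvd_mul_left hd
    rw [eq_of_le_of_card_ge (le_sup_left : T ≤ T ⊔ K) (hn ▸ Nat.le_of_dvd Nat.card_pos hd')]
    exact le_sup_right
  have hxT : x ∉ normalizer (T : Set G) := fun h => by
    have := mod_three hcen3 hx hTp h
    omega
  obtain ⟨S, hTS⟩ := hTp.exists_le_sylow
  rcases eq_or_lt_of_le hTS with hS | hlt
  · -- `T` is a Sylow subgroup
    subst hS
    refine ⟨S, X, K, x, s, hTX, ?_, hxX, hx, hsT, hs2, hsx, hKT, hXK, hTcard.symm, ?_, hcons, hXmax⟩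
    · omega
    · obtain hk1 | hk1 := Nat.lt_or_ge k 4
      · exfalso
        rw [hk] at hK3 hfour'
        interval_cases k
        · exact hKne (eq_bot_of_card_eq _ hk)
        · omega
        · omega
        · omega
      · rw [hk]
        exact (by norm_num : 16 = 2 ^ 4).le.trans (Nat.pow_le_pow_right (by norm_num) hk1)
  · exfalso
    have hno : ∀ C : Subgroup G, C ≤ T → C ≠ ⊥ →
        normalizer (T : Set G) ≤ normalizer (C : Set G) → ¬ X ≤ normalizer (C : Set G) := by
      intro C hCT hC1 hNC hXC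
      have hU := lt_inf_normalizer S.2 hlt
      have h := hbig _ C (S.2.to_le inf_le_right) (hTp.to_le hCT) hC1
        (inf_le_left.trans hNC) hXC
      have := Set.Finite.card_lt_card (Set.toFinite _) (SetLike.coe_ssubset_coe.2 hU)
      simp only [SetLike.coe_sort_coe] at this
      omega
    haveI : Nontrivial T := by
      rw [← Finite.one_lt_card_iff_nontrivial, hTcard]
      have : 0 < Nat.card K := Nat.card_pos
      omega
    rcases CfsgLib.PushAmalgam.hasPair_or_exceptional (p := 2) hTp with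
      ⟨S₁, S₂, h1, h2, hc1, hc2, -, -, -, -, hn⟩ | hex
    · haveI : (K.subgroupOf X).Normal := (normal_subgroupOf_iff_le_normalizer hKX).2 hXK
      have hsit : CfsgLib.PushUp.Sit 2 (T.subgroupOf X) := by
        refine sit_of_six (K.subgroupOf X) (T.subgroupOf X)
          (comap_mono hKT) (hTp.of_equiv (subgroupOfEquivOfLe hTX).symm) ?_ ?_ ?_ ?_
        · rw [Nat.card_congr (subgroupOfEquivOfLe hKX).toEquiv, hcard]
        · rw [Nat.card_congr (subgroupOfEquivOfLe hKX).toEquiv,
            Nat.card_congr (subgroupOfEquivOfLe hTX).toEquiv, hTcard]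
        · exact fun h => hxT ((normal_subgroupOf_iff_le_normalizer hTX).1 h hxX)
        · intro g hg
          refine mem_subgroupOf.2 (hcons ⟨g.2, mem_centralizer_iff.2 fun a ha => ?_⟩)
          exact congrArg Subtype.val (mem_centralizer_iff.1 hg ⟨a, hKX ha⟩ ha)
      have hr : (inclusion hTX).range = T.subgroupOf X := by
        ext g
        exact ⟨fun ⟨a, ha⟩ => ha ▸ a.2, fun hg => ⟨⟨g, hg⟩, rfl⟩⟩
      have key : ∀ W : Subgroup T, W ≠ ⊥ → W.Characteristic → (W.map (inclusion hTX)).Normal → False := by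
        intro W hW hWc hWn
        haveI := hWc
        refine hno (W.map T.subtype) (map_subtype_le _) (fun e => hW ?_)
          (CfsgLib.LS.normalizer_le_normalizer_map_char W) ?_
        · exact (map_eq_bot_iff_of_injective _ T.subtype_injective).1 e
        · have h := (normal_subgroupOf_iff_le_normalizer (H := W.map T.subtype)
            ((map_subtype_le _).trans hTX)).1
          refine h ?_
          have e : (W.map T.subtype).subgroupOf X = W.map (inclusion hTX) := by
            rw [show T.subtype = X.subtype.comp (inclusion hTX) from rfl, ← map_map]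
            exact comap_map_eq_self_of_injective X.subtype_injective _
          rw [e]
          exact hWn
      rcases hn X (inclusion hTX) (inclusion_injective hTX) (hr ▸ hsit) with h | h
      · exact key S₁ h1 hc1 h
      · exact key S₂ h2 hc2 h
    · have hsq : ∀ a ∈ T, ∀ b ∈ T, a ^ 2 * b = b * a ^ 2 := by
        intro a ha b hb
        have h := mem_center_iff.1 (hex.frattini_two rfl
          (CfsgLib.Coprime.pow_mem_frattini (p := 2) hTp ⟨a, ha⟩)) ⟨b, hb⟩
        exact (congrArg Subtype.val h).symm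
      -- `K` is elementary abelian
      have hfix : ∀ v ∈ K, s * v = v * s →
          (x⁻¹ * v * x) * s = s * (x⁻¹ * v * x) → v = 1 := by
        intro v hv h1 h2
        refine eq_one_of_commute hcen3 hx hKp hv ?_
        have c1 : Commute v s := h1.symm
        have c3 : Commute (x * (x⁻¹ * v * x) * x⁻¹) (x * s * x⁻¹) := (Commute.conj_iff x).2 h2
        rw [show x * (x⁻¹ * v * x) * x⁻¹ = v by group] at c3
        have c4 : Commute v ((x * s * x⁻¹) * s) := c3.mul_right c1
        have hsinv : s⁻¹ = s := inv_eq_of_mul_eq_one_left (by rw [← pow_two, hs2])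
        have e : (x * s * x⁻¹) * s = x * x := by
          have h' : s * x⁻¹ * s = x := by
            nth_rw 2 [← hsinv]
            calc s * x⁻¹ * s⁻¹ = (s * x * s⁻¹)⁻¹ := by group
              _ = x := by rw [hsx, inv_inv]
          calc (x * s * x⁻¹) * s = x * (s * x⁻¹ * s) := by group
            _ = x * x := by rw [h']
        rw [e] at c4
        have e2 : x = (x * x) * (x * x) := by
          have h3 : x ^ 3 = 1 := hx ▸ pow_orderOf_eq_one x
          calc x = x ^ 3 * x := by rw [h3, one_mul]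
            _ = (x * x) * (x * x) := by simp [pow_succ, mul_assoc]
        exact (e2 ▸ c4.mul_right c4 : Commute v x).symm
      have hKsq : ∀ a ∈ K, a ^ 2 = 1 := by
        intro a ha
        refine hfix _ (pow_mem ha 2) (hsq a (hKT ha) s hsT).symm ?_
        have ha' : x⁻¹ * a * x ∈ K := by
          have := (mem_normalizer_iff.1 ((normalizer (K : Set G)).inv_mem (hXK hxX)) a).1 ha
          rwa [inv_inv] at this
        have e : x⁻¹ * a ^ 2 * x = (x⁻¹ * a * x) ^ 2 := by
          simp only [pow_two]; group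
        rw [e]
        exact hsq _ (hKT ha') s hsT
      haveI hKc : IsMulCommutative K := ⟨⟨fun a b => by
        have h : ∀ c : K, c⁻¹ = c := fun c => inv_eq_of_mul_eq_one_left
          (Subtype.ext (by simpa [pow_two] using hKsq c c.2))
        calc a * b = (a * b)⁻¹ := (h _).symm
          _ = b * a := by rw [mul_inv_rev, h, h]⟩⟩
      by_cases hJ : ∀ A ∈ maxAb T, A ≤ K
      · refine hno (sSup (maxAb T)) (sSup_le fun A hA => hA.1) ?_ ?_ ?_
        · intro e
          obtain ⟨A, hA⟩ := exists_maxAb T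
          have h1 := hA.2.2 K hKT hKc
          have hA0 : A = ⊥ := le_bot_iff.1 (e ▸ le_sSup hA)
          rw [hA0, card_bot] at h1
          exact hKne (eq_bot_of_card_le _ h1)
        · intro g hg
          refine mem_normalizer_sSup_maxAb fun A hA => ?_
          exact (map_mono hA.1).trans (mem_normalizer_iff_map_conj_eq.1 hg).le
        · intro g hg
          refine mem_normalizer_sSup_maxAb fun A hA => ?_
          exact ((map_mono (hJ A hA)).trans (mem_normalizer_iff_map_conj_eq.1 (hXK hg)).le).trans hKT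
      · push Not at hJ
        obtain ⟨A, ⟨hAT, hAc, hAmax⟩, hAK⟩ := hJ
        obtain ⟨a, haA, haK⟩ := SetLike.not_le_iff_exists.1 hAK
        obtain ⟨C, hC⟩ : ∃ C, C = K ⊓ centralizer ({s} : Set G) := ⟨_, rfl⟩
        have hCK : C ≤ K := hC ▸ inf_le_left
        -- the fixed points of `s` have square order at most `|K|`
        have hCC : Nat.card C * Nat.card C ≤ Nat.card K := by
          have hmem : ∀ c ∈ C, c ∈ K ∧ c * s = s * c := fun c hc => by
            rw [hC] at hc
            exact ⟨hc.1, mem_centralizer_singleton_iff.1 hc.2⟩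
          rw [← Nat.card_prod]
          refine Nat.card_le_card_of_injective (fun p : C × C =>
            (⟨(p.1 : G) * (x * (p.2 : G) * x⁻¹), mul_mem (hCK p.1.2)
              ((mem_normalizer_iff.1 (hXK hxX) _).1 (hCK p.2.2))⟩ : K)) ?_
          rintro ⟨a1, b1⟩ ⟨a2, b2⟩ he
          have he' : (a1 : G) * (x * b1 * x⁻¹) = a2 * (x * b2 * x⁻¹) := congrArg Subtype.val he
          have hv : (a2 : G)⁻¹ * a1 = 1 := by
            have e3 : (a2 : G)⁻¹ * a1 = x * ((b2 : G) * (b1 : G)⁻¹) * x⁻¹ := by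
              calc (a2 : G)⁻¹ * a1 = (a2 : G)⁻¹ * ((a1 : G) * (x * b1 * x⁻¹)) * (x * b1 * x⁻¹)⁻¹ := by group
                _ = x * ((b2 : G) * (b1 : G)⁻¹) * x⁻¹ := by rw [he']; group
            refine hfix _ (mul_mem (inv_mem (hCK a2.2)) (hCK a1.2))
              (hmem _ (mul_mem (inv_mem a2.2) a1.2)).2.symm ?_
            rw [e3, show x⁻¹ * (x * ((b2 : G) * (b1 : G)⁻¹) * x⁻¹) * x = (b2 : G) * (b1 : G)⁻¹ by group]
            exact (hmem _ (mul_mem b2.2 (inv_mem b1.2))).2
          have ea : (a1 : G) = a2 := (inv_mul_eq_one.1 hv).symm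
          rw [ea] at he'
          have eb : (b1 : G) = b2 := mul_left_cancel (mul_right_cancel (mul_left_cancel he'))
          exact Prod.ext (Subtype.ext ea) (Subtype.ext eb)
        have hrel : K.relIndex T = 2 := by
          have h := K.relIndex_mul_index (K := ⊤) le_top
          have h2 := card_mul_rel hKT
          exact Nat.eq_of_mul_eq_mul_left Nat.card_pos (h2.trans (hTcard.trans (mul_comm _ _)))
        -- `A ∩ K` is centralised by `s`
        have hAC : A ⊓ K ≤ C := by
          intro c hc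
          have hsa : s⁻¹ * a ∈ K := by
            have hsK : s ∉ K := fun h => by
              have hxs := (mem_normalizer_iff.1 (hXK hxX) s).1 h
              have h' := mul_mem hxs (inv_mem h)
              have e : x * s * x⁻¹ * s⁻¹ = x * x := by
                calc x * s * x⁻¹ * s⁻¹ = x * (s * x * s⁻¹)⁻¹ := by group
                  _ = x * x := by rw [hsx, inv_inv]
              rw [e] at h'
              have := eq_one_of_commute hcen3 hx hKp h' (by group)
              have h2 := orderOf_dvd_of_pow_eq_one ((pow_two x).trans this)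
              rw [hx] at h2
              omega
            exact (mul_mem_iff_of_index_two (G := T) (H := K.subgroupOf T) hrel
              (a := ⟨s⁻¹, inv_mem hsT⟩) (b := ⟨a, hAT haA⟩)).2
              (iff_of_false (fun h => hsK (by simpa using inv_mem (mem_subgroupOf.1 h)))
                fun h => haK (mem_subgroupOf.1 h))
          rw [hC]
          refine ⟨hc.2, mem_centralizer_singleton_iff.2 ?_⟩
          have h1 : Commute c a := congrArg Subtype.val
            (hAc.is_comm.comm ⟨c, hc.1⟩ ⟨a, haA⟩)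
          have h2 : Commute c (s⁻¹ * a) := congrArg Subtype.val
            (hKc.is_comm.comm ⟨c, hc.2⟩ ⟨_, hsa⟩)
          have h3 := h1.mul_right h2.inv_right
          rw [show a * (s⁻¹ * a)⁻¹ = s by group] at h3
          exact h3
        have hA2 : Nat.card A ≤ Nat.card C * 2 := by
          have h1 := card_mul_rel (inf_le_left : A ⊓ K ≤ A)
          have h2 : (A ⊓ K).relIndex A ≤ 2 := by
            rw [inf_relIndex_left, ← hrel]
            exact relIndex_le_of_le_right hAT (by rw [hrel]; norm_num)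
          calc Nat.card A = Nat.card (A ⊓ K : Subgroup G) * (A ⊓ K).relIndex A := h1.symm
            _ ≤ Nat.card C * 2 := Nat.mul_le_mul (card_le_of_le hAC) h2
        have hK4 : Nat.card K ≤ 4 := by
          have h := hAmax K hKT hKc
          nlinarith [Nat.card_pos (α := C)]
        have h1 : Nat.card K ≠ 1 := fun h => hKne (eq_bot_of_card_eq _ h)
        omega

/-- A four group normalising an elementary abelian group of order eight is not self-centralising. -/
theorem not_self_centralizing_four [Finite G] {K A : Subgroup G} (hK : Nat.card K = 4)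
    (hKe : ∀ a ∈ K, a ^ 2 = 1) (hA : Nat.card A = 8) (hAe : ∀ a ∈ A, a ^ 2 = 1)
    (hKA : K ≤ normalizer (A : Set G)) : ¬ centralizer (K : Set G) ≤ K := by
  classical
  intro hC
  haveI : Fact (Nat.Prime 2) := ⟨Nat.prime_two⟩
  have comm : ∀ H : Subgroup G, (∀ a ∈ H, a ^ 2 = 1) → ∀ a ∈ H, ∀ b ∈ H, a * b = b * a := by
    intro H he a ha b hb
    have inv : ∀ c ∈ H, c⁻¹ = c := fun c hc =>
      inv_eq_of_mul_eq_one_left (by rw [← pow_two, he c hc])
    calc a * b = (a * b)⁻¹ := (inv _ (H.mul_mem ha hb)).symm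
      _ = b * a := by rw [mul_inv_rev, inv a ha, inv b hb]
  let act : MulAction K A :=
    { smul := fun g a => ⟨(g : G) * a * (g : G)⁻¹, (mem_normalizer_iff.1 (hKA g.2) a).1 a.2⟩
      one_smul := fun a => Subtype.ext (show (1 : G) * a * (1 : G)⁻¹ = a by simp)
      mul_smul := fun g h a => Subtype.ext
        (show ((g : G) * h) * a * ((g : G) * h)⁻¹ = g * (h * a * (h : G)⁻¹) * (g : G)⁻¹ by group) }
  -- some non-trivial element of `A` is centralised by `K`, hence lies in `K`
  obtain ⟨a₀, ha₀A, ha₀K, ha₀⟩ : ∃ a₀ ∈ A, a₀ ∈ K ∧ a₀ ≠ 1 := by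
    have hKp : IsPGroup 2 K := IsPGroup.of_card (n := 2) hK
    have h := hKp.card_modEq_card_fixedPoints (α := A)
    by_contra hno
    push Not at hno
    have hfix : Nat.card (MulAction.fixedPoints K A) = 1 := by
      have key : ∀ c : MulAction.fixedPoints K A, ((c : A) : G) = 1 := fun c => by
        refine hno _ (c : A).2 (hC (mem_centralizer_iff.2 fun k hk => ?_))
        have := congrArg Subtype.val (c.2 ⟨k, hk⟩)
        exact mul_inv_eq_iff_eq_mul.1 (show k * ((c : A) : G) * k⁻¹ = _ from this)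
      rw [Nat.card_eq_one_iff_unique]
      refine ⟨⟨fun a b => Subtype.ext (Subtype.ext ((key a).trans (key b).symm))⟩,
        ⟨⟨1, fun g => Subtype.ext (show (g : G) * (1 : G) * (g : G)⁻¹ = 1 by simp)⟩⟩⟩
    rw [hfix, hA, Nat.ModEq] at h
    omega
  obtain ⟨b, hbK, hbA⟩ : ∃ b ∈ K, b ∉ A := by
    by_contra hno
    push Not at hno
    have hAC : A ≤ K := fun a ha => hC (mem_centralizer_iff.2 fun k hk => comm A hAe k (hno k hk) a ha)
    have := card_le_of_le hAC
    omega
  have hgen : closure {a₀, b} = K := by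
    refine eq_of_le_of_card_ge ((closure_le _).2 (by simp [Set.insert_subset_iff, ha₀K, hbK])) ?_
    by_contra hlt
    push Not at hlt
    have ha2 : orderOf a₀ = 2 := orderOf_eq_prime (hAe a₀ ha₀A) ha₀
    have hle : zpowers a₀ ≤ closure {a₀, b} := zpowers_le.2 (subset_closure (by simp))
    have hd := card_dvd_of_le ((closure_le _).2
      (by simp [Set.insert_subset_iff, ha₀K, hbK] : ({a₀, b} : Set G) ⊆ K))
    have h2 := card_le_of_le hle
    rw [Nat.card_zpowers, ha2] at h2
    rw [hK] at hd hlt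
    have h4 : Nat.card (closure {a₀, b}) = 2 := by
      have := Nat.le_of_dvd (by norm_num) hd
      interval_cases h : Nat.card (closure {a₀, b}) <;> omega
    have heq : zpowers a₀ = closure {a₀, b} :=
      eq_of_le_of_card_ge hle (by rw [h4, Nat.card_zpowers, ha2])
    exact hbA (zpowers_le.2 ha₀A (heq.ge (subset_closure (by simp))))
  -- the commutator map with `b`
  let f : A →* A :=
    { toFun := fun a => ⟨(a : G) * (b * a * b⁻¹), mul_mem a.2 ((mem_normalizer_iff.1 (hKA hbK) a).1 a.2)⟩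
      map_one' := Subtype.ext (show (1 : G) * (b * 1 * b⁻¹) = 1 by simp)
      map_mul' := fun a c => Subtype.ext (by
        show (a : G) * c * (b * (a * c) * b⁻¹) = a * (b * a * b⁻¹) * (c * (b * c * b⁻¹))
        have h := comm A hAe c c.2 _ ((mem_normalizer_iff.1 (hKA hbK) a).1 a.2)
        calc (a : G) * c * (b * (a * c) * b⁻¹) = a * (c * (b * a * b⁻¹)) * (b * c * b⁻¹) := by group
          _ = a * ((b * a * b⁻¹) * c) * (b * c * b⁻¹) := by rw [h]
          _ = a * (b * a * b⁻¹) * (c * (b * c * b⁻¹)) := by group) }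
  have hker : ∀ a : A, a ∈ f.ker → (a : G) ∈ zpowers a₀ := by
    intro a ha
    have h1 : (a : G) * (b * a * b⁻¹) = 1 := congrArg Subtype.val (MonoidHom.mem_ker.1 ha)
    have hinv : (a : G)⁻¹ = a := inv_eq_of_mul_eq_one_left (by rw [← pow_two, hAe a a.2])
    have hb : b * a = a * b := by
      rw [← mul_inv_eq_iff_eq_mul]
      exact (inv_eq_of_mul_eq_one_right h1).symm.trans hinv
    have haK : (a : G) ∈ K := by
      refine hC ?_
      rw [← hgen, centralizer_closure]
      refine mem_centralizer_iff.2 fun g hg => ?_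
      rcases hg with rfl | rfl
      · exact comm A hAe g ha₀A a a.2
      · exact hb
    by_contra hn
    -- otherwise `K` would lie in `A`
    have hle : K ≤ A := by
      have hsup : closure {a₀, (a : G)} = K := by
        refine eq_of_le_of_card_ge ((closure_le _).2 (by simp [Set.insert_subset_iff, ha₀K, haK])) ?_
        have hlt : zpowers a₀ < closure {a₀, (a : G)} :=
          SetLike.lt_iff_le_and_exists.2 ⟨zpowers_le.2 (subset_closure (Set.mem_insert _ _)),
            (a : G), subset_closure (Set.mem_insert_of_mem _ rfl), hn⟩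
        have := Set.Finite.card_lt_card (Set.toFinite _) (SetLike.coe_ssubset_coe.2 hlt)
        simp only [SetLike.coe_sort_coe] at this
        rw [Nat.card_zpowers, orderOf_eq_prime (hAe a₀ ha₀A) ha₀] at this
        have hd := card_dvd_of_le ((closure_le _).2
          (by simp [Set.insert_subset_iff, ha₀K, haK] : ({a₀, (a : G)} : Set G) ⊆ K))
        rw [hK] at hd ⊢
        have := Nat.le_of_dvd (by norm_num) hd
        interval_cases h : Nat.card (closure {a₀, (a : G)}) <;> omega
      rw [← hsup, closure_le]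
      simp [Set.insert_subset_iff, ha₀A]
    exact hbA (hle hbK)
  have hrk : f.range ≤ f.ker := by
    rintro _ ⟨a, rfl⟩
    refine MonoidHom.mem_ker.2 (Subtype.ext ?_)
    show (a : G) * (b * a * b⁻¹) * (b * (a * (b * a * b⁻¹)) * b⁻¹) = 1
    have hb2 : b * b = 1 := by rw [← pow_two, hKe b hbK]
    have ha' := (mem_normalizer_iff.1 (hKA hbK) a).1 a.2
    calc (a : G) * (b * a * b⁻¹) * (b * (a * (b * a * b⁻¹)) * b⁻¹)
        = (a : G) * (b * a * b⁻¹) * ((b * a * b⁻¹) * ((b * b) * a * (b * b)⁻¹)) := by group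
      _ = a * ((b * a * b⁻¹) * (b * a * b⁻¹)) * a := by rw [hb2]; group
      _ = 1 := by
        rw [← pow_two, hAe _ ha', mul_one, ← pow_two, hAe _ a.2]
  have hk2 : Nat.card f.ker ≤ 2 := by
    have h2 : Nat.card (zpowers a₀) = 2 := by
      rw [Nat.card_zpowers, orderOf_eq_prime (hAe a₀ ha₀A) ha₀]
    rw [← h2]
    refine Nat.card_le_card_of_injective (fun a : f.ker => (⟨((a : A) : G), hker a a.2⟩ : zpowers a₀)) ?_
    intro u v h
    exact Subtype.ext (Subtype.ext (congrArg (fun w : zpowers a₀ => (w : G)) h))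
  have hcard := f.ker.card_mul_index
  rw [index_ker, hA] at hcard
  have := card_le_of_le hrk
  nlinarith

end CfsgLib.NineAmalgam
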