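import Cfsg.Agent.Lib.SmallSimple.NineAmalgam.RankQD
import Cfsg.Agent.Lib.Recog.SubThree.MaxClass
import Cfsg.Agent.Lib.Char.SmallRamified.Sixteen
import Cfsg.Agent.Lib.Char.SmallRamified.Primes
import Cfsg.Agent.S0516
import Cfsg.Agent.S0486

/-!
# The 2-rank is at least three
-/

set_option autoImplicit false
set_option linter.unusedSectionVars false
set_option linter.style.haveILetI false

namespace CfsgLib.NineAmalgam

open Subgroup

universe u

variable {G : Type u} [Group G] [Finite G] [IsSimpleGroup G]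

/-- `PSL(2, F)` in characteristic different from three has cyclic Sylow 3-subgroups, unlike `G`. -/
theorem Setting.not_psl (D : Setting G) {F : Type} [Field F] [Fintype F] (h3 : ¬ 3 ∣ Fintype.card F)
    (e : G ≃* Matrix.ProjectiveSpecialLinearGroup (Fin 2) F) : False := by
  haveI : Fact (Nat.Prime 3) := ⟨Nat.prime_three⟩
  obtain ⟨p, hch⟩ := CharP.exists F
  haveI := hch
  obtain ⟨n, hp, hn⟩ := FiniteField.card F p
  haveI := Fact.mk hp
  have hp3 : (3 : ℕ) ≠ p := fun he => h3 (by rw [hn, ← he]; exact dvd_pow_self 3 n.ne_zero)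
  obtain ⟨T, hT⟩ := (D.R.2.map e.toMonoidHom).exists_le_sylow
  haveI := CfsgLib.Char.SmallRamified.psl_sylow_cyclic (p := p) (by norm_num : (3 : ℕ) ≠ 2) hp3 T
  haveI : IsCyclic ↥((D.R : Subgroup G).map e.toMonoidHom) :=
    isCyclic_of_injective (inclusion hT) (inclusion_injective hT)
  haveI : IsCyclic ↥(D.R : Subgroup G) :=
    isCyclic_of_surjective ((D.R : Subgroup G).equivMapOfInjective e.toMonoidHom e.injective).symm.toMonoidHom
      ((D.R : Subgroup G).equivMapOfInjective e.toMonoidHom e.injective).symm.surjective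
  obtain ⟨r, hr⟩ := IsCyclic.exists_generator (α := ↥(D.R : Subgroup G))
  have h9 : orderOf r = 9 := by rw [orderOf_eq_card_of_forall_mem_zpowers hr]; exact D.hR9
  have h3' := orderOf_dvd_of_pow_eq_one (D.hR3 (r : G) r.2)
  rw [Subgroup.orderOf_coe, h9] at h3'
  norm_num at h3'

theorem Setting.sylow_ge_eight (D : Setting G) (S : Sylow 2 G) :
    8 ∣ Nat.card (S : Subgroup G) := by
  haveI : Fact (Nat.Prime 2) := ⟨Nat.prime_two⟩
  obtain ⟨E, hE, hE8, -⟩ := D.exists_eight
  obtain ⟨T, hT⟩ := hE.exists_le_sylow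
  rw [Sylow.card_eq_multiplicity, ← Sylow.card_eq_multiplicity (p := 2) T, ← hE8]
  exact Subgroup.card_dvd_of_le hT

theorem Setting.not_dihedral (D : Setting G) (S : Sylow 2 G) {n : ℕ} (hn : 2 ≤ n)
    (e : (S : Subgroup G) ≃* DihedralGroup n) : False := by
  haveI : Fact (Nat.Prime 2) := ⟨Nat.prime_two⟩
  have hc : Nat.card (S : Subgroup G) = 2 * n := by
    rw [Nat.card_congr e.toEquiv, DihedralGroup.nat_card]
  have h8 := D.sylow_ge_eight S
  obtain ⟨k, hk⟩ := IsPGroup.iff_card.mp S.2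
  have hk3 : 3 ≤ k := by
    have := Nat.le_of_dvd Nat.card_pos h8
    rw [hk] at this
    exact (Nat.pow_le_pow_iff_right (by norm_num : 1 < 2)).mp (show 2 ^ 3 ≤ 2 ^ k from this)
  rcases eq_or_lt_of_le hk3 with hk3' | hk4
  · have hS8 : Nat.card (S : Subgroup G) = 8 := by rw [hk, ← hk3']; norm_num
    have h2 : ∀ i : ZMod n, orderOf ((e.symm (DihedralGroup.sr i) : (S : Subgroup G)) : G) = 2 :=
      fun i => by rw [Subgroup.orderOf_coe, MulEquiv.orderOf_eq, DihedralGroup.orderOf_sr]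
    have h01 := D.unique_invol S hS8 _ _ (e.symm (.sr 0)).2 (e.symm (.sr 1)).2 (h2 0) (h2 1)
    haveI : Fact (1 < n) := ⟨by omega⟩
    have := e.symm.injective (Subtype.ext h01)
    exact zero_ne_one (DihedralGroup.sr.inj this)
  have h16 : 16 ∣ Nat.card G :=
    ((hk ▸ Nat.pow_dvd_pow 2 (show 4 ≤ k by omega) : 2 ^ 4 ∣ Nat.card (S : Subgroup G))).trans
      (Subgroup.card_subgroup_dvd_card _)
  obtain ⟨F, i, j, hodd, hmod, ⟨e'⟩⟩ :=
    CfsgLib.Recog.SubThree.dihedral_simple D.hna (CfsgLib.GW.dihTwo_of_sylow S hn e) h16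
  by_cases h3 : 3 ∣ Fintype.card F
  swap
  · exact D.not_psl h3 e'
  obtain ⟨p, hch⟩ := CharP.exists F
  obtain ⟨f, hp, hf⟩ := FiniteField.card F p
  obtain rfl : p = 3 := ((Nat.prime_dvd_prime_iff_eq Nat.prime_three hp).mp
    (Nat.prime_three.dvd_of_dvd_pow (hf ▸ h3))).symm
  have hp2 := CfsgLib.Classical.card_psl2 (F := F)
  rw [← Nat.card_congr e'.toEquiv, D.hcard, hf] at hp2
  obtain ⟨c, hc'⟩ := hf ▸ hodd
  rw [show Nat.gcd 2 (3 ^ (f : ℕ) - 1) = 2 from Nat.gcd_eq_left ⟨c, by omega⟩] at hp2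
  have hf2 : (f : ℕ) ≤ 2 := by
    by_contra hgt
    have h27 : 3 ^ 3 ∣ 2 * (9 * 2 ^ D.a * D.q ^ D.b) := by
      rw [hp2]
      exact (Nat.pow_dvd_pow 3 (by omega)).mul_right _
    have h3' : 3 ∣ 2 * (2 ^ D.a * D.q ^ D.b) := Nat.dvd_of_mul_dvd_mul_left (by norm_num : 0 < 9)
      (show 9 * 3 ∣ 9 * (2 * (2 ^ D.a * D.q ^ D.b)) from by
        convert h27 using 1 <;> ring)
    rcases Nat.prime_three.dvd_mul.mp h3' with d | d
    · norm_num at d
    rcases Nat.prime_three.dvd_mul.mp d with d | d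
    · exact absurd (Nat.prime_three.dvd_of_dvd_pow d) (by norm_num)
    · have := (Nat.prime_dvd_prime_iff_eq Nat.prime_three D.hq).mp (Nat.prime_three.dvd_of_dvd_pow d)
      have := D.hq5
      omega
  have hfp := f.pos
  rw [hf] at hmod
  interval_cases hv : (f : ℕ) <;> norm_num at hmod

/-- The 2-rank of `G` is at least three. -/
theorem Setting.rank_three (D : Setting G) : ¬ Cfsg.PRankLE 2 2 G := by
  intro hr
  haveI : Fact (Nat.Prime 2) := ⟨Nat.prime_two⟩
  haveI : Fact (Nat.Prime 3) := ⟨Nat.prime_three⟩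
  obtain ⟨S⟩ : Nonempty (Sylow 2 G) := inferInstance
  letI : Fintype (GaloisField 2 4) := Fintype.ofFinite _
  have hF : Fintype.card (GaloisField 2 4) = 16 := by
    rw [← Nat.card_eq_fintype_card, GaloisField.card 2 4 (by norm_num)]; norm_num
  obtain ⟨P⟩ : Nonempty (Sylow 2 (Cfsg.PSU 3 (GaloisField 2 4) 4)) := inferInstance
  rcases Cfsg.Agent.S0516.result D.hna hr S hF P with ⟨n, hn, ⟨e⟩⟩ | h | h | e
  · exact D.not_dihedral S hn e
  · exact D.not_quasiDihedral S h
  · exact D.not_wreathed S h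
  · obtain ⟨e'⟩ := Cfsg.Agent.S0486.result hF S P e
    have hc := Nat.card_congr e'.toEquiv
    rw [CfsgLib.Char.SmallRamified.card_psu_three_four hF, D.hcard] at hc
    have h9 : 9 ∣ 62400 := hc ▸ ((dvd_mul_right 9 _).trans (dvd_mul_right _ _))
    norm_num at h9

theorem Setting.charTwo (D : Setting G) : Cfsg.IsCharacteristicTwoType G :=
  D.charTwo_of_rank D.rank_three

end CfsgLib.NineAmalgam
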