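import Cfsg.Agent.Lib.SmallSimple.NineAmalgam.DirectLow
import Cfsg.Agent.Lib.SmallSimple.NineAmalgam.DirectPair
import Cfsg.Agent.Lib.SmallSimple.NineAmalgam.RankThree
import Cfsg.Agent.Lib.SmallSimple.NineAmalgam.Existence
import Cfsg.Agent.Lib.SmallSimple.NineAmalgam.Pushing
import Cfsg.Agent.Lib.SmallSimple.NineAmalgam.LocalsFive
import Cfsg.Agent.Lib.SmallSimple.NineAmalgam.Chain
import Cfsg.Agent.Lib.PGroup.MaxClassRecog
import Cfsg.Agent.Lib.CFun.OffenderCore

/-!
# A normalizer quotient of order eight is impossible (S2220)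
-/

set_option autoImplicit false
set_option linter.unusedSectionVars false
set_option linter.style.haveILetI false

namespace CfsgLib.NineAmalgam

open Subgroup

/-- The amalgam data are contradictory. -/
theorem Data.false_of_data {G : Type*} [Group G] [Finite G] (D : Data G) : False :=
  D.false_of_Zl_le D.Zl_le_K (D.commute_conj_of_abelian_subgroup D.Zl_le_K
    fun _ hu _ hv => D.Zl_comm D.Zl_le_K hu hv)

/-- A 2-group with a self-centralizing subgroup of order four has no elementary abelian subgroup of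
order greater than four. -/
theorem no_elementary_of_self_centralizing {X : Type*} [Group X] [Finite X] (hX : IsPGroup 2 X)
    {K : Subgroup X} (hK : Nat.card K = 4) (hC : centralizer (K : Set X) = K)
    (A : Subgroup X) (hA : ∀ a ∈ A, a ^ 2 = 1) : Nat.card A ≤ 4 := by
  haveI : Fact (Nat.Prime 2) := ⟨Nat.prime_two⟩
  by_contra h4
  obtain ⟨n, hn⟩ := IsPGroup.iff_card.1 hX
  have hn3 : 3 ≤ n := by
    by_contra h
    have h1 : 2 ^ n ≤ 2 ^ 2 := Nat.pow_le_pow_right two_pos (by omega)
    have h2 := A.card_le_card_group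
    rw [hn] at h2
    omega
  have hcl := CfsgLib.PGroup.maximalClass_of_selfCentralizing (p := 2) n X hn K (by rw [hK]; norm_num) hC
  obtain ⟨r, e, a, b, -, F⟩ := CfsgLib.PGroup.exists_frame_two hn3 hn
    (CfsgLib.PGroup.index_commutator_of_maximal_two hn3 hn hcl)
  have hN : Nat.card (zpowers a) = 2 ^ (n - 1) := by rw [Nat.card_zpowers, F.ord]
  have hidx : (zpowers a).index = 2 := by
    have h1 := (zpowers a).card_mul_index
    rw [hN, F.card, mul_comm 2] at h1
    exact Nat.eq_of_mul_eq_mul_left (pow_pos two_pos _) h1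
  set B := zpowers a ⊓ A with hB
  have hrel : (zpowers a).relIndex A ≤ 2 := by
    rw [← hidx, ← relIndex_top_right]
    exact relIndex_le_of_le_right le_top (by rw [relIndex_top_right, hidx]; norm_num)
  have hAB : Nat.card A ≤ Nat.card B * 2 := by
    rw [hB, ← CfsgLib.CFun.card_mul_relIndex' (inf_le_right : zpowers a ⊓ A ≤ A), inf_relIndex_right]
    exact Nat.mul_le_mul_left _ hrel
  haveI : IsCyclic (zpowers a) := inferInstance
  haveI : IsCyclic B := Subgroup.isCyclic_of_le (inf_le_left : B ≤ zpowers a)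
  have hexp : Nat.card B ∣ 2 := by
    rw [← IsCyclic.exponent_eq_card]
    exact Monoid.exponent_dvd_of_forall_pow_eq_one fun x => Subtype.ext (by simpa using hA x x.2.2)
  have := Nat.le_of_dvd two_pos hexp
  omega

universe u

variable {G : Type u} [Group G] [Finite G] [IsSimpleGroup G]

/-- There is no self-centralizing four group. -/
theorem Setting.not_self_centralizing (D : Setting G) (K : Subgroup G) (hK : Nat.card K = 4)
    (hKe : ∀ a ∈ K, a ^ 2 = 1) : ¬ centralizer (K : Set G) ≤ K := by
  intro hC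
  haveI : Fact (Nat.Prime 2) := ⟨Nat.prime_two⟩
  obtain ⟨S, hKS⟩ := (IsPGroup.of_card (p := 2) (n := 2) (by rw [hK]; norm_num) :
    IsPGroup 2 K).exists_le_sylow
  have hinv : ∀ a ∈ K, a⁻¹ = a := fun a ha =>
    inv_eq_of_mul_eq_one_left (by rw [← pow_two, hKe a ha])
  have hKcomm : ∀ a ∈ K, ∀ b ∈ K, a * b = b * a := fun a ha b hb => by
    calc a * b = (a * b)⁻¹ := (hinv _ (mul_mem ha hb)).symm
      _ = b * a := by rw [mul_inv_rev, hinv a ha, hinv b hb]
  apply D.rank_three
  intro A hAc hA2
  obtain ⟨T, hAT⟩ := (show IsPGroup 2 A from fun a =>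
    ⟨1, Subtype.ext (by simpa using hA2 a a.2)⟩).exists_le_sylow
  obtain ⟨g, hg⟩ := MulAction.exists_smul_eq G T S
  set A' := A.map (MulAut.conj g).toMonoidHom with hA'
  have hA'S : A' ≤ S := by
    rw [← hg, Sylow.coe_subgroup_smul]
    exact map_mono hAT
  have hC' : centralizer ((K.subgroupOf S : Subgroup S) : Set S) = K.subgroupOf S := by
    ext u
    rw [mem_subgroupOf, mem_centralizer_iff]
    constructor
    · exact fun h => hC (mem_centralizer_iff.2 fun k hk =>
        congrArg Subtype.val (h ⟨k, hKS hk⟩ hk))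
    · exact fun hu k hk => Subtype.ext (hKcomm k hk u hu)
  have h := no_elementary_of_self_centralizing (S.2) (K := K.subgroupOf S)
    (by rw [Nat.card_congr (subgroupOfEquivOfLe hKS).toEquiv, hK]) hC' (A'.subgroupOf S)
    (fun a ha => by
      obtain ⟨w, hw, e⟩ := mem_subgroupOf.1 ha
      refine Subtype.ext ?_
      rw [SubmonoidClass.coe_pow, ← e, ← map_pow, hA2 w hw, map_one, OneMemClass.coe_one])
  rw [Nat.card_congr (subgroupOfEquivOfLe hA'S).toEquiv,
    card_map_of_injective (MulAut.conj g).injective] at h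
  norm_num
  exact h

/-- The case of S2220 with a normalizer quotient of order eight does not occur. -/
theorem false_of_setting (D : Setting G) : False := by
  haveI : Fact (Nat.Prime 2) := ⟨Nat.prime_two⟩
  have hc2 := D.charTwo
  have ht := D.exists_q_centralizer
  obtain ⟨S, M, K, x, s, hSM, hMcard, hx, hx3, hs, hs2, hsx, hKS, hKM, hKcard, hKbig, hKcons, hMmax⟩ :=
    exists_pushing (HasPair D.q) D.cent3 D.exists_three_local (D.local_shape hc2)
      D.not_self_centralizing (D.not_three_of_pair hc2)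
      (fun P => by
        obtain ⟨C, h1, h2, -, h3, h4⟩ := D.exists_char_pair hc2 ht P
        exact ⟨C, h1, h2, h3, h4⟩)
  obtain ⟨L, O, hSL, hLcard, hOS, hOL, hOmax, hOcons⟩ := D.exists_L hc2 ht S
  have hS1 : 1 < Nat.card (S : Subgroup G) := by omega
  haveI : Nontrivial (S : Subgroup G) := Finite.one_lt_card_iff_nontrivial.1 hS1
  haveI := S.2.center_nontrivial
  have h2 : 2 ∣ Nat.card (center (S : Subgroup G)) := by
    obtain ⟨k, hk⟩ := IsPGroup.iff_card.1 (S.2.to_subgroup (center (S : Subgroup G)))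
    have h1 : 1 < Nat.card (center (S : Subgroup G)) := Finite.one_lt_card
    rw [hk] at h1 ⊢
    exact dvd_pow_self 2 fun h => by rw [h, pow_zero] at h1; omega
  obtain ⟨z, hz⟩ := exists_prime_orderOf_dvd_card' 2 h2
  exact Data.false_of_data
    { q := D.q, hq := D.hq, hq5 := D.hq5, S := S, M := M, L := L, K := K, O := O,
      z := ((z : (S : Subgroup G)) : G), x := x, s := s, hS := S.2, hSM := hSM, hSL := hSL,
      hMcard := hMcard, hLcard := hLcard, hx := hx, hx3 := hx3, hs := hs, hs2 := hs2, hsx := hsx,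
      hcen3 := D.cent3, hKS := hKS, hKM := hKM, hKcard := hKcard, hKbig := hKbig, hKcons := hKcons,
      hOS := hOS, hOL := hOL, hOmax := hOmax, hOcons := hOcons, hz := (z : (S : Subgroup G)).2,
      hz2 := by rw [Subgroup.orderOf_coe, Subgroup.orderOf_coe, hz]
      hzS := fun t ht => congrArg Subtype.val (mem_center_iff.1 z.2 ⟨t, ht⟩)
      hMmax := hMmax }

end CfsgLib.NineAmalgam
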