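import Cfsg.Agent.Lib.SmallSimple.NineAmalgam.Basic
import Mathlib.GroupTheory.FixedPointFree

/-!
# Commuting elements of `K` and their images under `x`

Conjugation by `x` is fixed-point-free of order three on `K`, of class two. If `u` and `v` commute then
`⁅u, v^x⁆` is fixed by `x`, so it is trivial: an abelian subgroup of `K` centralizes its conjugates under `x`.
-/

set_option autoImplicit false
set_option linter.unusedSectionVars false

namespace CfsgLib.NineAmalgam

open Subgroup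
open scoped commutatorElement

namespace Data

variable {G : Type*} [Group G] [Finite G] (D : Data G)

/-- The norm of `x` on `K` is trivial. -/
theorem norm_eq_one {k : G} (hk : k ∈ D.K) :
    k * (D.x * k * D.x⁻¹) * (D.x * (D.x * k * D.x⁻¹) * D.x⁻¹) = 1 := by
  let φ : D.K →* D.K :=
    { toFun := fun u => ⟨D.x * u * D.x⁻¹, D.conj_mem_K D.hx u.2⟩
      map_one' := Subtype.ext (by simp)
      map_mul' := fun u v => Subtype.ext (by simp [mul_assoc]) }
  have hF : MonoidHom.FixedPointFree φ := fun u hu => by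
    have h : D.x * (u : G) * D.x⁻¹ = u := congrArg Subtype.val hu
    exact Subtype.ext (D.fpf_S (D.hKS u.2) (mul_inv_eq_iff_eq_mul.1 h).symm)
  have h3 : D.x * D.x * D.x = 1 := by rw [← D.x_cube, pow_succ, pow_two]
  have hit : (φ : D.K → D.K)^[3] = id := funext fun u => Subtype.ext (by
    show D.x * (D.x * (D.x * (u : G) * D.x⁻¹) * D.x⁻¹) * D.x⁻¹ = u
    calc D.x * (D.x * (D.x * (u : G) * D.x⁻¹) * D.x⁻¹) * D.x⁻¹
        = (D.x * D.x * D.x) * u * (D.x * D.x * D.x)⁻¹ := by group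
      _ = u := by simp [h3])
  have h := congrArg Subtype.val (hF.prod_pow_eq_one hit ⟨k, hk⟩)
  simpa [φ, List.range_succ, mul_assoc] using h

/-- An element of `K` commutes with the `x`-images of the elements it commutes with. -/
theorem commute_conj {u v : G} (hu : u ∈ D.K) (hv : v ∈ D.K) (huv : Commute u v) :
    Commute u (D.x * v * D.x⁻¹) := by
  -- `T e f = ⁅e, f^x⁆` is sent by `x` to `T f e`
  have key : ∀ e f : G, e ∈ D.K → f ∈ D.K → Commute e f →
      D.x * ⁅e, D.x * f * D.x⁻¹⁆ * D.x⁻¹ = ⁅f, D.x * e * D.x⁻¹⁆ := by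
    intro e f he hf hef
    set e' := D.x * e * D.x⁻¹ with he'
    set f' := D.x * f * D.x⁻¹ with hf'
    have heK : e' ∈ D.K := D.conj_mem_K D.hx he
    have hfK : f' ∈ D.K := D.conj_mem_K D.hx hf
    have hc : Commute f'⁻¹ e' := ((Commute.conj_iff (a := f) (b := e) D.x).2 hef.symm).inv_left
    have hf2 : D.x * f' * D.x⁻¹ = f'⁻¹ * f⁻¹ := by
      rw [eq_inv_of_mul_eq_one_right (D.norm_eq_one hf), mul_inv_rev]
    have hcen : Commute ⁅f, e'⁆ f := D.K_class_two hf heK hf
    have hcen' : Commute ⁅f, e'⁆ f'⁻¹ := D.K_class_two hf heK (inv_mem hfK)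
    calc D.x * ⁅e, f'⁆ * D.x⁻¹ = ⁅e', D.x * f' * D.x⁻¹⁆ := by
          simp only [he', commutatorElement_def]; group
      _ = e' * f'⁻¹ * f⁻¹ * e'⁻¹ * f * f' := by rw [hf2, commutatorElement_def]; group
      _ = f'⁻¹ * (e' * f⁻¹ * e'⁻¹ * f) * f' := by rw [← hc.eq]; group
      _ = f'⁻¹ * (f⁻¹ * ⁅f, e'⁆ * f) * f' := by rw [commutatorElement_def]; group
      _ = f'⁻¹ * ⁅f, e'⁆ * f' := by rw [mul_assoc f⁻¹, hcen.eq, inv_mul_cancel_left]
      _ = ⁅f, e'⁆ := by rw [← hcen'.eq, inv_mul_cancel_right]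
  have h1 := key u v hu hv huv
  have h2 := key v u hv hu huv.symm
  rw [← h1] at h2
  -- two steps fix `T u v`, and so does one
  have h3 : D.x * D.x * D.x = 1 := by rw [← D.x_cube, pow_succ, pow_two]
  have hm : ⁅u, D.x * v * D.x⁻¹⁆ ∈ D.K := by
    rw [commutatorElement_def]
    exact mul_mem (mul_mem (mul_mem hu (D.conj_mem_K D.hx hv)) (inv_mem hu)) (inv_mem (D.conj_mem_K D.hx hv))
  generalize hT : ⁅u, D.x * v * D.x⁻¹⁆ = T at h2 hm
  have hfix : D.x * T * D.x⁻¹ = T := by
    calc D.x * T * D.x⁻¹ = D.x * (D.x * (D.x * T * D.x⁻¹) * D.x⁻¹) * D.x⁻¹ := by rw [h2]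
      _ = (D.x * D.x * D.x) * T * (D.x * D.x * D.x)⁻¹ := by group
      _ = T := by simp [h3]
  have hT1 := D.fpf_S (D.hKS hm) (mul_inv_eq_iff_eq_mul.1 hfix).symm
  rw [← hT] at hT1
  exact commutatorElement_eq_one_iff_mul_comm.1 hT1

/-- An element of `K` commutes with the images under `x⁻¹` of the elements it commutes with. -/
theorem commute_conj_inv {u v : G} (hu : u ∈ D.K) (hv : v ∈ D.K) (huv : Commute u v) :
    Commute u (D.x⁻¹ * v * D.x) := by
  have h := (D.commute_conj hv hu huv.symm).symm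
  have h' := (Commute.conj_iff (a := D.x * u * D.x⁻¹) (b := v) D.x⁻¹).2 h
  simpa [mul_assoc] using h'

/-- An abelian subgroup of `K` centralizes its conjugates under `x` and `x⁻¹`. -/
theorem commute_conj_of_abelian {W : Subgroup G} (hWK : W ≤ D.K) (hab : ∀ u ∈ W, ∀ v ∈ W, Commute u v) :
    ∀ u ∈ W, ∀ v ∈ W, Commute u (D.x * v * D.x⁻¹) ∧ Commute u (D.x⁻¹ * v * D.x) :=
  fun u hu v hv => ⟨D.commute_conj (hWK hu) (hWK hv) (hab u hu v hv),
    D.commute_conj_inv (hWK hu) (hWK hv) (hab u hu v hv)⟩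

end Data

end CfsgLib.NineAmalgam
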