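import Cfsg.Agent.Lib.SmallSimple.NineAmalgam.Locals
import Cfsg.Agent.Lib.Invol.QDTransfer
import Cfsg.Agent.Lib.Invol.WreathedTransfer
import Cfsg.Agent.Lib.Invol.CyclicSylowConj
import Cfsg.Agent.Lib.PGroup.QuaternionKernel

/-!
# Quasi-dihedral and wreathed Sylow 2-subgroups do not occur
-/

set_option autoImplicit false
set_option linter.unusedSectionVars false
set_option linter.style.haveILetI false

namespace CfsgLib.NineAmalgam

open Subgroup CfsgLib.Invol

universe u

variable {G : Type u} [Group G] [Finite G] [IsSimpleGroup G]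

/-- A normalizer whose automizer index is six contains an element of order three. -/
theorem exists_three_of_relIndex {A N : Subgroup G} (h : A.relIndex N = 6) :
    ∃ g ∈ N, orderOf g = 3 := by
  haveI : Fact (Nat.Prime 3) := ⟨Nat.prime_three⟩
  have h3 : 3 ∣ Nat.card N := by
    have : A.relIndex N ∣ Nat.card N := (A.subgroupOf N).index_dvd_card
    rw [h] at this
    exact (by norm_num : 3 ∣ 6).trans this
  obtain ⟨g, hg⟩ := exists_prime_orderOf_dvd_card' 3 h3
  exact ⟨g, g.2, by rw [Subgroup.orderOf_coe, hg]⟩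

/-- An element of order three commutes with no involution. -/
theorem Setting.not_commute (D : Setting G) {g z : G} (hg : orderOf g = 3) (hz : orderOf z = 2)
    (h : g * z * g⁻¹ = z) : False :=
  D.not_three_dvd_centralizer z hz (hg ▸ orderOf_dvd_natCard _
    (mem_centralizer_singleton_iff.mpr (mul_inv_eq_iff_eq_mul.mp h)))

theorem Setting.not_complement (D : Setting G) : ¬ Cfsg.HasNormalPComplement 2 G := by
  haveI : Fact (Nat.Prime 2) := ⟨Nat.prime_two⟩
  rintro ⟨P, N, hN, hc⟩
  rcases hN.eq_bot_or_eq_top with e | e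
  · have hP : (P : Subgroup G) = ⊤ := by
      rw [e] at hc
      exact eq_top_of_card_eq _ (by rw [← hc.card_mul, card_bot, one_mul])
    obtain ⟨n, hn⟩ := IsPGroup.iff_card.mp P.2
    rw [hP, card_top] at hn
    exact D.not_solvable (CfsgLib.Char.isSolvable_of_card_two_primes Nat.prime_two Nat.prime_three G n 0
      (by rw [hn]; norm_num))
  · have h1 := hc.card_mul
    rw [e, card_top] at h1
    have hP1 : Nat.card (P : Subgroup G) = 1 :=
      Nat.eq_of_mul_eq_mul_left Nat.card_pos (by rw [h1, mul_one])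
    rw [Sylow.card_eq_multiplicity, Nat.pow_eq_one] at hP1
    rcases hP1 with h2 | h2
    · norm_num at h2
    · exact (Nat.Prime.factorization_pos_of_dvd Nat.prime_two Nat.card_pos.ne' D.two_dvd).ne' h2

theorem Setting.not_quasiDihedral (D : Setting G) (S : Sylow 2 G) :
    ¬ Cfsg.IsQuasiDihedral (S : Subgroup G) := by
  intro hS
  obtain ⟨k, a, b, hk, -, Q⟩ := exists_qdFrame hS
  generalize (2 : ℤ) ^ (k - 2) = h at Q
  have h4 : FusedFour a b h := by
    by_contra h4
    obtain ⟨H, hH, -⟩ := Q.exists_index_two_four h4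
    haveI := normal_of_index_eq_two hH
    exact D.not_index_two H hH
  set u := rotG a h with hu
  set v := refG a b 1 with hv
  have huu : u * u = rotG a (2 * h) := QDFrame.sq_quarter
  have hvv : v * v = u * u := (Q.sq_refG_odd (by norm_num)).trans huu.symm
  have hu4 : u ^ 4 = 1 := by rw [← Q.orderOf_quarterG]; exact pow_orderOf_eq_one u
  have hu3 : u * u * u = u⁻¹ := eq_inv_of_mul_eq_one_left (by
    rw [← hu4]; simp [pow_succ, mul_assoc])
  have huv : u * v = v * (u * u * u) := by
    have e := Q.refG_conj_quarter 1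
    rw [← hv, ← hu] at e
    have e' : rotG a (-h) = u⁻¹ := rotG_neg a h
    rw [e'] at e
    rw [hu3]
    calc u * v = ((u⁻¹)⁻¹) * v := by rw [inv_inv]
      _ = (v * u * v⁻¹)⁻¹ * v := by rw [e]
      _ = v * u⁻¹ := by group
  obtain ⟨φ, hφu, hφv, hφz⟩ := CfsgLib.PGroup.QuaternionKernel.exists_quatHom u v hu4 hvv huv
  have hz2 : orderOf (u * u) = 2 := by rw [huu]; exact Q.orderOf_centerG
  have hz1 : u * u ≠ 1 := fun e => by rw [e, orderOf_one] at hz2; omega
  have hinj : Function.Injective φ := (injective_iff_map_eq_one φ).2 fun w hw => by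
    by_contra hw1
    rcases (show ∀ w : QuaternionGroup 2, w ≠ 1 → w = .a 2 ∨ w * w = .a 2 by decide) w hw1 with e | e
    · rw [e, hφz] at hw; exact hz1 hw
    · have := congrArg φ e
      rw [map_mul, hw, one_mul, hφz] at this
      exact hz1 this.symm
  have hPS : φ.range ≤ (S : Subgroup G) := by
    rintro _ ⟨w, rfl⟩
    rcases w with i | i
    · rw [show (QuaternionGroup.a i : QuaternionGroup 2) = (QuaternionGroup.a 1) ^ i.val by
        rw [QuaternionGroup.a_one_pow, ZMod.natCast_zmod_val], map_pow, hφu]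
      exact pow_mem (rotG_mem a h) _
    · rw [show (QuaternionGroup.xa i : QuaternionGroup 2) =
          QuaternionGroup.xa 0 * (QuaternionGroup.a 1) ^ i.val by
        rw [QuaternionGroup.a_one_pow, ZMod.natCast_zmod_val, QuaternionGroup.xa_mul_a, zero_add],
        map_mul, map_pow, hφu, hφv]
      exact mul_mem (refG_mem a b 1) (pow_mem (rotG_mem a h) _)
  have eP : φ.range ≃* QuaternionGroup 2 := (MonoidHom.ofInjective hinj).symm
  obtain ⟨g, hgN, hg⟩ := exists_three_of_relIndex ((Q.quat_relIndex eP hPS).2.mpr h4)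
  have hzP : u * u ∈ φ.range := ⟨_, hφz⟩
  have hgz : g * (u * u) * g⁻¹ ∈ φ.range := (mem_normalizer_iff.mp hgN _).mp hzP
  have h2 : (u * u) ^ 2 = 1 := by rw [← hz2]; exact pow_orderOf_eq_one _
  refine D.not_commute hg hz2 (eq_of_involution eP hgz hzP ?_ h2 ?_ hz1)
  · rw [conj_pow, h2]; group
  · exact fun e => hz1 (conj_eq_one_iff.mp e)

theorem Setting.not_wreathed (D : Setting G) (S : Sylow 2 G) :
    ¬ Cfsg.IsWreathed (S : Subgroup G) := by
  haveI : Fact (Nat.Prime 2) := ⟨Nat.prime_two⟩
  intro hS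
  obtain ⟨m, x, y, z, N, W⟩ := exists_wrSylow hS
  have hW : W.FusedW := by
    by_contra hW
    by_cases hA : W.FusedA
    · obtain ⟨K, hKn, hK, -, -⟩ := W.abelian_case hA hW
      haveI := hKn
      exact D.not_index_two K hK
    · exact D.not_complement (W.nilpotent_case hA hW)
  have F := W.frame
  obtain ⟨g, hgN, hg⟩ := exists_three_of_relIndex ((W.quat_relIndex 0).2.mpr hW)
  set R := W.quatG 0 with hR
  have hRS : R ≤ (S : Subgroup G) := W.diffG_le _ _
  have heR : rotW x y m 0 ∈ R := W.rotW_mem_quatG.2 (by simp)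
  have hwR : outW x y z 0 (-0) ∈ R := W.outW_mem_quatG.2 ⟨0, by ring⟩
  have hcen : ∀ w ∈ R, (∀ v ∈ R, v * w = w * v) → w ∈ centerG S := by
    intro w hw hc
    obtain ⟨i, j, e | e⟩ := F.exists_coords (hRS hw)
    · rw [e]
      refine W.mem_centerG.2 (F.rotW_commute_outW_iff (k := 0) (l := -0) |>.1 ?_)
      rw [← e]
      exact (hc _ hwR).symm
    · exfalso
      refine F.not_dvd_half ?_
      have h1 := hc _ heR
      rw [e] at h1
      simpa using F.rotW_commute_outW_iff.1 h1
  set z0 := rotW x y m m with hz0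
  have hz0c : z0 ∈ centerG S := W.tW_mem_centerG
  have hz0o : orderOf z0 = 2 := F.orderOf_tW
  have hgz : g * z0 * g⁻¹ ∈ centerG S := by
    refine hcen _ ((mem_normalizer_iff.mp hgN _).mp (W.centerG_le_quatG 0 hz0c)) fun v hv => ?_
    have hv' : g⁻¹ * v * g ∈ R := (mem_normalizer_iff''.mp hgN v).mp hv
    have hc := (W.commute_centerG (hRS hv') hz0c).eq
    calc v * (g * z0 * g⁻¹) = g * ((g⁻¹ * v * g) * z0) * g⁻¹ := by group
      _ = g * (z0 * (g⁻¹ * v * g)) * g⁻¹ := by rw [hc]
      _ = g * z0 * g⁻¹ * v := by group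
  have hcyc : ∀ u ∈ centerG S, orderOf u = 2 → u = z0 := by
    intro u hu hu2
    obtain ⟨r, hr⟩ := F.mem_centerMap_iff.1 hu
    rw [hr] at hu2
    rcases F.rot_invol_cases (invol_mul_self hu2) with e | e | e | e
    · exact absurd e (invol_ne_one hu2)
    · exact hr.trans e
    · exfalso
      have h' : rotW x y m 0 ∈ centerG S := by rw [← e, ← hr]; exact hu
      exact F.not_dvd_half (by simpa using W.mem_centerG.1 h')
    · exfalso
      have h' : rotW x y 0 m ∈ centerG S := by rw [← e, ← hr]; exact hu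
      exact F.not_dvd_half (by simpa using W.mem_centerG.1 h')
  exact D.not_commute hg hz0o (hcyc _ hgz ((MulEquiv.orderOf_eq (MulAut.conj g) z0).trans hz0o))

end CfsgLib.NineAmalgam
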