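import Cfsg.Agent.Lib.SmallSimple.NineAmalgam.Data
import Cfsg.Agent.Lib.FourFree.NoOffender
import Mathlib.GroupTheory.Index
import Mathlib.GroupTheory.SpecificGroups.Cyclic

/-!
# The amalgam of type (S3, soluble {2,q}): the case where the central involution has centralizer S

If `C(z) = S`, then the centralizers of `V` and of the normal closure `Y` of `z` in `L` are `K` and
the kernel `O`.  So a subgroup commuting with one end of an edge lies in the stabilizer of the other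
end.  Induction on the word length in `M` and `L` shows that all conjugates of `V` and `Y` under
`⟨M, L⟩` commute; they generate a 2-subgroup normalized by `M` and `L`.
-/

set_option autoImplicit false
set_option linter.style.haveILetI false
set_option linter.unusedSectionVars false

open Subgroup
open CfsgLib.FourFree (HG transl mem_transl)
open CfsgLib.CFun (fixOf IsOff mem_fixOf)

namespace CfsgLib.NineAmalgam

namespace SelfCase

variable {G : Type*} [Group G]

/-- `A` commutes elementwise with the conjugate of `B` by `g`. -/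
def Cm (A B : Subgroup G) (g : G) : Prop := ∀ a ∈ A, ∀ b ∈ B, Commute a (g * b * g⁻¹)

theorem Cm.inv {A B : Subgroup G} {g : G} (h : Cm A B g) : Cm B A g⁻¹ := fun b hb a ha => by
  have h1 := (h a ha b hb).map (MulAut.conj g⁻¹).toMonoidHom
  simp only [MulEquiv.coe_toMonoidHom, MulAut.conj_apply] at h1
  rw [show g⁻¹ * (g * b * g⁻¹) * g⁻¹⁻¹ = b by group] at h1
  exact h1.symm

theorem Cm.right {A B C : Subgroup G} {g c : G} (h : Cm A B g)
    (hC : C ≤ normalizer (B : Set G)) (hc : c ∈ C) : Cm A B (g * c) := fun a ha b hb => by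
  have h1 := h a ha _ ((mem_normalizer_iff.1 (hC hc) b).1 hb)
  rwa [show g * (c * b * c⁻¹) * g⁻¹ = g * c * b * (g * c)⁻¹ by group] at h1

theorem Cm.left {A B C : Subgroup G} {g c : G} (h : Cm A B g)
    (hC : C ≤ normalizer (A : Set G)) (hc : c ∈ C) : Cm A B (c * g) := by
  have h1 := (h.inv.right hC (inv_mem hc)).inv
  rwa [mul_inv_rev, inv_inv, inv_inv] at h1

variable (D : Data G)

/-- The subgroup generated by the `L`-conjugates of `z`. -/
def Y : Subgroup G := closure {y | ∃ l ∈ D.L, l * D.z * l⁻¹ = y}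

/-- The second involution of `V`. -/
def z1 : G := D.x * D.z * D.x⁻¹

variable {D}

theorem z_mem_V : D.z ∈ D.V := subset_closure (Or.inl rfl)

theorem z1_mem_V : z1 D ∈ D.V := subset_closure (Or.inr rfl)

theorem z_mem_Y : D.z ∈ Y D := subset_closure ⟨1, one_mem _, by group⟩

theorem conj_mem_Y {l : G} (hl : l ∈ D.L) : l * D.z * l⁻¹ ∈ Y D :=
  subset_closure ⟨l, hl, rfl⟩

theorem zz : D.z * D.z = 1 := by
  have h := pow_orderOf_eq_one D.z
  rwa [D.hz2, pow_two] at h

theorem z_inv : D.z⁻¹ = D.z := inv_eq_of_mul_eq_one_right zz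

theorem z_ne : D.z ≠ 1 := fun e => by
  have h := D.hz2
  rw [e, orderOf_one] at h
  omega

theorem xxx : D.x * D.x * D.x = 1 := by
  have h := pow_orderOf_eq_one D.x
  rwa [D.hx3, pow_succ, pow_two] at h

theorem ss : D.s * D.s = 1 := by rw [← pow_two]; exact D.hs2

theorem x_not_mem_S : D.x ∉ D.S := fun hx => by
  obtain ⟨k, hk⟩ := D.hS ⟨D.x, hx⟩
  have hd : 3 ∣ 2 ^ k := by
    rw [← D.hx3]
    exact orderOf_dvd_of_pow_eq_one (by simpa using congrArg Subtype.val hk)
  have := (Nat.prime_three).dvd_of_dvd_pow hd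
  omega

theorem K_le_M : D.K ≤ D.M := D.hKS.trans D.hSM

theorem z_mem_K : D.z ∈ D.K :=
  D.hKcons ⟨D.hSM D.hz, mem_centralizer_iff.2 fun k hk => D.hzS k (D.hKS hk)⟩

theorem conj_mem_K {m k : G} (hm : m ∈ D.M) (hk : k ∈ D.K) : m * k * m⁻¹ ∈ D.K :=
  (mem_normalizer_iff.1 (D.hKM hm) k).1 hk

theorem z1_mem_K : z1 D ∈ D.K := conj_mem_K D.hx z_mem_K

theorem z1_sq : z1 D * z1 D = 1 := by
  have e : z1 D * z1 D = D.x * (D.z * D.z) * D.x⁻¹ := by rw [z1]; group
  rw [e, zz, mul_one, mul_inv_cancel]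

theorem K_comm_z {k : G} (hk : k ∈ D.K) : Commute k D.z := D.hzS k (D.hKS hk)

theorem K_comm_z1 {k : G} (hk : k ∈ D.K) : Commute k (z1 D) := by
  have h := (K_comm_z (conj_mem_K (inv_mem D.hx) hk)).map (MulAut.conj D.x).toMonoidHom
  simp only [MulEquiv.coe_toMonoidHom, MulAut.conj_apply] at h
  rwa [show D.x * (D.x⁻¹ * k * D.x⁻¹⁻¹) * D.x⁻¹ = k by group] at h

theorem V_le_K : D.V ≤ D.K := by
  refine (closure_le _).2 ?_
  rintro y (rfl | rfl)
  · exact z_mem_K
  · exact z1_mem_K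

theorem K_le_CV : D.K ≤ centralizer (D.V : Set G) := fun k hk => by
  refine mem_centralizer_iff.2 fun v hv => ?_
  have h : D.V ≤ centralizer ({k} : Set G) := by
    refine (closure_le _).2 ?_
    rintro y (rfl | rfl) <;> refine mem_centralizer_iff.2 fun t ht => ?_ <;>
      rw [Set.mem_singleton_iff.1 ht]
    · exact K_comm_z hk
    · exact K_comm_z1 hk
  exact (mem_centralizer_iff.1 (h hv) k rfl).symm

theorem z1_conj : D.x * z1 D * D.x⁻¹ = D.z * z1 D := by
  set w := D.z * z1 D * (D.x * z1 D * D.x⁻¹) with hw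
  have hz2K : D.x * z1 D * D.x⁻¹ ∈ D.K := conj_mem_K D.hx z1_mem_K
  have hwK : w ∈ D.K := mul_mem (mul_mem z_mem_K z1_mem_K) hz2K
  have e3 : D.x * (D.x * z1 D * D.x⁻¹) * D.x⁻¹ = D.z := by
    rw [z1, show D.x * (D.x * (D.x * D.z * D.x⁻¹) * D.x⁻¹) * D.x⁻¹ =
      (D.x * D.x * D.x) * D.z * (D.x * D.x * D.x)⁻¹ by group, xxx]
    group
  have hxw : D.x * w * D.x⁻¹ = w := by
    have e : D.x * w * D.x⁻¹ =
        z1 D * (D.x * z1 D * D.x⁻¹) * (D.x * (D.x * z1 D * D.x⁻¹) * D.x⁻¹) := by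
      rw [hw, z1]; group
    rw [e, e3, hw, mul_assoc D.z]
    exact (K_comm_z (mul_mem z1_mem_K hz2K)).eq
  have hcx : w ∈ centralizer ({D.x} : Set G) := mem_centralizer_iff.2 fun t ht => by
    rw [Set.mem_singleton_iff.1 ht]
    exact mul_inv_eq_iff_eq_mul.1 hxw
  obtain ⟨a, ha⟩ := D.hcen3 D.x D.hx3 ⟨w, hcx⟩
  obtain ⟨b, hb⟩ := D.hS ⟨w, D.hKS hwK⟩
  have hw1 : w = 1 := by
    have ha' : orderOf w ∣ 3 ^ a := orderOf_dvd_of_pow_eq_one (by simpa using congrArg Subtype.val ha)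
    have hb' : orderOf w ∣ 2 ^ b := orderOf_dvd_of_pow_eq_one (by simpa using congrArg Subtype.val hb)
    exact orderOf_eq_one_iff.1 (Nat.eq_one_of_dvd_coprimes
      (Nat.Coprime.pow a b (by norm_num : Nat.Coprime 3 2)) ha' hb')
  have h1 := eq_inv_of_mul_eq_one_right (hw ▸ hw1)
  rw [h1, mul_inv_rev, z_inv, inv_eq_of_mul_eq_one_right z1_sq]
  exact (K_comm_z z1_mem_K).eq

theorem K_relIndex : D.K.relIndex D.S = 2 := by
  have h := CfsgLib.CFun.card_mul_relIndex' D.hKS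
  have h2 := D.hKcard
  have hne : Nat.card D.K ≠ 0 := by
    have := D.hKbig; omega
  refine Nat.eq_of_mul_eq_mul_left (Nat.pos_of_ne_zero hne) ?_
  omega

theorem s_not_mem_K : D.s ∉ D.K := fun hs => by
  have h1 : D.s * D.x * D.s⁻¹ * D.x⁻¹ ∈ D.K := by
    rw [show D.s * D.x * D.s⁻¹ * D.x⁻¹ = D.s * (D.x * D.s⁻¹ * D.x⁻¹) by group]
    exact mul_mem hs (conj_mem_K D.hx (inv_mem hs))
  rw [D.hsx, show D.x⁻¹ * D.x⁻¹ = D.x by
    rw [← mul_inv_rev]
    exact inv_eq_of_mul_eq_one_right xxx] at h1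
  exact x_not_mem_S (D.hKS h1)

theorem S_cases {y : G} (hy : y ∈ D.S) : y ∈ D.K ∨ y * D.s ∈ D.K := by
  have hi : (D.K.subgroupOf D.S).index = 2 := K_relIndex
  have h := mul_mem_iff_of_index_two hi (a := ⟨y, hy⟩) (b := ⟨D.s, D.hs⟩)
  simp only [mem_subgroupOf, coe_mul] at h
  by_cases hk : y ∈ D.K
  · exact Or.inl hk
  · exact Or.inr (h.2 (iff_of_false hk s_not_mem_K))

theorem s_z1 : D.s * z1 D * D.s⁻¹ = D.z * z1 D := by
  have hsz : D.s * D.z * D.s⁻¹ = D.z := by rw [(D.hzS D.s D.hs).eq, mul_inv_cancel_right]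
  have e : D.s * z1 D * D.s⁻¹ =
      (D.s * D.x * D.s⁻¹) * (D.s * D.z * D.s⁻¹) * (D.s * D.x * D.s⁻¹)⁻¹ := by rw [z1]; group
  rw [e, D.hsx, hsz, ← z1_conj, z1,
    show D.x * (D.x * D.z * D.x⁻¹) * D.x⁻¹ = (D.x * D.x) * D.z * (D.x * D.x)⁻¹ by group,
    eq_inv_of_mul_eq_one_left (xxx (D := D))]

theorem conj_z1_cases {y : G} (hy : y ∈ D.S) :
    y * z1 D * y⁻¹ = z1 D ∨ y * z1 D * y⁻¹ = D.z * z1 D := by
  rcases S_cases hy with hk | hk
  · exact Or.inl (by rw [(K_comm_z1 hk).eq, mul_inv_cancel_right])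
  · right
    set k := y * D.s
    have hyk : y = k * D.s := by rw [show k * D.s = y * (D.s * D.s) from mul_assoc _ _ _, ss, mul_one]
    have hc : Commute k (D.z * z1 D) := (K_comm_z hk).mul_right (K_comm_z1 hk)
    rw [hyk, show k * D.s * z1 D * (k * D.s)⁻¹ = k * (D.s * z1 D * D.s⁻¹) * k⁻¹ by group, s_z1,
      hc.eq, mul_inv_cancel_right]

theorem S_normalizes_V {y : G} (hy : y ∈ D.S) : y ∈ normalizer (D.V : Set G) := by
  have h : ∀ {c : G}, c ∈ D.S → ∀ v ∈ D.V, c * v * c⁻¹ ∈ D.V := fun {c} hc v hv => by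
    have hle : D.V ≤ D.V.comap (MulAut.conj c).toMonoidHom := by
      refine (closure_le _).2 ?_
      rintro u (rfl | rfl) <;> show c * _ * c⁻¹ ∈ D.V
      · rw [(D.hzS c hc).eq, mul_inv_cancel_right]; exact z_mem_V
      · rcases conj_z1_cases hc with e | e <;> rw [show D.x * D.z * D.x⁻¹ = z1 D from rfl, e]
        · exact z1_mem_V
        · exact mul_mem z_mem_V z1_mem_V
    exact hle hv
  refine mem_normalizer_iff.2 fun v => ⟨h hy v, fun hv => ?_⟩
  have := h (inv_mem hy) _ hv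
  rwa [show y⁻¹ * (y * v * y⁻¹) * y⁻¹⁻¹ = v by group] at this

theorem x_normalizes_V : D.x ∈ normalizer (D.V : Set G) := by
  have h : ∀ v ∈ D.V, D.x * v * D.x⁻¹ ∈ D.V := fun v hv => by
    have hle : D.V ≤ D.V.comap (MulAut.conj D.x).toMonoidHom := by
      refine (closure_le _).2 ?_
      rintro u (rfl | rfl) <;> show D.x * _ * D.x⁻¹ ∈ D.V
      · exact z1_mem_V
      · rw [show D.x * D.z * D.x⁻¹ = z1 D from rfl, z1_conj]
        exact mul_mem z_mem_V z1_mem_V
    exact hle hv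
  refine mem_normalizer_iff.2 fun v => ⟨h v, fun hv => ?_⟩
  have h2 := h _ (h _ hv)
  rwa [show D.x * (D.x * (D.x * v * D.x⁻¹) * D.x⁻¹) * D.x⁻¹ =
    (D.x * D.x * D.x) * v * (D.x * D.x * D.x)⁻¹ by group, xxx, one_mul, inv_one, mul_one] at h2

/-- The commutators of elements of `S` with `V` lie in `⟨z⟩`. -/
theorem comm_cases {y v : G} (hy : y ∈ D.S) (hv : v ∈ D.V) :
    y * v * y⁻¹ * v⁻¹ = 1 ∨ y * v * y⁻¹ * v⁻¹ = D.z := by
  induction hv using closure_induction with
  | mem u hu =>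
    rcases hu with rfl | rfl
    · left; rw [(D.hzS y hy).eq]; group
    · rw [show D.x * D.z * D.x⁻¹ = z1 D from rfl]
      rcases conj_z1_cases hy with e | e <;> rw [e]
      · left; group
      · right; group
  | one => left; group
  | mul a b ha hb iha ihb =>
    have e : y * (a * b) * y⁻¹ * (a * b)⁻¹ =
        (y * a * y⁻¹ * a⁻¹) * (a * (y * b * y⁻¹ * b⁻¹) * a⁻¹) := by group
    rw [e]
    have haz : a * D.z * a⁻¹ = D.z := by rw [(K_comm_z (V_le_K ha)).eq, mul_inv_cancel_right]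
    rcases iha with e1 | e1 <;> rcases ihb with e2 | e2 <;> rw [e1, e2]
    · left; group
    · right; rw [one_mul, haz]
    · right; group
    · left; rw [haz, zz]
  | inv a ha iha =>
    have e : y * a⁻¹ * y⁻¹ * a⁻¹⁻¹ = a⁻¹ * (y * a * y⁻¹ * a⁻¹)⁻¹ * a := by group
    rw [e]
    rcases iha with e1 | e1 <;> rw [e1]
    · left; group
    · right
      rw [z_inv, mul_assoc, ← (K_comm_z (V_le_K ha)).eq, ← mul_assoc, inv_mul_cancel, one_mul]

theorem V_sq {v : G} (hv : v ∈ D.V) : v * v = 1 := by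
  induction hv using closure_induction with
  | mem u hu =>
    rcases hu with rfl | rfl
    · exact zz
    · exact z1_sq
  | one => exact one_mul 1
  | mul a b ha hb iha ihb =>
    have hc : Commute b a := mem_centralizer_iff.1 (K_le_CV (V_le_K ha)) b hb
    rw [show a * b * (a * b) = a * (b * a) * b by group, hc.eq,
      show a * (a * b) * b = (a * a) * (b * b) by group, iha, ihb, one_mul]
  | inv a _ iha => rw [← mul_inv_rev, iha, inv_one]

variable [Finite G]

theorem M_le_NV : D.M ≤ normalizer (D.V : Set G) := by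
  set W := D.S ⊔ zpowers D.x
  have hWM : W ≤ D.M := sup_le D.hSM (zpowers_le.2 D.hx)
  have h1 : Nat.card D.S ∣ Nat.card W := card_dvd_of_le le_sup_left
  have h2 : 3 ∣ Nat.card W := by
    have := card_dvd_of_le (le_sup_right : zpowers D.x ≤ W)
    rwa [Nat.card_zpowers, D.hx3] at this
  have hco : Nat.Coprime 3 (Nat.card D.S) := by
    haveI : Fact (Nat.Prime 2) := ⟨Nat.prime_two⟩
    obtain ⟨n, hn⟩ := D.hS.exists_card_eq
    rw [hn]
    exact Nat.Coprime.pow_right n (by norm_num)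
  have hle : Nat.card D.M ≤ Nat.card W := by
    rw [D.hMcard]
    exact Nat.le_of_dvd Nat.card_pos (hco.mul_dvd_of_dvd_of_dvd h2 h1)
  rw [← eq_of_le_of_card_ge hWM hle]
  exact sup_le (fun y hy => S_normalizes_V hy) (zpowers_le.2 x_normalizes_V)

theorem L_normalizes_Y : D.L ≤ normalizer (Y D : Set G) := fun c hc => by
  have h : ∀ {d : G}, d ∈ D.L → ∀ v ∈ Y D, d * v * d⁻¹ ∈ Y D := fun {d} hd v hv => by
    have hle : Y D ≤ (Y D).comap (MulAut.conj d).toMonoidHom := by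
      refine (closure_le _).2 ?_
      rintro u ⟨l, hl, rfl⟩
      show d * _ * d⁻¹ ∈ Y D
      rw [show d * (l * D.z * l⁻¹) * d⁻¹ = d * l * D.z * (d * l)⁻¹ by group]
      exact conj_mem_Y (mul_mem hd hl)
    exact hle hv
  refine mem_normalizer_iff.2 fun v => ⟨h hc v, fun hv => ?_⟩
  have := h (inv_mem hc) _ hv
  rwa [show c⁻¹ * (c * v * c⁻¹) * c⁻¹⁻¹ = v by group] at this

theorem z_mem_O : D.z ∈ D.O :=
  D.hOcons ⟨D.hSL D.hz, mem_centralizer_iff.2 fun o ho => D.hzS o (D.hOS ho)⟩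

theorem Y_le_O : Y D ≤ D.O := by
  refine (closure_le _).2 ?_
  rintro u ⟨l, hl, rfl⟩
  exact (mem_normalizer_iff.1 (D.hOL hl) _).1 z_mem_O

theorem Y_le_S : Y D ≤ D.S := Y_le_O.trans D.hOS

theorem O_comm_Y {o y : G} (ho : o ∈ D.O) (hy : y ∈ Y D) : Commute o y := by
  have h : Y D ≤ centralizer ({o} : Set G) := by
    refine (closure_le _).2 ?_
    rintro u ⟨l, hl, rfl⟩
    refine mem_centralizer_iff.2 fun t ht => ?_
    rw [Set.mem_singleton_iff.1 ht]
    have h1 := (D.hzS _ (D.hOS ((mem_normalizer_iff.1 (D.hOL (inv_mem hl)) o).1 ho))).map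
      (MulAut.conj l).toMonoidHom
    simp only [MulEquiv.coe_toMonoidHom, MulAut.conj_apply] at h1
    rwa [show l * (l⁻¹ * o * l⁻¹⁻¹) * l⁻¹ = o by group] at h1
  exact mem_centralizer_iff.1 (h hy) o rfl

theorem Y_sq {y : G} (hy : y ∈ Y D) : y * y = 1 := by
  induction hy using closure_induction with
  | mem u hu =>
    obtain ⟨l, hl, rfl⟩ := hu
    rw [show l * D.z * l⁻¹ * (l * D.z * l⁻¹) = l * (D.z * D.z) * l⁻¹ by group, zz]
    group
  | one => exact one_mul 1
  | mul a b ha hb iha ihb =>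
    rw [show a * b * (a * b) = a * (b * a) * b by group, (O_comm_Y (Y_le_O hb) ha).eq,
      show a * (a * b) * b = (a * a) * (b * b) by group, iha, ihb, one_mul]
  | inv a _ iha => rw [← mul_inv_rev, iha, inv_one]

variable (hz : centralizer ({D.z} : Set G) = D.S)
include hz

omit [Finite G] in
theorem mem_S_of_comm {y : G} (h : Commute y D.z) : y ∈ D.S := hz ▸
  mem_centralizer_iff.2 fun t ht => by rw [Set.mem_singleton_iff.1 ht]; exact h.symm

omit [Finite G] in
theorem CV_eq : centralizer (D.V : Set G) = D.K := by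
  refine le_antisymm (fun y hy => ?_) K_le_CV
  have hc : ∀ v ∈ D.V, v * y = y * v := fun v hv => mem_centralizer_iff.1 hy v hv
  have hyS : y ∈ D.S := mem_S_of_comm hz (hc _ z_mem_V).symm
  rcases S_cases hyS with hk | hk
  · exact hk
  · exfalso
    have h1 : Commute (y * D.s) (z1 D) := K_comm_z1 hk
    have h2 : Commute y (z1 D) := (hc _ z1_mem_V).symm
    have h3 : D.s * z1 D * D.s⁻¹ = z1 D := by
      have h4 : Commute D.s (z1 D) := by
        have := h2.inv_left.mul_left h1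
        rwa [inv_mul_cancel_left] at this
      rw [h4.eq, mul_inv_cancel_right]
    rw [s_z1] at h3
    exact z_ne (mul_eq_right.1 h3)

theorem CY_eq : centralizer (Y D : Set G) = D.O := by
  have hle : centralizer (Y D : Set G) ≤ D.S := fun y hy =>
    mem_S_of_comm hz (mem_centralizer_iff.1 hy _ z_mem_Y).symm
  refine le_antisymm (D.hOmax _ (hle.trans D.hSL) (D.hS.to_le hle) ?_) fun o ho =>
    mem_centralizer_iff.2 fun y hy => (O_comm_Y ho hy).symm.eq
  have h : ∀ {c : G}, c ∈ D.L → ∀ v ∈ centralizer (Y D : Set G),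
      c * v * c⁻¹ ∈ centralizer (Y D : Set G) := fun {c} hc v hv => by
    refine mem_centralizer_iff.2 fun t ht => ?_
    have h1 : Commute (c⁻¹ * t * c⁻¹⁻¹) v :=
      mem_centralizer_iff.1 hv _ ((mem_normalizer_iff.1 (L_normalizes_Y (inv_mem hc)) t).1 ht)
    have h2 := h1.map (MulAut.conj c).toMonoidHom
    simp only [MulEquiv.coe_toMonoidHom, MulAut.conj_apply] at h2
    rwa [show c * (c⁻¹ * t * c⁻¹⁻¹) * c⁻¹ = t by group] at h2
  refine fun c hc => mem_normalizer_iff.2 fun v => ⟨h hc v, fun hv => ?_⟩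
  have := h (inv_mem hc) _ hv
  rwa [show c⁻¹ * (c * v * c⁻¹) * c⁻¹⁻¹ = v by group] at this

omit [Finite G] in
theorem mem_K_of_comm {y : G} (h : ∀ v ∈ D.V, Commute y v) : y ∈ D.K :=
  CV_eq hz ▸ mem_centralizer_iff.2 fun v hv => (h v hv).symm.eq

theorem mem_O_of_comm {y : G} (h : ∀ v ∈ Y D, Commute y v) : y ∈ D.O :=
  CY_eq hz ▸ mem_centralizer_iff.2 fun v hv => (h v hv).symm.eq

/-- No elementary abelian subgroup of `S` offends on `Y`. -/
theorem no_off {A : Subgroup G} (hAS : A ≤ D.S) (hA2 : ∀ a ∈ A, a * a = 1)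
    (hoff : Nat.card (Y D) ≤ D.O.relIndex A * Nat.card (Y D ⊓ centralizer (A : Set G) : Subgroup G)) :
    A ≤ D.O := by
  classical
  haveI : Fact (Nat.Prime 2) := ⟨Nat.prime_two⟩
  letI : CommGroup (Y D) := { (inferInstance : Group (Y D)) with
    mul_comm := fun a b => Subtype.ext (O_comm_Y (Y_le_O a.2) b.2).eq }
  let φ : ↥D.L →* MulAut ↥(Y D) :=
    (Y D).normalizerMonoidHom.comp (Subgroup.inclusion L_normalizes_Y)
  have hφ : ∀ (l : ↥D.L) (y : ↥(Y D)), ((φ l y : ↥(Y D)) : G) = (l : G) * y * (l : G)⁻¹ :=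
    fun l y => rfl
  have hker : φ.ker = D.O.subgroupOf D.L := by
    ext l
    rw [MonoidHom.mem_ker, mem_subgroupOf]
    constructor
    · intro h
      refine mem_O_of_comm hz fun v hv => ?_
      have h1 := congrArg Subtype.val (DFunLike.congr_fun h ⟨v, hv⟩)
      rw [hφ] at h1
      exact mul_inv_eq_iff_eq_mul.1 h1
    · intro h
      refine MulEquiv.ext fun y => Subtype.ext ?_
      rw [hφ, (O_comm_Y h y.2).eq, mul_inv_cancel_right]
      rfl
  set π := φ.rangeRestrict with hπ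
  have hπsurj : Function.Surjective π := φ.rangeRestrict_surjective
  set ρ : ↥φ.range →* MulAut ↥(Y D) := φ.range.subtype with hρ
  have hρπ : ∀ (l : ↥D.L) (y : ↥(Y D)), ((ρ (π l) y : ↥(Y D)) : G) = (l : G) * y * (l : G)⁻¹ :=
    fun l y => rfl
  obtain ⟨j, -, hj⟩ := D.hLcard
  obtain ⟨n, hn⟩ := D.hS.exists_card_eq
  have hg : HG ↥φ.range := by
    intro a x hx3 _
    have h1 : orderOf x ∣ 3 := orderOf_dvd_of_pow_eq_one hx3
    have h2 : orderOf x ∣ 2 ^ n * D.q ^ j := by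
      refine (orderOf_dvd_natCard x).trans ((Subgroup.card_range_dvd φ).trans ?_)
      rw [hj, hn]
    have hco : Nat.Coprime 3 (2 ^ n * D.q ^ j) :=
      Nat.Coprime.mul_right (Nat.Coprime.pow_right _ (by norm_num)) (Nat.Coprime.pow_right _
        ((Nat.coprime_primes Nat.prime_three D.hq).2 (by have := D.hq5; omega)))
    exact orderOf_eq_one_iff.1 (Nat.eq_one_of_dvd_coprimes hco h1 h2)
  -- the image of `S` is a Sylow subgroup
  have hSp : IsPGroup 2 ((D.S.subgroupOf D.L).map π : Subgroup ↥φ.range) :=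
    (D.hS.comap_subtype).map π
  have hSi : ¬ 2 ∣ ((D.S.subgroupOf D.L).map π).index := by
    intro hd
    have h1 : (D.S.subgroupOf D.L).index = D.q ^ j := by
      have h := CfsgLib.CFun.card_mul_relIndex' D.hSL
      rw [hj] at h
      exact Nat.eq_of_mul_eq_mul_left Nat.card_pos h
    have h2 := hd.trans (index_map_dvd _ hπsurj)
    rw [h1] at h2
    have := (Nat.prime_dvd_prime_iff_eq Nat.prime_two D.hq).1 (Nat.prime_two.dvd_of_dvd_pow h2)
    have := D.hq5
    omega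
  set T : Sylow 2 ↥φ.range := hSp.toSylow hSi with hT
  have hTcoe : (T : Subgroup ↥φ.range) = (D.S.subgroupOf D.L).map π := rfl
  have hgen : transl ρ ⊤ (fixOf ρ (T : Subgroup ↥φ.range)) = ⊤ := by
    refine (Subgroup.eq_top_iff' _).2 fun y => ?_
    have hle : Y D ≤ (transl ρ ⊤ (fixOf ρ (T : Subgroup ↥φ.range))).map (Y D).subtype := by
      refine (closure_le _).2 ?_
      rintro u ⟨l, hl, rfl⟩
      refine ⟨ρ (π ⟨l, hl⟩) ⟨D.z, z_mem_Y⟩, mem_transl (mem_top _) (mem_fixOf.2 ?_), hρπ _ _⟩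
      rintro b hb
      rw [hTcoe] at hb
      obtain ⟨a, ha, rfl⟩ := hb
      refine Subtype.ext ?_
      rw [hρπ]
      show (a : G) * D.z * (a : G)⁻¹ = D.z
      rw [(D.hzS (a : G) ha).eq, mul_inv_cancel_right]
    obtain ⟨y', hy', e⟩ := hle y.2
    rwa [← Subtype.ext e]
  have hAL : A ≤ D.L := hAS.trans D.hSL
  set B := (A.subgroupOf D.L).map π with hB
  have hBcard : Nat.card B = D.O.relIndex A := by
    rw [hB, ← relIndex_ker, hπ, MonoidHom.ker_rangeRestrict, hker, subgroupOf, relIndex_comap,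
      subgroupOf_map_subtype, inf_eq_left.2 hAL]
  have hBfix : (fixOf ρ B).map (Y D).subtype = Y D ⊓ centralizer (A : Set G) := by
    ext u
    constructor
    · rintro ⟨y, hy, rfl⟩
      refine ⟨y.2, mem_centralizer_iff.2 fun a ha => ?_⟩
      have h1 := congrArg Subtype.val (mem_fixOf.1 hy _ (mem_map_of_mem π
        (show (⟨a, hAL ha⟩ : ↥D.L) ∈ A.subgroupOf D.L from ha)))
      rw [hρπ] at h1
      exact mul_inv_eq_iff_eq_mul.1 h1
    · rintro ⟨hu, hc⟩
      refine ⟨⟨u, hu⟩, mem_fixOf.2 ?_, rfl⟩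
      rintro _ ⟨a, ha, rfl⟩
      refine Subtype.ext ?_
      rw [hρπ]
      show (a : G) * u * (a : G)⁻¹ = u
      rw [mem_centralizer_iff.1 hc (a : G) ha, mul_inv_cancel_right]
  have hIs : IsOff ρ B := by
    show Nat.card ↥(Y D) ≤ Nat.card B * Nat.card (fixOf ρ B)
    rw [hBcard, ← Subgroup.card_map_of_injective (K := fixOf ρ B) (Y D).subtype_injective, hBfix]
    exact hoff
  have hbot : B = ⊥ := CfsgLib.FourFree.offender_eq_bot (ρ := ρ) φ.range.subtype_injective hg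
    (fun y => Subtype.ext (Y_sq y.2)) T hgen (hTcoe ▸ map_mono fun a ha => hAS ha)
    (by
      rintro _ ⟨a, ha, rfl⟩
      rw [← map_mul, show a * a = 1 from Subtype.ext (hA2 _ ha), map_one]) hIs
  intro a ha
  have h1 : π ⟨a, hAL ha⟩ ∈ B :=
    mem_map_of_mem π (show (⟨a, hAL ha⟩ : ↥D.L) ∈ A.subgroupOf D.L from ha)
  rw [hbot, mem_bot, ← MonoidHom.mem_ker, hπ, MonoidHom.ker_rangeRestrict, hker] at h1
  exact h1

/-- An involution of `S` acting on `Y` as a transvection is in `O`. -/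
theorem no_transvection {a c : G} (ha : a ∈ D.S) (ha2 : a * a = 1) (hc : c * c = 1)
    (h : ∀ y ∈ Y D, a * y * a⁻¹ * y⁻¹ = 1 ∨ a * y * a⁻¹ * y⁻¹ = c) : a ∈ D.O := by
  by_contra haO
  have hane : a ≠ 1 := fun e => haO (e ▸ one_mem _)
  haveI : Fact (Nat.Prime 2) := ⟨Nat.prime_two⟩
  refine haO (no_off hz (A := zpowers a) (zpowers_le.2 ha) ?_ ?_ (mem_zpowers a))
  · rintro b ⟨i, rfl⟩
    show a ^ i * a ^ i = 1
    rw [← zpow_add, ← two_mul, zpow_mul, zpow_two, ha2, one_zpow]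
  · have hcard : Nat.card (zpowers a) = 2 := by
      rw [Nat.card_zpowers]
      exact orderOf_eq_prime (by rw [pow_two]; exact ha2) hane
    have hr : D.O.relIndex (zpowers a) = 2 := by
      have h1 : D.O.relIndex (zpowers a) ∣ 2 := hcard ▸ relIndex_dvd_card _ _
      rcases (Nat.dvd_prime Nat.prime_two).1 h1 with e | e
      · exact absurd (relIndex_eq_one.1 e (mem_zpowers a)) haO
      · exact e
    rw [hr]
    set C := Y D ⊓ centralizer (zpowers a : Set G)
    have haC : ∀ y : G, Commute a y → y ∈ centralizer (zpowers a : Set G) := fun y hy =>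
      mem_centralizer_iff.2 fun t ⟨i, hi⟩ => hi ▸ (hy.zpow_left i).eq
    have key : ∀ y ∈ Y D, ∀ y' ∈ Y D, ¬ Commute a y → ¬ Commute a y' → y * y' ∈ C := by
      intro y hy y' hy' h1 h2
      refine ⟨mul_mem hy hy', haC _ ?_⟩
      have hne : ∀ {u : G}, u ∈ Y D → ¬ Commute a u → a * u * a⁻¹ = c * u := fun {u} hu hn => by
        rcases h u hu with e | e
        · exact absurd (mul_inv_eq_iff_eq_mul.1 (mul_inv_eq_one.1 e)) hn
        · rw [← e, inv_mul_cancel_right]
      have hcY : c ∈ Y D := by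
        rw [show c = a * y * a⁻¹ * y⁻¹ from ((h y hy).resolve_left fun e =>
          h1 (mul_inv_eq_iff_eq_mul.1 (mul_inv_eq_one.1 e))).symm]
        exact mul_mem ((mem_normalizer_iff.1 (L_normalizes_Y (D.hSL ha)) y).1 hy) (inv_mem hy)
      refine mul_inv_eq_iff_eq_mul.1 ?_
      rw [show a * (y * y') * a⁻¹ = (a * y * a⁻¹) * (a * y' * a⁻¹) by group, hne hy h1, hne hy' h2,
        show c * y * (c * y') = c * (y * c) * y' by group, (O_comm_Y (Y_le_O hy) hcY).eq,
        show c * (c * y) * y' = c * c * (y * y') by group, hc, one_mul]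
    by_cases hall : Y D ≤ C
    · have := card_le_of_le hall
      omega
    · obtain ⟨y₀, hy₀, hy₀C⟩ := SetLike.not_le_iff_exists.1 hall
      have hsub : (Y D : Set G) ⊆ (C : Set G) ∪ (fun t => t * y₀) '' (C : Set G) := fun y hy => by
        by_cases hc' : Commute a y
        · exact Or.inl ⟨hy, haC y hc'⟩
        · exact Or.inr ⟨y * y₀⁻¹, (by
            rw [inv_eq_of_mul_eq_one_right (Y_sq hy₀)]
            exact key y hy y₀ hy₀ hc' (fun e => hy₀C ⟨hy₀, haC _ e⟩)), by simp⟩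
      calc Nat.card (Y D) = (Y D : Set G).ncard := (Nat.card_coe_set_eq _)
        _ ≤ ((C : Set G) ∪ (fun t => t * y₀) '' (C : Set G)).ncard :=
            Set.ncard_le_ncard hsub (Set.toFinite _)
        _ ≤ (C : Set G).ncard + ((fun t => t * y₀) '' (C : Set G)).ncard := Set.ncard_union_le _ _
        _ ≤ (C : Set G).ncard + (C : Set G).ncard :=
            Nat.add_le_add_left (Set.ncard_image_le (Set.toFinite _)) _
        _ = 2 * Nat.card C := by rw [two_mul]; rfl

theorem V_commute_Y {v y : G} (hv : v ∈ D.V) (hy : y ∈ Y D) : Commute v y := by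
  refine O_comm_Y (no_transvection hz (D.hKS (V_le_K hv)) (V_sq hv) (zz (D := D)) (fun y hy => ?_)) hy
  have e : v * y * v⁻¹ * y⁻¹ = (y * v * y⁻¹ * v⁻¹)⁻¹ := by group
  rw [e]
  rcases comm_cases (Y_le_S hy) hv with h | h <;> rw [h]
  · left; exact inv_one
  · right; exact z_inv

theorem MM {g : G} (h1 : Cm D.V (Y D) g) (h2 : Cm (Y D) D.V g) : Cm D.V D.V g := by
  intro v hv u hu
  have hu' : g * u * g⁻¹ ∈ D.S :=
    D.hOS (mem_O_of_comm hz fun y hy => (h2 y hy u hu).symm)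
  have hv' : g⁻¹ * v * g ∈ D.S := D.hOS (mem_O_of_comm hz fun y hy => by
    have := h1.inv y hy v hv
    rw [inv_inv] at this
    exact this.symm)
  have e2 : v * (g * u * g⁻¹) * v⁻¹ * (g * u * g⁻¹)⁻¹ =
      g * ((g⁻¹ * v * g) * u * (g⁻¹ * v * g)⁻¹ * u⁻¹) * g⁻¹ := by group
  have e1 : v * (g * u * g⁻¹) * v⁻¹ * (g * u * g⁻¹)⁻¹ =
      ((g * u * g⁻¹) * v * (g * u * g⁻¹)⁻¹ * v⁻¹)⁻¹ := by group
  have hone : v * (g * u * g⁻¹) * v⁻¹ * (g * u * g⁻¹)⁻¹ = 1 → Commute v (g * u * g⁻¹) := fun e =>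
    mul_inv_eq_iff_eq_mul.1 (mul_inv_eq_one.1 e)
  rcases comm_cases hv' hu with e | e
  · exact hone (by rw [e2, e]; group)
  rcases comm_cases hu' hv with e' | e'
  · exact hone (by rw [e1, e', inv_one])
  rw [e2, e, e', z_inv] at e1
  have hgS : g ∈ D.S := mem_S_of_comm hz (mul_inv_eq_iff_eq_mul.1 e1)
  exact (mem_centralizer_iff.1 (K_le_CV (V_le_K ((mem_normalizer_iff.1
    (M_le_NV (D.hSM hgS)) u).1 hu))) v hv).trans rfl

theorem ML {g : G} (h1 : Cm D.V D.V g) (h2 : Cm (Y D) (Y D) g) : Cm D.V (Y D) g := by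
  intro v hv y hy
  have hv' : g⁻¹ * v * g ∈ D.S := D.hKS (mem_K_of_comm hz fun w hw => by
    have := h1.inv w hw v hv
    rw [inv_inv] at this
    exact this.symm)
  have hgz : g⁻¹ * D.z * g * (g⁻¹ * D.z * g) = 1 := by
    rw [show g⁻¹ * D.z * g * (g⁻¹ * D.z * g) = g⁻¹ * (D.z * D.z) * g by group, zz]; group
  have ha2 : g⁻¹ * v * g * (g⁻¹ * v * g) = 1 := by
    rw [show g⁻¹ * v * g * (g⁻¹ * v * g) = g⁻¹ * (v * v) * g by group, V_sq hv]; group
  have hO := no_transvection hz hv' ha2 hgz (fun t ht => ?_)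
  · have h3 := (O_comm_Y hO hy).map (MulAut.conj g).toMonoidHom
    simp only [MulEquiv.coe_toMonoidHom, MulAut.conj_apply] at h3
    rwa [show g * (g⁻¹ * v * g) * g⁻¹ = v by group] at h3
  · have ht' : g * t * g⁻¹ ∈ D.S :=
      D.hOS (mem_O_of_comm hz fun w hw => (h2 w hw t ht).symm)
    have e : (g⁻¹ * v * g) * t * (g⁻¹ * v * g)⁻¹ * t⁻¹ =
        g⁻¹ * ((g * t * g⁻¹) * v * (g * t * g⁻¹)⁻¹ * v⁻¹)⁻¹ * g := by group
    rw [e]
    rcases comm_cases ht' hv with h | h <;> rw [h]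
    · left; group
    · right; rw [z_inv]

omit hz [Finite G] in
/-- The part of `Y` commuting with the conjugate of `Y` by `g`. -/
def P (D : Data G) (g : G) : Subgroup G :=
  Y D ⊓ centralizer (((Y D).map (MulAut.conj g).toMonoidHom : Subgroup G) : Set G)

theorem LL_half {g : G} (h2 : Cm D.V (Y D) g) (hle : Nat.card (P D g⁻¹) ≤ Nat.card (P D g)) :
    Cm (Y D) (Y D) g := by
  set Y' := (Y D).map (MulAut.conj g).toMonoidHom with hY'
  have hmem : ∀ y ∈ Y D, g * y * g⁻¹ ∈ Y' := fun y hy => mem_map_of_mem _ hy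
  have hY'S : Y' ≤ D.S := by
    rintro _ ⟨y, hy, rfl⟩
    exact D.hKS (mem_K_of_comm hz fun v hv => (h2 v hv y hy).symm)
  have hO : Y' ≤ D.O := by
    refine no_off hz hY'S ?_ ?_
    · rintro _ ⟨y, hy, rfl⟩
      rw [← map_mul, Y_sq hy, map_one]
    · have hmap : (P D g⁻¹).map (MulAut.conj g).toMonoidHom = D.O ⊓ Y' := by
        ext u
        constructor
        · rintro ⟨t, ⟨ht, hc⟩, rfl⟩
          refine ⟨mem_O_of_comm hz fun w hw => ?_, mem_map_of_mem _ ht⟩
          have h3 : Commute (g⁻¹ * w * g⁻¹⁻¹) t :=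
            mem_centralizer_iff.1 hc _ (mem_map_of_mem (MulAut.conj g⁻¹).toMonoidHom hw)
          have h4 := h3.map (MulAut.conj g).toMonoidHom
          simp only [MulEquiv.coe_toMonoidHom, MulAut.conj_apply] at h4 ⊢
          rw [show g * (g⁻¹ * w * g⁻¹⁻¹) * g⁻¹ = w by group] at h4
          exact h4.symm
        · rintro ⟨huO, t, ht, rfl⟩
          refine ⟨t, ⟨ht, mem_centralizer_iff.2 ?_⟩, rfl⟩
          rintro _ ⟨w, hw, rfl⟩
          have h4 := (O_comm_Y huO hw).map (MulAut.conj g⁻¹).toMonoidHom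
          simp only [MulEquiv.coe_toMonoidHom, MulAut.conj_apply] at h4 ⊢
          rw [show g⁻¹ * (g * t * g⁻¹) * g⁻¹⁻¹ = t by group] at h4
          exact h4.symm.eq
      have hc1 : Nat.card (P D g⁻¹) * D.O.relIndex Y' = Nat.card (Y D) := by
        rw [← Subgroup.card_map_of_injective (K := P D g⁻¹) (f := (MulAut.conj g).toMonoidHom)
            (MulAut.conj g).injective, hmap, ← inf_relIndex_right,
          CfsgLib.CFun.card_mul_relIndex' inf_le_right, hY',
          Subgroup.card_map_of_injective (MulAut.conj g).injective]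
      rw [← hc1, mul_comm]
      exact Nat.mul_le_mul_left _ hle
  intro a ha y hy
  exact (O_comm_Y (hO (hmem y hy)) ha).symm

theorem LL {g : G} (h1 : Cm (Y D) D.V g) (h2 : Cm D.V (Y D) g) : Cm (Y D) (Y D) g := by
  rcases le_total (Nat.card (P D g⁻¹)) (Nat.card (P D g)) with h | h
  · exact LL_half hz h2 h
  · have h3 := (LL_half hz (g := g⁻¹) h1.inv (by rwa [inv_inv])).inv
    rwa [inv_inv] at h3

omit hz [Finite G] in
/-- Products of `n` elements of `M ∪ L`. -/
def Word (D : Data G) : ℕ → G → Prop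
  | 0, g => g = 1
  | n + 1, g => ∃ u c, Word D n u ∧ (c ∈ D.M ∨ c ∈ D.L) ∧ g = u * c

omit hz [Finite G] in
theorem word_left (n : ℕ) : ∀ g : G, Word D (n + 1) g →
    ∃ c u, (c ∈ D.M ∨ c ∈ D.L) ∧ Word D n u ∧ g = c * u := by
  induction n with
  | zero =>
    rintro g ⟨u, c, hu, hc, rfl⟩
    exact ⟨c, 1, hc, rfl, by rw [show u = 1 from hu, one_mul, mul_one]⟩
  | succ n ih =>
    rintro g ⟨u, c, hu, hc, rfl⟩
    obtain ⟨c', u', hc', hu', rfl⟩ := ih u hu
    exact ⟨c', u' * c, hc', ⟨u', c, hu', hc, rfl⟩, mul_assoc _ _ _⟩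

omit hz [Finite G] in
theorem word_inv (n : ℕ) : ∀ g : G, Word D n g → Word D n g⁻¹ := by
  induction n with
  | zero => intro g hg; rw [show g = 1 from hg, inv_one]; rfl
  | succ n ih =>
    intro g hg
    obtain ⟨c, u, hc, hu, rfl⟩ := word_left n g hg
    exact ⟨u⁻¹, c⁻¹, ih u hu, hc.imp inv_mem inv_mem, mul_inv_rev _ _⟩

omit hz [Finite G] in
theorem word_mul (m : ℕ) : ∀ (n : ℕ) (g h : G), Word D n g → Word D m h → Word D (n + m) (g * h) := by
  induction m with
  | zero => intro n g h hg hh; rw [show h = 1 from hh, mul_one]; exact hg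
  | succ m ih =>
    rintro n g h hg ⟨u, c, hu, hc, rfl⟩
    exact ⟨g * u, c, ih n g u hg hu, hc, (mul_assoc _ _ _).symm⟩

/-- All four pairs of conjugates commute. -/
theorem all_comm (n : ℕ) : ∀ g : G, Word D n g →
    Cm D.V D.V g ∧ Cm D.V (Y D) g ∧ Cm (Y D) D.V g ∧ Cm (Y D) (Y D) g := by
  induction n with
  | zero =>
    intro g hg
    rw [show g = 1 from hg]
    refine ⟨?_, ?_, ?_, ?_⟩ <;> intro a ha b hb <;> rw [one_mul, inv_one, mul_one]
    · exact mem_centralizer_iff.1 (K_le_CV (V_le_K hb)) a ha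
    · exact V_commute_Y hz ha hb
    · exact (V_commute_Y hz hb ha).symm
    · exact O_comm_Y (Y_le_O ha) hb
  | succ n ih =>
    intro g hg
    have hMV := M_le_NV (D := D)
    have hLY := L_normalizes_Y (D := D)
    obtain ⟨c', u', hc', hu', e'⟩ := word_left n g hg
    obtain ⟨u, c, hu, hc, e⟩ := hg
    obtain ⟨a1, a2, a3, a4⟩ := ih u hu
    obtain ⟨b1, b2, b3, b4⟩ := ih u' hu'
    rcases hc with hc | hc <;> rcases hc' with hc' | hc'
    · have p1 : Cm D.V D.V g := e ▸ a1.right hMV hc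
      have p3 : Cm (Y D) D.V g := e ▸ a3.right hMV hc
      have p2 : Cm D.V (Y D) g := e' ▸ b2.left hMV hc'
      exact ⟨p1, p2, p3, LL hz p3 p2⟩
    · have p1 : Cm D.V D.V g := e ▸ a1.right hMV hc
      have p3 : Cm (Y D) D.V g := e ▸ a3.right hMV hc
      have p4 : Cm (Y D) (Y D) g := e' ▸ b4.left hLY hc'
      exact ⟨p1, ML hz p1 p4, p3, p4⟩
    · have p2 : Cm D.V (Y D) g := e ▸ a2.right hLY hc
      have p4 : Cm (Y D) (Y D) g := e ▸ a4.right hLY hc
      have p1 : Cm D.V D.V g := e' ▸ b1.left hMV hc'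
      have p3 := (ML hz p1.inv p4.inv).inv
      rw [inv_inv] at p3
      exact ⟨p1, p2, p3, p4⟩
    · have p2 : Cm D.V (Y D) g := e ▸ a2.right hLY hc
      have p4 : Cm (Y D) (Y D) g := e ▸ a4.right hLY hc
      have p3 : Cm (Y D) D.V g := e' ▸ b3.left hLY hc'
      exact ⟨MM hz p2 p3, p2, p3, p4⟩

end SelfCase

open SelfCase

/-- Case (ii) of the amalgam: the centralizer of `z` is not equal to `S`. -/
theorem false_of_self {G : Type*} [Group G] [Finite G] (D : Data G)
    (hz : centralizer ({D.z} : Set G) = D.S) : False := by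
  haveI : Fact (Nat.Prime 2) := ⟨Nat.prime_two⟩
  set H := D.M ⊔ D.L with hH
  have hword : ∀ g ∈ H, ∃ n, Word D n g := by
    intro g hg
    rw [hH, sup_eq_closure] at hg
    induction hg using closure_induction with
    | mem u hu => exact ⟨1, 1, u, rfl, hu.imp id id, (one_mul u).symm⟩
    | one => exact ⟨0, rfl⟩
    | mul a b _ _ ha hb =>
      obtain ⟨n, hn⟩ := ha
      obtain ⟨m, hm⟩ := hb
      exact ⟨n + m, word_mul m n a b hn hm⟩
    | inv a _ ha =>
      obtain ⟨n, hn⟩ := ha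
      exact ⟨n, word_inv n a hn⟩
  set gens : Set G := {u | ∃ g ∈ H, ∃ t : G, (t ∈ D.V ∨ t ∈ Y D) ∧ g * t * g⁻¹ = u} with hgens
  set W := closure gens with hW
  have hcomm : ∀ a ∈ gens, ∀ b ∈ gens, Commute a b := by
    rintro _ ⟨g, hg, t, ht, rfl⟩ _ ⟨h, hh, r, hr, rfl⟩
    obtain ⟨n, hn⟩ := hword _ (mul_mem (inv_mem hg) hh)
    obtain ⟨c1, c2, c3, c4⟩ := all_comm hz n _ hn
    have key : Commute t (g⁻¹ * h * r * (g⁻¹ * h)⁻¹) := by
      rcases ht with ht | ht <;> rcases hr with hr | hr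
      exacts [c1 t ht r hr, c2 t ht r hr, c3 t ht r hr, c4 t ht r hr]
    have h4 := key.map (MulAut.conj g).toMonoidHom
    simp only [MulEquiv.coe_toMonoidHom, MulAut.conj_apply] at h4
    rwa [show g * (g⁻¹ * h * r * (g⁻¹ * h)⁻¹) * g⁻¹ = h * r * h⁻¹ by group] at h4
  have hcW : ∀ a ∈ W, ∀ b ∈ W, Commute a b := by
    have h1 : W ≤ centralizer gens :=
      (closure_le _).2 fun a ha => mem_centralizer_iff.2 fun b hb => (hcomm b hb a ha).eq
    have h2 : W ≤ centralizer (W : Set G) := by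
      refine (closure_le _).2 fun a ha => mem_centralizer_iff.2 fun b hb => ?_
      exact (mem_centralizer_iff.1 (h1 hb) a ha).symm
    exact fun a ha b hb => (mem_centralizer_iff.1 (h2 hb) a ha)
  have hsqW : ∀ a ∈ W, a * a = 1 := by
    intro a ha
    induction ha using closure_induction with
    | mem u hu =>
      obtain ⟨g, -, t, ht, rfl⟩ := hu
      rw [show g * t * g⁻¹ * (g * t * g⁻¹) = g * (t * t) * g⁻¹ by group,
        ht.elim V_sq Y_sq]
      group
    | one => exact one_mul 1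
    | mul a b ha hb iha ihb =>
      rw [show a * b * (a * b) = a * (b * a) * b by group, (hcW b hb a ha).eq,
        show a * (a * b) * b = (a * a) * (b * b) by group, iha, ihb, one_mul]
    | inv a _ iha => rw [← mul_inv_rev, iha, inv_one]
  have hWp : IsPGroup 2 W := fun a => ⟨1, Subtype.ext (by simp [pow_two, hsqW a a.2])⟩
  have hHN : H ≤ normalizer (W : Set G) := fun c hc => by
    have h : ∀ {d : G}, d ∈ H → ∀ v ∈ W, d * v * d⁻¹ ∈ W := fun {d} hd v hv => by
      have hle : W ≤ W.comap (MulAut.conj d).toMonoidHom := by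
        refine (closure_le _).2 ?_
        rintro u ⟨g, hg, t, ht, rfl⟩
        show d * _ * d⁻¹ ∈ W
        exact subset_closure ⟨d * g, mul_mem hd hg, t, ht, by group⟩
      exact hle hv
    refine mem_normalizer_iff.2 fun v => ⟨h hc v, fun hv => ?_⟩
    have := h (inv_mem hc) _ hv
    rwa [show c⁻¹ * (c * v * c⁻¹) * c⁻¹⁻¹ = v by group] at this
  have hWne : W ≠ ⊥ := fun e => z_ne (D := D) (mem_bot.1 (e ▸ subset_closure
    ⟨1, one_mem _, D.z, Or.inl z_mem_V, by group⟩ : D.z ∈ (⊥ : Subgroup G)))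
  exact D.not_both_le_normalizer W hWp hWne (le_sup_left.trans hHN) (le_sup_right.trans hHN)

end CfsgLib.NineAmalgam
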