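import Mathlib
import Cfsg.Prelude

/-!
# The hypotheses of S2220 in the case of a normalizer quotient of order eight
-/

namespace CfsgLib.NineAmalgam

/-- A simple group of order `9·2^a·q^b` with a strongly self-centralizing elementary Sylow 3-subgroup whose
normalizer quotient has order eight. -/
structure Setting (G : Type*) [Group G] where
  q : ℕ
  a : ℕ
  b : ℕ
  hq : q.Prime
  hq5 : 5 ≤ q
  hna : ¬ IsMulCommutative G
  hcard : Nat.card G = 9 * 2 ^ a * q ^ b
  R : Sylow 3 G
  hR9 : Nat.card ↥(R : Subgroup G) = 9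
  hR3 : ∀ r ∈ (R : Subgroup G), r ^ 3 = 1
  hR : ∀ k ∈ (R : Subgroup G), k ≠ 1 → Subgroup.centralizer ({k} : Set G) = R
  hE : (R : Subgroup G).relIndex (Subgroup.normalizer ((R : Subgroup G) : Set G)) = 8

end CfsgLib.NineAmalgam
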