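import Cfsg.Agent.Lib.SmallSimple.NineAmalgam.Setting
import Cfsg.Agent.S2219
import Cfsg.Agent.S3341
import Mathlib.GroupTheory.Sylow

/-!
# Reduction of S2220 to a normalizer quotient of order eight

An element of order nine of `R` gives three classes of 3-elements (S2219).  If `R` has exponent three
and two classes, S3341 applies.  Otherwise `N(R)` is transitive on `R \ {1}` with stabilizer `R`.
-/

set_option autoImplicit false
set_option linter.style.haveILetI false

open Subgroup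

namespace CfsgLib.NineAmalgam

namespace Split

variable {G : Type*} [Group G] [Finite G]

theorem card_three {q a b : ℕ} (hq : q.Prime) (hq3 : q ≠ 3)
    (hcard : Nat.card G = 9 * 2 ^ a * q ^ b) (R : Sylow 3 G) :
    Nat.card (R : Subgroup G) = 9 := by
  haveI := Fact.mk Nat.prime_three
  have h3' : ¬ 3 ∣ 2 ^ a * q ^ b := by
    rw [Nat.Prime.dvd_mul Nat.prime_three]
    rintro (d | d)
    · exact absurd (Nat.prime_three.dvd_of_dvd_pow d) (by norm_num)
    · exact hq3 ((Nat.prime_dvd_prime_iff_eq Nat.prime_three hq).mp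
        (Nat.prime_three.dvd_of_dvd_pow d)).symm
  rw [Sylow.card_eq_multiplicity, hcard, mul_assoc, show 9 = 3 ^ 2 by norm_num,
    Nat.factorization_mul (by norm_num)
      (Nat.mul_ne_zero (by positivity) (pow_ne_zero _ hq.ne_zero)),
    Finsupp.add_apply, Nat.prime_three.factorization_pow, Finsupp.single_eq_same,
    Nat.factorization_eq_zero_of_not_dvd h3', add_zero]

theorem commutative {R : Sylow 3 G} (h9 : Nat.card (R : Subgroup G) = 9) :
    IsMulCommutative (R : Subgroup G) := by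
  haveI := Fact.mk Nat.prime_three
  exact IsPGroup.isMulCommutative_of_card_eq_prime_sq (p := 3) (by rw [h9]; norm_num)

/-- An element of order nine of `R` is not conjugate to its fourth power. -/
theorem not_conj_pow_four {R : Sylow 3 G}
    (hR : ∀ k ∈ (R : Subgroup G), k ≠ 1 → centralizer ({k} : Set G) = R)
    (h9 : Nat.card (R : Subgroup G) = 9) {r : G} (hr : r ∈ (R : Subgroup G)) (hr9 : orderOf r = 9)
    (g : G) : g * r * g⁻¹ ≠ r ^ 4 := by
  haveI := Fact.mk Nat.prime_three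
  haveI := commutative h9
  intro e
  obtain ⟨n, hn, hn'⟩ := R.conj_eq_normalizer_conj_of_mem r g⁻¹ hr (by
    rw [inv_inv, e]; exact pow_mem hr 4)
  rw [inv_inv, e] at hn'
  set m := n⁻¹ with hm
  have hmr : m * r * m⁻¹ = r ^ 4 := by rw [hm, inv_inv]; exact hn'.symm
  have hmk : ∀ k : ℕ, m ^ k * r * (m ^ k)⁻¹ = r ^ 4 ^ k := by
    intro k
    induction k with
    | zero => simp
    | succ k ih =>
      rw [pow_succ' m, show m * m ^ k * r * (m * m ^ k)⁻¹ = m * (m ^ k * r * (m ^ k)⁻¹) * m⁻¹ by group,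
        ih, ← conj_pow, hmr, ← pow_mul, pow_succ' 4]
  have hr1 : r ≠ 1 := fun h => by rw [h, orderOf_one] at hr9; omega
  have h3R : m ^ 3 ∈ (R : Subgroup G) := by
    rw [← hR r hr hr1, mem_centralizer_singleton_iff]
    refine mul_inv_eq_iff_eq_mul.1 ?_
    rw [hmk 3, ← pow_mod_orderOf, hr9]
    norm_num
  have hmp : IsPGroup 3 (zpowers m) := by
    obtain ⟨i, hi⟩ := R.2 ⟨m ^ 3, h3R⟩
    have hi' : (m ^ 3) ^ 3 ^ i = 1 := by simpa [Subtype.ext_iff] using hi
    rw [← pow_mul, ← pow_succ'] at hi'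
    obtain ⟨j, -, hj⟩ := (Nat.dvd_prime_pow Nat.prime_three).1 (orderOf_dvd_of_pow_eq_one hi')
    exact IsPGroup.of_card (n := j) (by rw [Nat.card_zpowers, hj])
  have hsup := hmp.to_sup_of_normal_right' R.2 (zpowers_le.2 (inv_mem hn))
  have hmR : m ∈ (R : Subgroup G) := by
    rw [← R.3 hsup le_sup_right]
    exact mem_sup_left (mem_zpowers m)
  have hcomm : m * r * m⁻¹ = r := by
    rw [← hR r hr hr1] at hmR
    rw [mem_centralizer_singleton_iff.1 hmR, mul_inv_cancel_right]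
  rw [hcomm] at hmr
  have h8 : r ^ 3 = 1 := mul_left_cancel (a := r) (by rw [mul_one, ← pow_succ']; exact hmr.symm)
  have := Nat.le_of_dvd (by norm_num) (hr9 ▸ orderOf_dvd_of_pow_eq_one h8)
  omega

/-- An element of order nine gives three classes of 3-elements. -/
theorem three_classes {R : Sylow 3 G}
    (hR : ∀ k ∈ (R : Subgroup G), k ≠ 1 → centralizer ({k} : Set G) = R)
    (h9 : Nat.card (R : Subgroup G) = 9) {r : G} (hr : r ∈ (R : Subgroup G)) (hr3 : r ^ 3 ≠ 1) :
    3 ≤ Nat.card {C : ConjClasses G // ∃ g ∈ C.carrier, g ≠ 1 ∧ orderOf g ∣ 9} := by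
  classical
  have hd : orderOf r ∣ 9 := h9 ▸ Subgroup.orderOf_dvd_natCard _ hr
  have hr9 : orderOf r = 9 := by
    obtain ⟨j, hj, e⟩ := (Nat.dvd_prime_pow Nat.prime_three).1
      (show orderOf r ∣ 3 ^ 2 by norm_num; exact hd)
    interval_cases j
    · exact absurd (by rw [orderOf_eq_one_iff.1 (e.trans (pow_zero 3)), one_pow]) hr3
    · exact absurd (by rw [← pow_one 3, ← e, pow_orderOf_eq_one]) hr3
    · rw [e]; norm_num
  have hmem : ∀ {g : G}, g ∈ (R : Subgroup G) → g ≠ 1 →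
      ∃ x ∈ (ConjClasses.mk g).carrier, x ≠ 1 ∧ orderOf x ∣ 9 := fun {g} hg h1 =>
    ⟨g, ConjClasses.mem_carrier_mk, h1, h9 ▸ Subgroup.orderOf_dvd_natCard _ hg⟩
  have hr1 : r ≠ 1 := fun h => hr3 (by rw [h, one_pow])
  have h4 : orderOf (r ^ 4) = 9 := by
    rw [orderOf_pow' r (by norm_num), hr9]
    norm_num
  have h41 : r ^ 4 ≠ 1 := fun h => by rw [h, orderOf_one] at h4; omega
  have hne : ∀ {x y : G}, orderOf x ≠ orderOf y → ConjClasses.mk x ≠ ConjClasses.mk y :=
    fun {x y} hxy e => hxy (by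
      obtain ⟨c, hc⟩ := isConj_iff.1 (ConjClasses.mk_eq_mk_iff_isConj.1 e)
      rw [← hc]
      exact ((MulAut.conj c).orderOf_eq x).symm)
  have h33 : orderOf (r ^ 3) = 3 := by
    rw [orderOf_pow' r (by norm_num), hr9]
    norm_num
  have hA : ConjClasses.mk r ≠ ConjClasses.mk (r ^ 4) := fun e => by
    obtain ⟨c, hc⟩ := isConj_iff.1 (ConjClasses.mk_eq_mk_iff_isConj.1 e)
    exact not_conj_pow_four hR h9 hr hr9 c hc
  let f : Fin 3 → {C : ConjClasses G // ∃ g ∈ C.carrier, g ≠ 1 ∧ orderOf g ∣ 9} :=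
    ![⟨_, hmem hr hr1⟩, ⟨_, hmem (pow_mem hr 4) h41⟩, ⟨_, hmem (pow_mem hr 3) hr3⟩]
  have hinj : Function.Injective f := by
    have hB : ConjClasses.mk r ≠ ConjClasses.mk (r ^ 3) := hne (by rw [hr9, h33]; norm_num)
    have hC : ConjClasses.mk (r ^ 4) ≠ ConjClasses.mk (r ^ 3) := hne (by rw [h4, h33]; norm_num)
    intro i j hij
    fin_cases i <;> fin_cases j <;> simp_all [f, Subtype.ext_iff]
  simpa using Nat.card_le_card_of_injective f hinj

/-- With one class of elements of order three the normalizer quotient has order eight. -/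
theorem relIndex_eight {R : Sylow 3 G}
    (hR : ∀ k ∈ (R : Subgroup G), k ≠ 1 → centralizer ({k} : Set G) = R)
    (h9 : Nat.card (R : Subgroup G) = 9) (h3 : ∀ r ∈ (R : Subgroup G), r ^ 3 = 1)
    (hone : ∀ a b : G, orderOf a = 3 → orderOf b = 3 → ∃ g : G, g * a * g⁻¹ = b) :
    (R : Subgroup G).relIndex (normalizer ((R : Subgroup G) : Set G)) = 8 := by
  classical
  haveI := Fact.mk Nat.prime_three
  haveI := commutative h9
  have hord : ∀ r ∈ (R : Subgroup G), r ≠ 1 → orderOf r = 3 := fun r hr h1 =>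
    orderOf_eq_prime (h3 r hr) h1
  have hset : (((R : Subgroup G) : Set G) \ {1}).ncard = 8 := by
    rw [Set.ncard_sdiff_singleton_of_mem (one_mem (R : Subgroup G)), ← Nat.card_coe_set_eq,
      SetLike.coe_sort_coe, h9]
  obtain ⟨k, hk, hk1⟩ : ∃ k ∈ (R : Subgroup G), k ≠ 1 := by
    obtain ⟨k, hk, hk1⟩ := Set.nonempty_of_ncard_ne_zero (s := ((R : Subgroup G) : Set G) \ {1})
      (by omega)
    exact ⟨k, hk, hk1⟩
  set N := normalizer ((R : Subgroup G) : Set G) with hN
  let f : ↥N → ↥(((R : Subgroup G) : Set G) \ {1}) := fun n =>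
    ⟨(n : G) * k * (n : G)⁻¹, (mem_normalizer_iff.1 n.2 k).1 hk, fun e => hk1 (by simpa using e)⟩
  have hsurj : Function.Surjective f := fun y => by
    obtain ⟨g, hg⟩ := hone k y (hord k hk hk1) (hord _ y.2.1 y.2.2)
    obtain ⟨n, hn, hn'⟩ := R.conj_eq_normalizer_conj_of_mem k g⁻¹ hk (by
      rw [inv_inv, hg]; exact y.2.1)
    refine ⟨⟨n⁻¹, inv_mem hn⟩, Subtype.ext ?_⟩
    show n⁻¹ * k * n⁻¹⁻¹ = y
    rw [inv_inv, ← hn', inv_inv, hg]
  have hker : QuotientGroup.leftRel ((R : Subgroup G).subgroupOf N) = Setoid.ker f := by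
    refine Setoid.ext fun m n => ?_
    rw [QuotientGroup.leftRel_apply, mem_subgroupOf, Setoid.ker_def, Subtype.ext_iff]
    show (m : G)⁻¹ * (n : G) ∈ (R : Subgroup G) ↔ (m : G) * k * (m : G)⁻¹ = (n : G) * k * (n : G)⁻¹
    conv_lhs => rw [← hR k hk hk1]
    rw [mem_centralizer_singleton_iff]
    constructor
    · intro h
      calc (m : G) * k * (m : G)⁻¹ = m * (k * ((m : G)⁻¹ * n)) * (n : G)⁻¹ := by group
        _ = m * ((m : G)⁻¹ * n * k) * (n : G)⁻¹ := by rw [h]
        _ = (n : G) * k * (n : G)⁻¹ := by group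
    · intro h
      calc (m : G)⁻¹ * n * k = (m : G)⁻¹ * ((n : G) * k * (n : G)⁻¹) * n := by group
        _ = (m : G)⁻¹ * ((m : G) * k * (m : G)⁻¹) * n := by rw [h]
        _ = k * ((m : G)⁻¹ * n) := by group
  calc (R : Subgroup G).relIndex N
      = Nat.card (Quotient (QuotientGroup.leftRel ((R : Subgroup G).subgroupOf N))) := rfl
    _ = Nat.card (Quotient (Setoid.ker f)) := by rw [hker]
    _ = 8 := by rw [Nat.card_congr (Setoid.quotientKerEquivOfSurjective f hsurj),
        Nat.card_coe_set_eq, hset]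

end Split

/-- S2220 holds or the group satisfies `Setting`. -/
theorem exists_setting {G : Type*} [Group G] [Finite G] [IsSimpleGroup G]
    (hG : ¬ IsMulCommutative G) (q a b : ℕ) (hq : q.Prime) (hq2 : q ≠ 2) (hq3 : q ≠ 3)
    (hcard : Nat.card G = 9 * 2 ^ a * q ^ b) (R : Sylow 3 G)
    (hR : ∀ k ∈ (R : Subgroup G), k ≠ 1 → Subgroup.centralizer ({k} : Set G) = R) :
    (Nonempty (G ≃* ↥(alternatingGroup (Fin 6))) ∨
      (∃ (F : Type) (_ : Field F) (_ : Fintype F), Fintype.card F = 8 ∧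
        Nonempty (G ≃* Matrix.ProjectiveSpecialLinearGroup (Fin 2) F)) ∨
      Nonempty (G ≃* Matrix.ProjectiveSpecialLinearGroup (Fin 2) (ZMod 17))) ∨
      Nonempty (Setting G) := by
  have h9 := Split.card_three hq hq3 hcard R
  by_cases hc : 3 ≤ Nat.card {C : ConjClasses G // ∃ g ∈ C.carrier, g ≠ 1 ∧ orderOf g ∣ 9}
  · exact Or.inl (Or.inr (Cfsg.Agent.S2219.result hG q a b hq hq2 hq3 hcard hc))
  have h3 : ∀ r ∈ (R : Subgroup G), r ^ 3 = 1 := fun r hr => by
    by_contra h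
    exact hc (Split.three_classes hR h9 hr h)
  by_cases hcl : ∃ a b : G, orderOf a = 3 ∧ orderOf b = 3 ∧ ∀ g : G, g * a * g⁻¹ ≠ b
  · exact Or.inl (Or.inl (Cfsg.Agent.S3341.result R (R : Subgroup G) rfl (Split.commutative h9)
      h3 h9 hcl hR))
  have h5 : 5 ≤ q := by
    have h4 : q ≠ 4 := fun e => absurd (e ▸ hq) (by norm_num)
    have := hq.two_le
    omega
  exact Or.inr ⟨⟨q, a, b, hq, h5, hG, hcard, R, h9, h3, hR, Split.relIndex_eight hR h9 h3
    fun x y hx hy => by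
      by_contra h
      exact hcl ⟨x, y, hx, hy, fun g hg => h ⟨g, hg⟩⟩⟩⟩

end CfsgLib.NineAmalgam
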